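import Groth.Agent.GrLC.K762.Base
import Mathlib.RingTheory.Noetherian.Basic
import Mathlib.RingTheory.Finiteness.Basic
import Mathlib.RingTheory.Finiteness.Ideal
import Mathlib.RingTheory.Ideal.Operations

/-!
# Graded Nakayama lemmas and finiteness over the degree zero field
-/

set_option autoImplicit false
set_option linter.unusedSectionVars false
universe u

open DirectSum

namespace K762.Nak

open K762.Base

section General

variable {R : Type u} [CommRing R] {M : Type u} [AddCommGroup M] [Module R M]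

/-- Elements of `(θ) M` are the combinations of the `θ i`. -/
theorem mem_span_range_smul_top {κ : Type*} [Fintype κ] (θ : κ → R) {x : M} :
    x ∈ (Ideal.span (Set.range θ) • ⊤ : Submodule R M) ↔ ∃ z : κ → M, x = ∑ i, θ i • z i := by
  constructor
  · intro hx
    refine Submodule.smul_induction_on hx ?_ ?_
    · intro r hr y _
      rw [Ideal.span, Submodule.mem_span_range_iff_exists_fun] at hr
      obtain ⟨c, rfl⟩ := hr
      refine ⟨fun i => c i • y, ?_⟩
      rw [Finset.sum_smul]
      exact Finset.sum_congr rfl fun i _ => by rw [smul_eq_mul, mul_comm, mul_smul]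
    · rintro _ _ ⟨z, rfl⟩ ⟨z', rfl⟩
      exact ⟨fun i => z i + z' i, by simp only [smul_add, Finset.sum_add_distrib]⟩
  · rintro ⟨z, rfl⟩
    exact Submodule.sum_mem _ fun i _ =>
      Submodule.smul_mem_smul (Ideal.subset_span ⟨i, rfl⟩) Submodule.mem_top

end General

section Graded

variable {R : Type u} [CommRing R]
  {σ : Type u} [SetLike σ R] [AddSubgroupClass σ R] {𝒜 : ℤ → σ} [GradedRing 𝒜]
  {M : Type u} [AddCommGroup M] [Module R M]
  {τ : Type u} [SetLike τ M] [AddSubgroupClass τ M] {ℳ : ℤ → τ} [Decomposition ℳ]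
  [SetLike.GradedSMul 𝒜 ℳ]

variable (ℳ) in
/-- The pieces vanish in degrees below some bound. -/
def BddBelow : Prop := ∃ b : ℤ, ∀ i : ℤ, i < b → ∀ x ∈ ℳ i, x = 0

/-- Graded Nakayama lemma, in the form of generation of `M` by a homogeneous subgroup stable under the
`θ i`. -/
theorem mem_of_gen {κ : Type*} [Fintype κ] (θ : κ → R) (w : κ → ℤ) (hθ : ∀ i, θ i ∈ 𝒜 (w i))
    (hw : ∀ i, 0 < w i) (hb : BddBelow ℳ) (N : AddSubgroup M)
    (hN : ∀ i, ∀ x ∈ N, θ i • x ∈ N) (hN' : ∀ i, ∀ x ∈ N, pr ℳ i x ∈ N)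
    (hgen : ∀ x : M, ∃ y ∈ N, x - y ∈ (Ideal.span (Set.range θ) • ⊤ : Submodule R M)) (x : M) :
    x ∈ N := by
  obtain ⟨b, hb⟩ := hb
  refine mem_of_homog (ℳ := ℳ) ?_ x
  suffices H : ∀ (t : ℕ) (i : ℤ), i < b + t → ∀ x ∈ ℳ i, x ∈ N by
    intro i x hx
    exact H (i - b + 1).toNat i (by omega) x hx
  intro t
  induction t with
  | zero =>
    intro i hi x hx
    rw [hb i (by simpa using hi) x hx]
    exact N.zero_mem
  | succ t ih =>
    intro i hi x hx
    obtain ⟨y, hy, hxy⟩ := hgen x
    obtain ⟨z, hz⟩ := (mem_span_range_smul_top θ).mp hxy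
    have h1 : x = pr ℳ i y + ∑ j, θ j • pr ℳ (i - w j) (z j) := by
      have h2 : pr ℳ i (x - y) = ∑ j, θ j • pr ℳ (i - w j) (z j) := by
        rw [hz, pr_sum]
        exact Finset.sum_congr rfl fun j _ => pr_smul (𝒜 := 𝒜) (hθ j) i (z j)
      rw [← h2, pr_sub, pr_of_mem hx]
      abel
    rw [h1]
    refine N.add_mem (hN' i y hy) (sum_mem fun j _ => hN j _ (ih (i - w j) ?_ _ (pr_mem _ _)))
    have := hw j
    push_cast at hi
    omega

/-- A finitely generated graded module over a ring with `R_n = 0` for `n < 0` is bounded below. -/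
theorem bddBelow_of_finite (hpos : ∀ n : ℤ, n < 0 → ∀ x ∈ 𝒜 n, x = 0) [Module.Finite R M] :
    BddBelow ℳ := by
  classical
  obtain ⟨s, hs⟩ := Module.Finite.fg_top (R := R) (M := M)
  choose T hT using fun x : M => exists_sum_pr (ℳ := ℳ) x
  -- the finite set of degrees occurring
  let D : Finset ℤ := s.biUnion T
  obtain ⟨b, hbD⟩ : ∃ b : ℤ, ∀ j ∈ D, b ≤ j := by
    rcases D.eq_empty_or_nonempty with h | h
    · exact ⟨0, fun j hj => by rw [h] at hj; simp at hj⟩
    · exact ⟨D.min' h, fun j hj => D.min'_le j hj⟩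
  refine ⟨b, fun i hi x hx => ?_⟩
  have key : ∀ y : M, ∀ i : ℤ, i < b → pr ℳ i y = 0 := by
    intro y
    have hy : y ∈ Submodule.span R (s : Set M) := by rw [hs]; exact Submodule.mem_top
    induction hy using Submodule.span_induction with
    | mem y hy =>
      intro i hi
      conv_lhs => rw [← hT y, pr_sum]
      refine Finset.sum_eq_zero fun j hj => pr_of_mem_ne (pr_mem j y) ?_
      have := hbD j (Finset.mem_biUnion.mpr ⟨y, hy, hj⟩)
      omega
    | zero => intro i _; exact pr_zero i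
    | add y z _ _ hy hz => intro i hi; rw [pr_add, hy i hi, hz i hi, add_zero]
    | smul a y _ hy =>
      intro i hi
      obtain ⟨u, hu⟩ := exists_sum_pr (ℳ := 𝒜) a
      rw [← hu, Finset.sum_smul, pr_sum]
      refine Finset.sum_eq_zero fun j _ => ?_
      rw [pr_smul (𝒜 := 𝒜) (pr_mem j a)]
      rcases lt_or_ge j 0 with hj | hj
      · rw [hpos j hj _ (pr_mem j a), zero_smul]
      · rw [hy (i - j) (by omega), smul_zero]
  rw [← pr_of_mem hx]
  exact key x i hi

/-- Homogeneous elements of `I ^ N • M` where `I` is generated by elements of positive degree: they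
vanish in low degrees. -/
theorem eq_zero_of_mem_pow_smul {I : Ideal R} (hpos : ∀ n : ℤ, n < 0 → ∀ x ∈ 𝒜 n, x = 0)
    (hI : ∀ x ∈ I, pr 𝒜 0 x = 0) {b : ℤ} (hb : ∀ i : ℤ, i < b → ∀ x ∈ ℳ i, x = 0)
    (N : ℕ) (x : M) (hx : x ∈ (I ^ N • ⊤ : Submodule R M)) (i : ℤ) (hi : i < b + N) :
    pr ℳ i x = 0 := by
  induction N generalizing x i with
  | zero => exact hb i (by simpa using hi) _ (pr_mem i x)
  | succ N ih =>
    rw [pow_succ', mul_smul] at hx
    refine Submodule.smul_induction_on hx ?_ ?_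
    · intro r hr y hy
      obtain ⟨u, hu⟩ := exists_sum_pr (ℳ := 𝒜) r
      rw [← hu, Finset.sum_smul, pr_sum]
      refine Finset.sum_eq_zero fun j _ => ?_
      rw [pr_smul (𝒜 := 𝒜) (pr_mem j r)]
      rcases lt_trichotomy j 0 with hj | hj | hj
      · rw [hpos j hj _ (pr_mem j r), zero_smul]
      · subst hj
        rw [hI r hr, zero_smul]
      · rw [ih y hy (i - j) (by push_cast at hi; omega), smul_zero]
    · intro y z hy hz
      rw [pr_add, hy, hz, add_zero]

end Graded

section Field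

variable {k : Type u} [Field k] {R : Type u} [CommRing R] [Algebra k R]
  {M : Type u} [AddCommGroup M] [Module R M] [Module k M] [IsScalarTower k R M]

/-- If `R = k + m`, `R` is Noetherian and `M` is a finite module, then `M / m ^ N M` is finite over `k`. -/
theorem exists_finset_pow [IsNoetherianRing R] {m : Ideal R}
    (hm : ∀ x : R, ∃ c : k, x - algebraMap k R c ∈ m) [Module.Finite R M] (N : ℕ) :
    ∃ S : Finset M, ∀ x : M, ∃ y ∈ Submodule.span k (S : Set M), x - y ∈ (m ^ N • ⊤ : Submodule R M) := by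
  classical
  induction N with
  | zero => exact ⟨∅, fun x => ⟨0, Submodule.zero_mem _, by simp⟩⟩
  | succ N ih =>
    obtain ⟨S, hS⟩ := ih
    have hfg : (m ^ N • ⊤ : Submodule R M).FG := IsNoetherian.noetherian _
    obtain ⟨T, hT⟩ := hfg
    refine ⟨S ∪ T, fun x => ?_⟩
    obtain ⟨y, hy, hxy⟩ := hS x
    rw [← hT] at hxy
    have key : ∀ z ∈ Submodule.span R (T : Set M), ∃ y ∈ Submodule.span k ((S ∪ T : Finset M) : Set M),
        z - y ∈ (m ^ (N + 1) • ⊤ : Submodule R M) := by
      intro z hz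
      induction hz using Submodule.span_induction with
      | mem z hz =>
        exact ⟨z, Submodule.subset_span (by simp [Finset.mem_coe.mp hz]), by simp⟩
      | zero => exact ⟨0, Submodule.zero_mem _, by simp⟩
      | add a b _ _ ha hb =>
        obtain ⟨ya, hya, ha⟩ := ha
        obtain ⟨yb, hyb, hb⟩ := hb
        refine ⟨ya + yb, Submodule.add_mem _ hya hyb, ?_⟩
        have := Submodule.add_mem _ ha hb
        rwa [show a - ya + (b - yb) = a + b - (ya + yb) by abel] at this
      | smul r a ha' ha =>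
        obtain ⟨ya, hya, ha⟩ := ha
        obtain ⟨c, hc⟩ := hm r
        refine ⟨c • ya, Submodule.smul_mem _ _ hya, ?_⟩
        have h1 : r • a - c • ya = algebraMap k R c • (a - ya) + (r - algebraMap k R c) • a := by
          rw [← algebraMap_smul R c ya, smul_sub, sub_smul]
          abel
        rw [h1]
        refine Submodule.add_mem _ (Submodule.smul_mem _ _ ha) ?_
        rw [pow_succ', mul_smul]
        refine Submodule.smul_mem_smul hc ?_
        rw [← hT]
        exact ha'
    obtain ⟨y', hy', hxy'⟩ := key _ hxy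
    refine ⟨y + y', Submodule.add_mem _ (Submodule.span_mono (by simp) hy) hy', ?_⟩
    rwa [show x - (y + y') = x - y - y' by abel]

theorem finite_quotient [IsNoetherianRing R] {m : Ideal R}
    (hm : ∀ x : R, ∃ c : k, x - algebraMap k R c ∈ m) [Module.Finite R M] (N : ℕ)
    (P : Submodule R M) (hP : (m ^ N • ⊤ : Submodule R M) ≤ P) : Module.Finite k (M ⧸ P) := by
  classical
  obtain ⟨S, hS⟩ := exists_finset_pow (k := k) (M := M) hm N
  refine ⟨⟨S.image P.mkQ, ?_⟩⟩
  rw [eq_top_iff]
  intro q _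
  obtain ⟨x, rfl⟩ := P.mkQ_surjective q
  obtain ⟨y, hy, hxy⟩ := hS x
  have h1 : P.mkQ x = P.mkQ y := by
    rw [← sub_eq_zero, ← map_sub, Submodule.mkQ_apply, Submodule.Quotient.mk_eq_zero]
    exact hP hxy
  rw [h1]
  have h2 : (P.mkQ.restrictScalars k) y ∈ (Submodule.span k (S : Set M)).map (P.mkQ.restrictScalars k) :=
    Submodule.mem_map_of_mem hy
  rw [Submodule.map_span] at h2
  rw [Finset.coe_image]
  exact h2

end Field

section PosField

variable {k : Type u} [Field k] {R : Type u} [CommRing R] [Algebra k R]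
  {σ : Type u} [SetLike σ R] [AddSubgroupClass σ R] {𝒜 : ℤ → σ} [GradedRing 𝒜] {m : Ideal R}
  {M : Type u} [AddCommGroup M] [Module R M] [Module k M] [IsScalarTower k R M]
  {τ : Type u} [SetLike τ M] [AddSubgroupClass τ M] {ℳ : ℤ → τ} [Decomposition ℳ]
  [SetLike.GradedSMul 𝒜 ℳ]

/-- The pieces of a finitely generated graded module over a graded Noetherian ring with `R_0 = k` are
finite-dimensional: there is a finite set spanning the homogeneous elements of degree `i`. -/
theorem exists_finset_piece (h : PosField k 𝒜 m) [IsNoetherianRing R] [Module.Finite R M] (i : ℤ) :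
    ∃ S : Finset M, (∀ x ∈ S, x ∈ ℳ i) ∧ ∀ x ∈ ℳ i, x ∈ Submodule.span k (S : Set M) := by
  classical
  obtain ⟨b, hb⟩ := bddBelow_of_finite (𝒜 := 𝒜) (ℳ := ℳ) (M := M) h.pos
  obtain ⟨N, hN⟩ : ∃ N : ℕ, i < b + N := ⟨(i - b + 1).toNat, by omega⟩
  obtain ⟨S, hS⟩ := exists_finset_pow (k := k) (M := M) h.exists_sub_mem N
  refine ⟨S.image (pr ℳ i), ?_, fun x hx => ?_⟩
  · intro x hx
    obtain ⟨y, _, rfl⟩ := Finset.mem_image.mp hx
    exact pr_mem i y
  · obtain ⟨y, hy, hxy⟩ := hS x
    have h1 : pr ℳ i (x - y) = 0 :=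
      eq_zero_of_mem_pow_smul (𝒜 := 𝒜) h.pos (fun x hx => h.pr_zero_eq_zero hx) hb N _ hxy i hN
    rw [pr_sub, pr_of_mem hx, sub_eq_zero] at h1
    rw [h1]
    have hlin : ∀ (c : k) (z : M), pr ℳ i (c • z) = c • pr ℳ i z := by
      intro c z
      rw [← algebraMap_smul R c z, pr_smul (𝒜 := 𝒜) (h.alg c), sub_zero, algebraMap_smul]
    let f : M →ₗ[k] M :=
      { toFun := pr ℳ i
        map_add' := pr_add i
        map_smul' := fun c z => hlin c z }
    have h2 : f y ∈ (Submodule.span k (S : Set M)).map f := Submodule.mem_map_of_mem hy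
    rw [Submodule.map_span] at h2
    rw [Finset.coe_image]
    exact h2

end PosField

end K762.Nak
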