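import Groth.Agent.GrLC.K762.Tower
import Groth.Agent.GrLC.K763.HGr

/-!
# The `a`-invariant and parameters
-/

set_option autoImplicit false
set_option linter.unusedSectionVars false
set_option linter.style.haveILetI false
universe u

open DirectSum GrLC

namespace K762.AInv

open K762.Base K762.Nak K762.Reg K762.Tower K963.Iface RingTheory.Sequence

section Map

variable {ι : Type} [AddCommGroup ι] [DecidableEq ι]
variable {R : Type u} [CommRing R]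
variable {M : Type u} [AddCommGroup M] [Module R M] {τ : Type u} [SetLike τ M] [AddSubgroupClass τ M]
  {ℳ : ι → τ} [DirectSum.Decomposition ℳ]
variable {N : Type u} [AddCommGroup N] [Module R N] {τN : Type u} [SetLike τN N] [AddSubgroupClass τN N]
  {𝒩 : ι → τN} [DirectSum.Decomposition 𝒩]

theorem map_pr {f : M →ₗ[R] N} {d : ι} (hf : IsGrHomDeg ℳ 𝒩 f d) (i : ι) (x : M) :
    f (pr ℳ i x) = pr 𝒩 (i + d) (f x) := by
  obtain ⟨s, hs⟩ := exists_sum_pr (ℳ := ℳ) x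
  have h1 : ∀ j, pr 𝒩 (i + d) (f (pr ℳ j x)) = if j = i then f (pr ℳ i x) else 0 := by
    intro j
    split_ifs with h
    · rw [h]
      exact pr_of_mem (hf i _ (pr_mem i x))
    · exact pr_of_mem_ne (hf j _ (pr_mem j x)) fun h' => h (add_right_cancel h')
  conv_rhs => rw [← hs, map_sum, pr_sum]
  rw [Finset.sum_congr rfl fun a _ => h1 a, Finset.sum_ite_eq']
  split_ifs with hi
  · rfl
  · have : pr ℳ i x = 0 := by
      rw [← hs, pr_sum]
      refine Finset.sum_eq_zero fun j hj => pr_of_mem_ne (pr_mem j x) ?_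
      rintro rfl
      exact hi hj
    rw [this, map_zero]

end Map

variable {k : Type u} [Field k] {R : Type u} [CommRing R] [Algebra k R]
  {σ : Type u} [SetLike σ R] [AddSubgroupClass σ R] {𝒜 : ℤ → σ} [GradedRing 𝒜]
  {M : Type u} [AddCommGroup M] [Module R M] {τ : Type u} [SetLike τ M] [AddSubgroupClass τ M]
  {ℳ : ℤ → τ} [Decomposition ℳ] [SetLike.GradedSMul 𝒜 ℳ]
  {m : HomogeneousIdeal 𝒜} {n : ℕ} {θ : Fin n → R} {w : Fin n → ℤ}

/-- In a torsion graded module, every nonzero homogeneous element has a nonzero multiple killed by `m`, of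
larger degree. -/
theorem exists_socle (h : PosField k 𝒜 m.toIdeal) {y : M} (hy0 : y ≠ 0)
    (htor : y ∈ gam m.toIdeal M) : ∃ j : ℤ, 0 ≤ j ∧ ∃ r ∈ 𝒜 j, r • y ≠ 0 ∧ ∀ s ∈ m.toIdeal, s • r • y = 0 := by
  classical
  have hex : ∃ N : ℕ, ∀ r ∈ m.toIdeal ^ N, r • y = 0 := htor
  obtain ⟨p, hp, hpmin⟩ : ∃ p : ℕ, (∀ r ∈ m.toIdeal ^ p, r • y = 0) ∧
      ∀ q < p, ¬ ∀ r ∈ m.toIdeal ^ q, r • y = 0 :=
    ⟨Nat.find hex, Nat.find_spec hex, fun q hq => Nat.find_min hex hq⟩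
  have hp0 : p ≠ 0 := by
    rintro rfl
    exact hy0 (by simpa using hp 1 (by simp))
  have h2 := hpmin (p - 1) (by omega)
  push Not at h2
  obtain ⟨r, hr, hry⟩ := h2
  obtain ⟨j, hj⟩ : ∃ j, pr 𝒜 j r • y ≠ 0 := by
    by_contra hcon
    push Not at hcon
    apply hry
    obtain ⟨u, hu⟩ := exists_sum_pr (ℳ := 𝒜) r
    rw [← hu, Finset.sum_smul]
    exact Finset.sum_eq_zero fun i _ => hcon i
  have hrj : pr 𝒜 j r ∈ m.toIdeal ^ (p - 1) := K762.Soc.isHomogeneous_pow h.isHomogeneous _ j hr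
  refine ⟨j, ?_, pr 𝒜 j r, pr_mem j r, hj, fun s hs => ?_⟩
  · by_contra hneg
    rw [h.pos j (by omega) _ (pr_mem j r), zero_smul] at hj
    exact hj rfl
  · rw [← mul_smul]
    refine hp _ ?_
    have : p = (p - 1) + 1 := by omega
    rw [this, pow_succ']
    exact Ideal.mul_mem_mul hs hrj

/-- nonzero elements of top local cohomology come from nonzero elements of `M / θ M`. -/
theorem exists_of_ne_zero [IsNoetherianRing R] (h : PosField k 𝒜 m.toIdeal) (hθ : ∀ i, θ i ∈ 𝒜 (w i))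
    (hw : ∀ i, 0 < w i) (hreg : IsWeaklyRegular M (List.ofFn θ))
    (htor : ∀ x : M, ∃ N : ℕ, ∀ r ∈ m.toIdeal ^ N, r • x ∈ (Ideal.span (Set.range θ) • ⊤ : Submodule R M))
    (E : StarInjRes 𝒜 ℳ) {g : ℤ} {y : E.H m n} (hy : y ∈ E.Hcomp m n g) (hy0 : y ≠ 0) :
    ∃ j, g ≤ j ∧ ∃ x ∈ ℳ (j + ∑ i, w i), x ∉ (Ideal.span (Set.range θ) • ⊤ : Submodule R M) := by
  have hθm : ∀ i, θ i ∈ m.toIdeal := fun i => h.mem_of_pos (hw i) (hθ i)
  obtain ⟨-, ψ, hψk, hψr, hψd, -⟩ := tower m n θ w hθ hθm hreg htor E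
  letI := Hdec E m n
  haveI := Hgsmul E m n
  obtain ⟨j, hj, r, hr, hr0, hsoc⟩ := exists_socle h hy0
    (by rw [gam_H]; exact Submodule.mem_top)
  obtain ⟨x, hx⟩ := (hψr (r • y)).mpr fun i => hsoc _ (hθm i)
  have hdeg : IsGrHomDeg ℳ (E.Hgr m n) ψ (- ∑ i, w i) := by
    intro g x hx
    rw [← sub_eq_add_neg]
    exact hψd g x hx
  refine ⟨j + g, by omega, pr ℳ (j + g + ∑ i, w i) x, pr_mem _ _, fun hmem => hr0 ?_⟩
  rw [← hψk, LinearMap.mem_ker, map_pr hdeg, hx, add_neg_cancel_right, pr_of_mem] at hmem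
  · exact hmem
  · exact smul_mem (𝒜 := 𝒜) (ℳ := E.Hgr m n) hr hy rfl

/-- Nonzero elements of `M / θ M` give nonzero elements of top local cohomology. -/
theorem exists_ne_zero [IsNoetherianRing R] (h : PosField k 𝒜 m.toIdeal) (hθ : ∀ i, θ i ∈ 𝒜 (w i))
    (hw : ∀ i, 0 < w i) (hreg : IsWeaklyRegular M (List.ofFn θ))
    (htor : ∀ x : M, ∃ N : ℕ, ∀ r ∈ m.toIdeal ^ N, r • x ∈ (Ideal.span (Set.range θ) • ⊤ : Submodule R M))
    (E : StarInjRes 𝒜 ℳ) {g : ℤ} {x : M} (hx : x ∈ ℳ g)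
    (hx0 : x ∉ (Ideal.span (Set.range θ) • ⊤ : Submodule R M)) :
    ∃ y ∈ E.Hcomp m n (g - ∑ i, w i), y ≠ 0 := by
  have hθm : ∀ i, θ i ∈ m.toIdeal := fun i => h.mem_of_pos (hw i) (hθ i)
  obtain ⟨-, ψ, hψk, hψr, hψd, -⟩ := tower m n θ w hθ hθm hreg htor E
  exact ⟨ψ x, hψd g x hx, fun h0 => hx0 (by rw [← hψk]; exact h0)⟩

theorem ne_bot_iff {X : Type u} [AddCommGroup X] {P : AddSubgroup X} : P ≠ ⊥ ↔ ∃ x ∈ P, x ≠ 0 := by
  rw [Ne, AddSubgroup.eq_bot_iff_forall]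
  push Not
  rfl

/-- The `a`-invariant formula. -/
theorem endDeg_eq_iff [IsNoetherianRing R] (h : PosField k 𝒜 m.toIdeal) (hθ : ∀ i, θ i ∈ 𝒜 (w i))
    (hw : ∀ i, 0 < w i) (hreg : IsWeaklyRegular M (List.ofFn θ))
    (htor : ∀ x : M, ∃ N : ℕ, ∀ r ∈ m.toIdeal ^ N, r • x ∈ (Ideal.span (Set.range θ) • ⊤ : Submodule R M))
    (E : StarInjRes 𝒜 ℳ) {a : ℤ} : endDeg (E.Hgr m n) = ((a : WithTop ℤ) : WithBot (WithTop ℤ)) ↔
      (∃ x ∈ ℳ (a + ∑ i, w i), x ∉ (Ideal.span (Set.range θ) • ⊤ : Submodule R M)) ∧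
      ∀ i, a + ∑ i, w i < i → ∀ x ∈ ℳ i, x ∈ (Ideal.span (Set.range θ) • ⊤ : Submodule R M) := by
  rw [K763.HGr.endDeg_eq_iff, ne_bot_iff]
  constructor
  · rintro ⟨⟨y, hy, hy0⟩, hbot⟩
    have htop : ∀ i, a + ∑ i, w i < i → ∀ x ∈ ℳ i, x ∈ (Ideal.span (Set.range θ) • ⊤ : Submodule R M) := by
      intro i hi x hx
      by_contra hx0
      obtain ⟨z, hz, hz0⟩ := exists_ne_zero h hθ hw hreg htor E hx hx0
      have h1 := hbot (i - ∑ i, w i) (by omega)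
      have h2 : z ∈ E.Hgr m n (i - ∑ i, w i) := hz
      rw [h1, AddSubgroup.mem_bot] at h2
      exact hz0 h2
    refine ⟨?_, htop⟩
    obtain ⟨j, hj, x, hx, hx0⟩ := exists_of_ne_zero h hθ hw hreg htor E hy hy0
    rcases hj.lt_or_eq with hlt | heq
    · exact absurd (htop _ (by omega) x hx) hx0
    · rw [heq]; exact ⟨x, hx, hx0⟩
  · rintro ⟨⟨x, hx, hx0⟩, htop⟩
    refine ⟨?_, fun i hi => ?_⟩
    · obtain ⟨y, hy, hy0⟩ := exists_ne_zero h hθ hw hreg htor E hx hx0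
      rw [add_sub_cancel_right] at hy
      exact ⟨y, hy, hy0⟩
    · rw [AddSubgroup.eq_bot_iff_forall]
      intro y hy
      by_contra hy0
      obtain ⟨j, hj, x, hx, hx0⟩ := exists_of_ne_zero h hθ hw hreg htor E hy hy0
      exact hx0 (htop _ (by omega) x hx)

end K762.AInv
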