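import Groth.Agent.GrLC.K762.Lin
import Mathlib.RingTheory.MvPolynomial.WeightedHomogeneous
import Mathlib.LinearAlgebra.Basis.Basic
import Mathlib.LinearAlgebra.Basis.VectorSpace
import Mathlib.LinearAlgebra.FiniteDimensional.Basic

/-!
# Freeness of graded modules over the polynomial ring of a homogeneous regular sequence
-/

set_option autoImplicit false
set_option linter.unusedSectionVars false
universe u

open DirectSum MvPolynomial

namespace K762.Bas

open K762.Base K762.Nak K762.Lin RingTheory.Sequence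

variable {k : Type u} [Field k] {R : Type u} [CommRing R] [Algebra k R]
  {σ : Type u} [SetLike σ R] [AddSubgroupClass σ R] {𝒜 : ℤ → σ} [GradedRing 𝒜]
  {n : ℕ} {θ : Fin n → R} {w : Fin n → ℤ}

/-- The value at `θ` of a weighted homogeneous polynomial is homogeneous. -/
theorem aeval_mem (halg : ∀ c : k, algebraMap k R c ∈ 𝒜 0) (hθ : ∀ i, θ i ∈ 𝒜 (w i)) {e : ℤ}
    {P : MvPolynomial (Fin n) k} (hP : IsWeightedHomogeneous w P e) : aeval θ P ∈ 𝒜 e := by
  rw [aeval_def, eval₂_eq']
  refine sum_mem fun s hs => ?_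
  have h1 := hP (mem_support_iff.mp hs)
  rw [Finsupp.weight_apply, Finsupp.sum_fintype _ _ (by simp)] at h1
  have h2 := SetLike.prod_pow_mem_graded 𝒜 w θ (F := Finset.univ) (fun i => s i) (fun i _ => hθ i)
  rw [h1] at h2
  have h3 := SetLike.mul_mem_graded (halg (coeff s P)) h2
  rwa [zero_add] at h3

section Module

variable {M : Type u} [AddCommGroup M] [Module R M] [Module k M] [IsScalarTower k R M]
  {τ : Type u} [SetLike τ M] [AddSubgroupClass τ M] {ℳ : ℤ → τ} [Decomposition ℳ]
  [SetLike.GradedSMul 𝒜 ℳ]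
  [Algebra (MvPolynomial (Fin n) k) R] [Module (MvPolynomial (Fin n) k) M]
  [IsScalarTower (MvPolynomial (Fin n) k) R M]

theorem smul_eq (hA : ∀ P, algebraMap (MvPolynomial (Fin n) k) R P = aeval θ P)
    (P : MvPolynomial (Fin n) k) (x : M) : P • x = aeval θ P • x := by
  rw [← hA, IsScalarTower.algebraMap_smul]

theorem pr_smul_eq (hA : ∀ P, algebraMap (MvPolynomial (Fin n) k) R P = aeval θ P)
    (halg : ∀ c : k, algebraMap k R c ∈ 𝒜 0) (hθ : ∀ i, θ i ∈ 𝒜 (w i))
    (P : MvPolynomial (Fin n) k) {d : ℤ} {x : M} (hx : x ∈ ℳ d) (i : ℤ) :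
    pr ℳ i (P • x) = weightedHomogeneousComponent w (i - d) P • x := by
  classical
  have h1 : P = ∑ᶠ e, weightedHomogeneousComponent w e P := (finsum_weightedHomogeneousComponent w P).symm
  have hfin := weightedHomogeneousComponent_finsupp (w := w) P
  have h2 : P • x = ∑ e ∈ hfin.toFinset, weightedHomogeneousComponent w e P • x := by
    conv_lhs => rw [h1, finsum_eq_sum_of_support_subset _ (s := hfin.toFinset) (by simp)]
    rw [Finset.sum_smul]
  rw [h2, pr_sum]
  have key : ∀ e : ℤ, weightedHomogeneousComponent w e P • x ∈ ℳ (e + d) := by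
    intro e
    rw [smul_eq hA]
    exact smul_mem (𝒜 := 𝒜) (aeval_mem halg hθ (weightedHomogeneousComponent_isWeightedHomogeneous e P)) hx rfl
  by_cases he : i - d ∈ hfin.toFinset
  · rw [Finset.sum_eq_single_of_mem _ he]
    · have := key (i - d)
      rw [sub_add_cancel] at this
      exact pr_of_mem this
    · intro e _ hne
      refine pr_of_mem_ne (key e) ?_
      omega
  · have h0 : weightedHomogeneousComponent w (i - d) P = 0 := by
      by_contra h
      exact he (by simpa using h)
    rw [h0, zero_smul]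
    refine Finset.sum_eq_zero fun e he' => pr_of_mem_ne (key e) ?_
    rintro rfl
    exact he (by simpa using he')

variable {m : Ideal R}

/-- Existence of a basis of homogeneous elements over the polynomial ring. -/
theorem exists_basis (h : PosField k 𝒜 m) (hθ : ∀ i, θ i ∈ 𝒜 (w i)) (hw : ∀ i, 0 < w i)
    (hb : Nak.BddBelow ℳ) (hreg : IsWeaklyRegular M (List.ofFn θ))
    [hfin : Module.Finite k (M ⧸ (Ideal.span (Set.range θ) • ⊤ : Submodule R M))]
    (hA : ∀ P, algebraMap (MvPolynomial (Fin n) k) R P = aeval θ P) :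
    ∃ (N : ℕ) (b : Module.Basis (Fin N) (MvPolynomial (Fin n) k) M) (d : Fin N → ℤ),
      (∀ j, b j ∈ ℳ (d j)) ∧
      (∀ c : Fin N → k, ∑ j, c j • b j ∈ (Ideal.span (Set.range θ) • ⊤ : Submodule R M) → c = 0) ∧
      (∀ x : M, ∃ c : Fin N → k, x - ∑ j, c j • b j ∈
        (Ideal.span (Set.range θ) • ⊤ : Submodule R M)) := by
  classical
  set P : Submodule R M := Ideal.span (Set.range θ) • ⊤ with hP
  let s : Set (M ⧸ P) := {q | ∃ i, ∃ x ∈ ℳ i, P.mkQ x = q}
  have hs : Submodule.span k s = ⊤ := by
    rw [eq_top_iff]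
    intro q _
    obtain ⟨x, rfl⟩ := P.mkQ_surjective q
    obtain ⟨u, hu⟩ := exists_sum_pr (ℳ := ℳ) x
    rw [← hu, map_sum]
    exact Submodule.sum_mem _ fun i _ => Submodule.subset_span ⟨i, _, pr_mem i x, rfl⟩
  obtain ⟨t, hts, htspan, htli⟩ := exists_linearIndependent k s
  have htfin : Finite t := htli.finite
  obtain ⟨N, ⟨e⟩⟩ := Finite.exists_equiv_fin t
  choose dt v hvt hvm using fun q : t => hts q.2
  let v' : Fin N → M := fun j => v (e.symm j)
  have hvq : ∀ c : Fin N → k, P.mkQ (∑ j, c j • v' j) = ∑ j, c j • ((e.symm j : t) : M ⧸ P) := by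
    intro c
    rw [map_sum]
    refine Finset.sum_congr rfl fun j _ => ?_
    rw [← algebraMap_smul R (c j) (v' j), map_smul, algebraMap_smul]
    exact congrArg _ (hvm (e.symm j))
  have hind : ∀ c : Fin N → k, ∑ j, c j • v' j ∈ P → c = 0 := by
    intro c hc
    have h1 : ∑ j, c j • ((e.symm j : t) : M ⧸ P) = 0 := by
      rw [← hvq, Submodule.mkQ_apply, Submodule.Quotient.mk_eq_zero]
      exact hc
    have h2 := htli.comp e.symm e.symm.injective
    rw [Fintype.linearIndependent_iff] at h2
    exact funext (h2 c h1)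
  have hspan : ∀ x : M, ∃ c : Fin N → k, x - ∑ j, c j • v' j ∈ P := by
    intro x
    have h1 : P.mkQ x ∈ Submodule.span k (Set.range (fun j : Fin N => ((e.symm j : t) : M ⧸ P))) := by
      have h2 : Set.range (fun j : Fin N => ((e.symm j : t) : M ⧸ P)) = t := by
        ext q
        constructor
        · rintro ⟨j, rfl⟩
          exact (e.symm j).2
        · intro hq
          exact ⟨e ⟨q, hq⟩, by simp⟩
      rw [h2, htspan, hs]
      exact Submodule.mem_top
    rw [Submodule.mem_span_range_iff_exists_fun] at h1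
    obtain ⟨c, hc⟩ := h1
    refine ⟨c, ?_⟩
    rw [← Submodule.Quotient.mk_eq_zero, Submodule.Quotient.mk_sub, sub_eq_zero]
    exact (hc.symm.trans (hvq c).symm)
  -- linear independence over the polynomial ring
  have hli : LinearIndependent (MvPolynomial (Fin n) k) v' := by
    refine linearIndependent_mvPolynomial θ M hreg hA v' fun c hc => ?_
    have h1 : Finsupp.linearCombination k v' c = ∑ j, c j • v' j := by
      rw [Finsupp.linearCombination_apply, Finsupp.sum_fintype _ _ (by simp)]
    rw [h1] at hc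
    exact DFunLike.coe_injective (hind (fun j => c j) hc)
  -- generation
  have hsp : ∀ x : M, x ∈ Submodule.span (MvPolynomial (Fin n) k) (Set.range v') := by
    refine mem_of_gen (𝒜 := 𝒜) (ℳ := ℳ) θ w hθ hw hb
      (Submodule.span (MvPolynomial (Fin n) k) (Set.range v')).toAddSubgroup ?_ ?_ ?_
    · intro i x hx
      rw [Submodule.mem_toAddSubgroup] at hx ⊢
      have : θ i • x = (X i : MvPolynomial (Fin n) k) • x := by rw [smul_eq hA, aeval_X]
      rw [this]
      exact Submodule.smul_mem _ _ hx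
    · intro i x hx
      rw [Submodule.mem_toAddSubgroup] at hx ⊢
      rw [Submodule.mem_span_range_iff_exists_fun] at hx
      obtain ⟨c, rfl⟩ := hx
      rw [pr_sum]
      refine Submodule.sum_mem _ fun j _ => ?_
      rw [pr_smul_eq hA h.alg hθ (c j) (hvt (e.symm j)) i]
      exact Submodule.smul_mem _ _ (Submodule.subset_span ⟨j, rfl⟩)
    · intro x
      obtain ⟨c, hc⟩ := hspan x
      refine ⟨_, ?_, hc⟩
      rw [Submodule.mem_toAddSubgroup]
      refine Submodule.sum_mem _ fun j _ => ?_
      have : c j • v' j = (C (c j) : MvPolynomial (Fin n) k) • v' j := by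
        rw [smul_eq hA, aeval_C, algebraMap_smul]
      rw [this]
      exact Submodule.smul_mem _ _ (Submodule.subset_span ⟨j, rfl⟩)
  refine ⟨N, Module.Basis.mk hli (fun x _ => hsp x), fun j => dt (e.symm j), ?_, ?_, ?_⟩
  · intro j
    rw [Module.Basis.mk_apply]
    exact hvt _
  · intro c hc
    simp only [Module.Basis.mk_apply] at hc
    exact hind c hc
  · intro x
    simp only [Module.Basis.mk_apply]
    exact hspan x

/-- The coordinates of a homogeneous element in a homogeneous basis are weighted homogeneous. -/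
theorem repr_isWeightedHomogeneous (halg : ∀ c : k, algebraMap k R c ∈ 𝒜 0) (hθ : ∀ i, θ i ∈ 𝒜 (w i))
    (hA : ∀ P, algebraMap (MvPolynomial (Fin n) k) R P = aeval θ P)
    {N : ℕ} (b : Module.Basis (Fin N) (MvPolynomial (Fin n) k) M) {d : Fin N → ℤ}
    (hbd : ∀ j, b j ∈ ℳ (d j)) {i : ℤ} {x : M} (hx : x ∈ ℳ i) (j : Fin N) :
    IsWeightedHomogeneous w (b.repr x j) (i - d j) := by
  have h1 : x = ∑ j, weightedHomogeneousComponent w (i - d j) (b.repr x j) • b j := by
    conv_lhs => rw [← pr_of_mem hx, ← b.sum_repr x, pr_sum]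
    exact Finset.sum_congr rfl fun j _ => pr_smul_eq hA halg hθ _ (hbd j) i
  have h2 : b.repr x j = weightedHomogeneousComponent w (i - d j) (b.repr x j) := by
    conv_lhs => rw [h1]
    rw [map_sum, Finsupp.finsetSum_apply, Finset.sum_eq_single j]
    · simp
    · intro j' _ hne
      simp [hne]
    · simp
  rw [h2]
  exact weightedHomogeneousComponent_isWeightedHomogeneous _ _

end Module

end K762.Bas
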