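import Mathlib.RingTheory.GradedAlgebra.Homogeneous.Submodule
import Mathlib.RingTheory.GradedAlgebra.Homogeneous.Ideal
import Mathlib.Algebra.DirectSum.Decomposition
import Mathlib.RingTheory.Ideal.Maximal
import Mathlib.Algebra.Algebra.Defs

/-!
# Graded modules over a positively `ℤ`-graded ring over a field: elementary facts

The grading pieces are in any `SetLike` type.  `PosField k 𝒜 m` says that `R_n = 0` for `n < 0`, that
`R_0 = k` and that `m` is the ideal generated by the elements of positive degree.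
-/

set_option autoImplicit false
set_option linter.unusedSectionVars false
universe u

open DirectSum

namespace K762.Base

section Comp

variable {ι : Type} [AddCommGroup ι] [DecidableEq ι]
variable {R : Type u} [CommRing R] {σ : Type u} [SetLike σ R] [AddSubgroupClass σ R]
  {𝒜 : ι → σ} [GradedRing 𝒜]
  {M : Type u} [AddCommGroup M] [Module R M] {τ : Type u} [SetLike τ M] [AddSubgroupClass τ M]
  {ℳ : ι → τ} [Decomposition ℳ]

variable (ℳ) in
/-- The component of degree `i` of an element of a graded module. -/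
def pr (i : ι) (x : M) : M := (decompose ℳ x i : M)

theorem pr_mem (i : ι) (x : M) : pr ℳ i x ∈ ℳ i := SetLike.coe_mem _

theorem pr_of_mem {i : ι} {x : M} (hx : x ∈ ℳ i) : pr ℳ i x = x := decompose_of_mem_same ℳ hx

theorem pr_of_mem_ne {i j : ι} {x : M} (hx : x ∈ ℳ i) (h : i ≠ j) : pr ℳ j x = 0 :=
  decompose_of_mem_ne ℳ hx h

theorem pr_add (i : ι) (x y : M) : pr ℳ i (x + y) = pr ℳ i x + pr ℳ i y := by
  simp only [pr, decompose_add, add_apply, AddMemClass.coe_add]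

theorem pr_zero (i : ι) : pr ℳ i (0 : M) = 0 := by
  simp only [pr, decompose_zero]
  rfl

variable (ℳ) in
/-- The component of degree `i` as an additive map. -/
def prHom (i : ι) : M →+ M where
  toFun := pr ℳ i
  map_zero' := pr_zero i
  map_add' := pr_add i

@[simp] theorem prHom_apply (i : ι) (x : M) : prHom ℳ i x = pr ℳ i x := rfl

theorem pr_sum {κ : Type*} (s : Finset κ) (f : κ → M) (i : ι) :
    pr ℳ i (∑ j ∈ s, f j) = ∑ j ∈ s, pr ℳ i (f j) := map_sum (prHom ℳ i) f s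

theorem pr_neg (i : ι) (x : M) : pr ℳ i (-x) = - pr ℳ i x := map_neg (prHom ℳ i) x

theorem pr_sub (i : ι) (x y : M) : pr ℳ i (x - y) = pr ℳ i x - pr ℳ i y := map_sub (prHom ℳ i) x y

/-- An element is the sum of its components over any finite set containing the support. -/
theorem exists_sum_pr (x : M) : ∃ s : Finset ι, ∑ i ∈ s, pr ℳ i x = x := by
  classical
  exact ⟨_, sum_support_decompose ℳ x⟩

theorem ext_pr {x y : M} (h : ∀ i, pr ℳ i x = pr ℳ i y) : x = y := by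
  apply (decompose ℳ).injective
  ext i
  exact h i

theorem eq_zero_of_pr {x : M} (h : ∀ i, pr ℳ i x = 0) : x = 0 :=
  ext_pr (ℳ := ℳ) fun i => by rw [h, pr_zero]

/-- An additive subgroup containing all homogeneous elements is everything. -/
theorem mem_of_homog {N : AddSubgroup M} (h : ∀ i, ∀ x ∈ ℳ i, x ∈ N) (x : M) : x ∈ N := by
  obtain ⟨s, hs⟩ := exists_sum_pr (ℳ := ℳ) x
  rw [← hs]
  exact sum_mem fun i _ => h i _ (pr_mem i x)

theorem eq_zero_of_mem_of_mem {i j : ι} {x : M} (hi : x ∈ ℳ i) (hj : x ∈ ℳ j) (h : i ≠ j) : x = 0 := by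
  rw [← pr_of_mem hi, pr_of_mem_ne hj (Ne.symm h)]

variable [SetLike.GradedSMul 𝒜 ℳ]

theorem smul_mem {d i j : ι} {r : R} {x : M} (hr : r ∈ 𝒜 d) (hx : x ∈ ℳ i) (h : d + i = j) :
    r • x ∈ ℳ j := by
  have := SetLike.GradedSMul.smul_mem (A := 𝒜) (B := ℳ) hr hx
  rw [vadd_eq_add, h] at this
  exact this

theorem pr_smul {d : ι} {r : R} (hr : r ∈ 𝒜 d) (i : ι) (x : M) :
    pr ℳ i (r • x) = r • pr ℳ (i - d) x := by
  obtain ⟨s, hs⟩ := exists_sum_pr (ℳ := ℳ) x
  conv_lhs => rw [← hs, Finset.smul_sum, pr_sum]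
  have key : ∀ j, pr ℳ i (r • pr ℳ j x) = if i - d = j then r • pr ℳ j x else 0 := by
    intro j
    have hmem : r • pr ℳ j x ∈ ℳ (d + j) := smul_mem (𝒜 := 𝒜) hr (pr_mem j x) rfl
    split_ifs with h
    · exact pr_of_mem (by rw [← h] at hmem ⊢; rwa [add_sub_cancel] at hmem)
    · refine pr_of_mem_ne hmem fun h' => h ?_
      rw [← h', add_sub_cancel_left]
  simp_rw [key]
  rw [Finset.sum_ite_eq]
  split_ifs with h
  · rfl
  · have h0 : pr ℳ (i - d) x = 0 := by
      conv_lhs => rw [← hs, pr_sum]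
      refine Finset.sum_eq_zero fun j hj => pr_of_mem_ne (pr_mem j x) ?_
      rintro rfl
      exact h hj
    rw [h0, smul_zero]

/-- Homogeneity of a submodule in terms of `pr`. -/
theorem isHomogeneous_iff {P : Submodule R M} : P.IsHomogeneous ℳ ↔ ∀ i, ∀ x ∈ P, pr ℳ i x ∈ P :=
  ⟨fun h i _ hx => h i hx, fun h i _ hx => h i _ hx⟩

omit [SetLike.GradedSMul 𝒜 ℳ] in
/-- To prove `P ≤ Q` for `P` homogeneous, it suffices to look at homogeneous elements. -/
theorem le_of_homog {P Q : Submodule R M} (hP : P.IsHomogeneous ℳ)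
    (h : ∀ i, ∀ x ∈ ℳ i, x ∈ P → x ∈ Q) : P ≤ Q := by
  intro x hx
  obtain ⟨s, hs⟩ := exists_sum_pr (ℳ := ℳ) x
  rw [← hs]
  exact Submodule.sum_mem _ fun i _ => h i _ (pr_mem i x) (hP i hx)

omit [SetLike.GradedSMul 𝒜 ℳ] in
theorem exists_mem_ne_zero {P : Submodule R M} (hP : P.IsHomogeneous ℳ) (h : P ≠ ⊥) :
    ∃ i, ∃ x ∈ ℳ i, x ∈ P ∧ x ≠ 0 := by
  obtain ⟨x, hx, hx0⟩ := Submodule.exists_mem_ne_zero_of_ne_bot h
  by_contra hcon
  push Not at hcon
  exact hx0 (eq_zero_of_pr (ℳ := ℳ) fun i => hcon i _ (pr_mem i x) (hP i hx))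

end Comp

section Field

variable {k : Type u} [Field k] {R : Type u} [CommRing R] [Algebra k R]
  {σ : Type u} [SetLike σ R] [AddSubgroupClass σ R] {𝒜 : ℤ → σ} [GradedRing 𝒜]

variable (k 𝒜) in
/-- `R` is a positively graded ring with `R_0 = k` and `m` is the ideal generated by the elements of
positive degree. -/
structure PosField (m : Ideal R) : Prop where
  pos : ∀ n : ℤ, n < 0 → ∀ x ∈ 𝒜 n, x = 0
  alg : ∀ c : k, algebraMap k R c ∈ 𝒜 0
  surj : ∀ x ∈ 𝒜 0, ∃ c : k, algebraMap k R c = x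
  span : m = Ideal.span (⋃ n ∈ Set.Ioi (0 : ℤ), (𝒜 n : Set R))

variable {m : Ideal R}

theorem PosField.mem_of_pos (h : PosField k 𝒜 m) {n : ℤ} (hn : 0 < n) {x : R} (hx : x ∈ 𝒜 n) : x ∈ m := by
  rw [h.span]
  refine Ideal.subset_span ?_
  simp only [Set.mem_iUnion]
  exact ⟨n, hn, hx⟩

theorem PosField.isHomogeneous (h : PosField k 𝒜 m) : m.IsHomogeneous 𝒜 := by
  rw [h.span]
  refine Ideal.homogeneous_span 𝒜 _ fun x hx => ?_
  simp only [Set.mem_iUnion] at hx
  obtain ⟨n, _, hx⟩ := hx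
  exact ⟨n, hx⟩

theorem PosField.pr_zero_eq_zero (h : PosField k 𝒜 m) {x : R} (hx : x ∈ m) : pr 𝒜 0 x = 0 := by
  rw [h.span] at hx
  induction hx using Submodule.span_induction with
  | mem x hx =>
    simp only [Set.mem_iUnion] at hx
    obtain ⟨n, hn, hx⟩ := hx
    exact pr_of_mem_ne hx (ne_of_gt hn)
  | zero => exact pr_zero 0
  | add x y _ _ hx hy => rw [pr_add, hx, hy, add_zero]
  | smul a x _ hx =>
    obtain ⟨s, hs⟩ := exists_sum_pr (ℳ := 𝒜) a
    rw [← hs, Finset.sum_smul, pr_sum]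
    refine Finset.sum_eq_zero fun i _ => ?_
    rw [pr_smul (𝒜 := 𝒜) (pr_mem i a)]
    rcases lt_trichotomy i 0 with hi | hi | hi
    · rw [h.pos i hi _ (pr_mem i a), zero_smul]
    · subst hi
      rw [sub_zero, hx, smul_zero]
    · rw [h.pos (0 - i) (by omega) _ (pr_mem _ x), smul_zero]

theorem PosField.mem_iff (h : PosField k 𝒜 m) {x : R} : x ∈ m ↔ pr 𝒜 0 x = 0 := by
  refine ⟨h.pr_zero_eq_zero, fun hx => ?_⟩
  obtain ⟨s, hs⟩ := exists_sum_pr (ℳ := 𝒜) x
  rw [← hs]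
  refine Ideal.sum_mem _ fun i _ => ?_
  rcases lt_trichotomy i 0 with hi | hi | hi
  · rw [h.pos i hi _ (pr_mem i x)]; exact m.zero_mem
  · subst hi; rw [hx]; exact m.zero_mem
  · exact h.mem_of_pos hi (pr_mem i x)

/-- The constant term of an element. -/
theorem PosField.exists_sub_mem (h : PosField k 𝒜 m) (x : R) : ∃ c : k, x - algebraMap k R c ∈ m := by
  obtain ⟨c, hc⟩ := h.surj _ (pr_mem 0 x)
  refine ⟨c, ?_⟩
  rw [h.mem_iff, pr_sub, pr_of_mem (h.alg c), hc, sub_self]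

theorem PosField.ne_top (h : PosField k 𝒜 m) [Nontrivial R] : m ≠ ⊤ := by
  rw [Ne, Ideal.eq_top_iff_one, h.mem_iff, pr_of_mem (SetLike.one_mem_graded 𝒜)]
  exact one_ne_zero

theorem PosField.isMaximal (h : PosField k 𝒜 m) [Nontrivial R] : m.IsMaximal := by
  refine Ideal.isMaximal_iff.mpr ⟨fun h1 => h.ne_top ((Ideal.eq_top_iff_one _).mpr h1), ?_⟩
  intro J x hmJ hx hxJ
  obtain ⟨c, hc⟩ := h.exists_sub_mem x
  have hc0 : c ≠ 0 := by
    rintro rfl
    rw [map_zero, sub_zero] at hc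
    exact hx hc
  have h1 : algebraMap k R c ∈ J := by
    have := J.sub_mem hxJ (hmJ hc)
    rwa [sub_sub_cancel] at this
  have h2 := J.mul_mem_left (algebraMap k R c⁻¹) h1
  rwa [← map_mul, inv_mul_cancel₀ hc0, map_one] at h2

/-- A proper homogeneous ideal is contained in `m`. -/
theorem PosField.le_of_isHomogeneous (h : PosField k 𝒜 m) {J : Ideal R} (hJ : J.IsHomogeneous 𝒜)
    (hJ1 : J ≠ ⊤) : J ≤ m := by
  intro x hx
  rw [h.mem_iff]
  by_contra hne
  obtain ⟨c, hc⟩ := h.surj _ (pr_mem 0 x)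
  have hc0 : c ≠ 0 := by
    rintro rfl
    rw [map_zero] at hc
    exact hne hc.symm
  apply hJ1
  rw [Ideal.eq_top_iff_one]
  have h1 : algebraMap k R c ∈ J := by rw [hc]; exact hJ 0 hx
  have h2 := J.mul_mem_left (algebraMap k R c⁻¹) h1
  rwa [← map_mul, inv_mul_cancel₀ hc0, map_one] at h2

end Field

end K762.Base
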