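import Groth.Agent.GrLC.K762.CMod
import Groth.Agent.GrLC.K763.SocLC
import Groth.Agent.GrLC.K759.AcycInj
import Mathlib.LinearAlgebra.PerfectPairing.Basic

/-!
# Bass numbers at the graded maximal ideal through `M / θ M`
-/

set_option autoImplicit false
set_option linter.unusedSectionVars false
set_option linter.style.haveILetI false
universe u

open DirectSum GrLC TensorProduct

namespace K762.Bass

open K762.Base K762.Nak K762.Reg K762.Param K762.Soc K762.Ht K762.Ext K762.Fld K762.AInv K762.Tower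
  K762.Pair K762.Can K963.Iface RingTheory.Sequence

variable {k : Type u} [Field k] {R : Type u} [CommRing R] [Algebra k R]

/-- The elements killed by `m`. -/
def soc (m : Ideal R) (H : Type u) [AddCommGroup H] [Module R H] : Submodule R H where
  carrier := {x | ∀ a ∈ m, a • x = 0}
  add_mem' {x y} hx hy a ha := by rw [smul_add, hx a ha, hy a ha, add_zero]
  zero_mem' a _ := smul_zero a
  smul_mem' r x hx a ha := by rw [smul_comm, hx a ha, smul_zero]

theorem mem_soc {m : Ideal R} {H : Type u} [AddCommGroup H] [Module R H] {x : H} :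
    x ∈ soc m H ↔ ∀ a ∈ m, a • x = 0 := Iff.rfl

variable {𝒜 : ℤ → AddSubgroup R} [GradedRing 𝒜] {m : HomogeneousIdeal 𝒜}
  {M : Type u} [AddCommGroup M] [Module R M] {ℳ : ℤ → AddSubgroup M} [Decomposition ℳ]
  [SetLike.GradedSMul 𝒜 ℳ] {n : ℕ} {θ : Fin n → R} {w : Fin n → ℤ}

/-- The socle of the top local cohomology is the socle of `M / θ M`. -/
theorem exists_socEquiv [IsNoetherianRing R]
    (hθ : ∀ i, θ i ∈ 𝒜 (w i)) (hθm : ∀ i, θ i ∈ m.toIdeal) (hreg : IsWeaklyRegular M (List.ofFn θ))
    {N : ℕ} (hN : m.toIdeal ^ N ≤ Ideal.span (Set.range θ)) (E : StarInjRes 𝒜 ℳ) :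
    (∀ i, i ≠ n → Subsingleton (E.H m i)) ∧
    Nonempty (soc m.toIdeal (M ⧸ (Ideal.span (Set.range θ) • ⊤ : Submodule R M)) ≃ₗ[R]
      soc m.toIdeal (E.H m n)) := by
  obtain ⟨hvan, ψ, hψk, hψr, -, -⟩ := tower m n θ w hθ hθm hreg (fun x => ⟨N, fun r hr =>
    Submodule.smul_mem_smul (hN hr) Submodule.mem_top⟩) E
  refine ⟨hvan, ?_⟩
  let ψ' : (M ⧸ (Ideal.span (Set.range θ) • ⊤ : Submodule R M)) →ₗ[R] E.H m n :=
    Submodule.liftQ _ ψ hψk.ge
  have hψ' : Function.Injective ψ' := by
    rw [← LinearMap.ker_eq_bot, Submodule.ker_liftQ_eq_bot' _ _ hψk.symm]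
  have hmem : ∀ q, q ∈ soc m.toIdeal (M ⧸ (Ideal.span (Set.range θ) • ⊤ : Submodule R M)) ↔
      ψ' q ∈ soc m.toIdeal (E.H m n) := by
    intro q
    rw [mem_soc, mem_soc]
    refine forall₂_congr fun a _ => ?_
    rw [← map_smul, map_eq_zero_iff ψ' hψ']
  let φ : soc m.toIdeal (M ⧸ (Ideal.span (Set.range θ) • ⊤ : Submodule R M)) →ₗ[R]
      soc m.toIdeal (E.H m n) := ψ'.restrict fun q hq => (hmem q).mp hq
  refine ⟨LinearEquiv.ofBijective φ ⟨?_, ?_⟩⟩
  · intro x y hxy
    exact Subtype.ext (hψ' (congrArg Subtype.val hxy))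
  · rintro ⟨y, hy⟩
    obtain ⟨x, rfl⟩ := (hψr y).mpr fun i => hy _ (hθm i)
    refine ⟨⟨Submodule.Quotient.mk x, (hmem _).mpr hy⟩, rfl⟩

/-- Bass number of degree `n` as the dimension of the socle of `M / θ M`. -/
theorem bassNum_eq [IsNoetherianRing R] [m.toIdeal.IsMaximal] (h : PosField k 𝒜 m.toIdeal)
    (hθ : ∀ i, θ i ∈ 𝒜 (w i)) (hθm : ∀ i, θ i ∈ m.toIdeal) (hreg : IsWeaklyRegular M (List.ofFn θ))
    {N : ℕ} (hN : m.toIdeal ^ N ≤ Ideal.span (Set.range θ)) (E : StarInjRes 𝒜 ℳ) [Module k M]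
    [IsScalarTower k R M]
    [Module.Finite k (M ⧸ (Ideal.span (Set.range θ) • ⊤ : Submodule R M))] :
    bassNum m.toIdeal M n =
      (Module.finrank k (soc m.toIdeal (M ⧸ (Ideal.span (Set.range θ) • ⊤ : Submodule R M))) : ℕ∞) := by
  obtain ⟨hvan, ⟨e⟩⟩ := exists_socEquiv hθ hθm hreg hN E
  letI : Module k (soc m.toIdeal (E.H m n)) := Module.compHom _ (algebraMap k R)
  haveI : IsScalarTower k R (soc m.toIdeal (E.H m n)) := ⟨fun a r x => by
    change (a • r) • x = (algebraMap k R a) • (r • x)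
    rw [Algebra.smul_def, mul_smul]⟩
  let e' := e.restrictScalars k
  haveI : Module.Finite k (soc m.toIdeal (M ⧸ (Ideal.span (Set.range θ) • ⊤ : Submodule R M))) :=
    Module.Finite.of_injective ((soc m.toIdeal _).subtype.restrictScalars k)
      (soc m.toIdeal _).injective_subtype
  haveI : Module.Finite k (soc m.toIdeal (E.H m n)) := Module.Finite.equiv e'
  have hcmp : ∀ i, Nonempty (E.H m i ≃ₗ[R] LocCoh.H m.toIdeal i M) :=
    K759.AcycInj.nonempty_equiv E m
  obtain ⟨φ⟩ := hcmp n
  rw [K763.SocLC.bassNum_eq (k := k) m.toIdeal h.exists_sub_mem M n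
    (fun i hi => by
      obtain ⟨e1⟩ := hcmp i
      have := hvan i hi.ne
      exact e1.symm.toEquiv.subsingleton) (E.H m n) φ.symm (soc m.toIdeal (E.H m n))
      (fun x => Iff.rfl), e'.finrank_eq]

variable {C : Type u} [AddCommGroup C] [Module R C] [Module k C] [IsScalarTower k R C]
  {𝒞 : ℤ → AddSubgroup C} [Decomposition 𝒞] [SetLike.GradedSMul 𝒜 𝒞] {J : Ideal R} {s : ℤ}
  {lam : C →ₗ[k] k}

/-- `lam` kills `J C`. -/
theorem lam_eq_zero (hp : CanPair k 𝒜 𝒞 J s lam) {c : C} (hc : c ∈ (J • ⊤ : Submodule R C)) :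
    lam c = 0 := by
  refine Submodule.smul_induction_on hc (fun r hr c _ => hp.ideal r hr c) fun x y hx hy => ?_
  rw [map_add, hx, hy, add_zero]

/-- The socle of `C / J C` is one dimensional. -/
theorem finrank_soc_eq_one (h : PosField k 𝒜 m.toIdeal) (hp : CanPair k 𝒜 𝒞 J s lam)
    (hJ1 : (1 : R) ∉ J) :
    Module.finrank k (soc m.toIdeal (C ⧸ (J • ⊤ : Submodule R C))) = 1 := by
  let L : (C ⧸ (J • ⊤ : Submodule R C)) →ₗ[k] k :=
    Submodule.liftQ ((J • ⊤ : Submodule R C).restrictScalars k) lam fun c hc => lam_eq_zero hp hc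
  have hL : ∀ c : C, L (Submodule.Quotient.mk c) = lam c := fun _ => rfl
  let L' : soc m.toIdeal (C ⧸ (J • ⊤ : Submodule R C)) →ₗ[k] k :=
    L ∘ₗ (soc m.toIdeal (C ⧸ (J • ⊤ : Submodule R C))).subtype.restrictScalars k
  have hinj : Function.Injective L' := by
    rw [injective_iff_map_eq_zero]
    rintro ⟨q, hq⟩ h0
    obtain ⟨c, rfl⟩ := Submodule.Quotient.mk_surjective _ q
    have h0' : lam c = 0 := h0
    refine Subtype.ext ((Submodule.Quotient.mk_eq_zero _).mpr (hp.mem_of_forall' fun x => ?_))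
    obtain ⟨a, ha⟩ := h.exists_sub_mem x
    have h1 := hq _ ha
    rw [← Submodule.Quotient.mk_smul, Submodule.Quotient.mk_eq_zero] at h1
    have h2 := lam_eq_zero hp h1
    rwa [sub_smul, map_sub, algebraMap_smul, LinearMap.map_smul, h0', smul_zero, sub_zero] at h2
  have hsurj : Function.Surjective L' := by
    obtain ⟨c, hc, hne⟩ := hp.left 0 1 (SetLike.one_mem_graded 𝒜) hJ1
    rw [one_smul] at hne
    have hsoc : (Submodule.Quotient.mk c : C ⧸ (J • ⊤ : Submodule R C)) ∈
        soc m.toIdeal (C ⧸ (J • ⊤ : Submodule R C)) := by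
      intro a ha
      rw [← Submodule.Quotient.mk_smul, Submodule.Quotient.mk_eq_zero]
      refine hp.mem_of_forall' fun x => ?_
      rw [smul_smul, hp.lam_smul_eq (x * a) hc,
        h.pr_zero_eq_zero (Ideal.mul_mem_left _ x ha), zero_smul, map_zero]
    intro t
    refine ⟨(t / lam c) • ⟨_, hsoc⟩, ?_⟩
    rw [map_smul]
    change (t / lam c) * lam c = t
    exact div_mul_cancel₀ _ hne
  rw [(LinearEquiv.ofBijective L' ⟨hinj, hsurj⟩).finrank_eq, Module.finrank_self]

/-- The socle of `R / J` is dual to `C / m C`. -/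
theorem finrank_soc_eq (hp : CanPair k 𝒜 𝒞 J s lam)
    (hJm : J ≤ m.toIdeal) [Module.Finite k (C ⧸ (J • ⊤ : Submodule R C))] :
    Module.finrank k (soc m.toIdeal (R ⧸ (J • ⊤ : Submodule R R))) =
      Module.finrank k (C ⧸ (m.toIdeal • ⊤ : Submodule R C)) := by
  have hJ : (J • ⊤ : Submodule R R) = J := by rw [smul_eq_mul, Ideal.mul_top]
  -- the bilinear form
  let B0 : R →ₗ[k] C →ₗ[k] k := LinearMap.mk₂ k (fun x c => lam (x • c))
    (fun x y c => by rw [add_smul, map_add]) (fun a x c => by rw [smul_assoc, map_smul])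
    (fun x c d => by rw [smul_add, map_add]) (fun a x c => by rw [smul_comm, map_smul])
  have hB0 : ∀ x c, B0 x c = lam (x • c) := fun _ _ => rfl
  let B : (R ⧸ (J • ⊤ : Submodule R R)) →ₗ[k] (C ⧸ (J • ⊤ : Submodule R C)) →ₗ[k] k :=
    Submodule.liftQ ((J • ⊤ : Submodule R R).restrictScalars k)
      (LinearMap.mk₂ k (fun x (q : C ⧸ (J • ⊤ : Submodule R C)) =>
        Submodule.liftQ ((J • ⊤ : Submodule R C).restrictScalars k) (B0 x) (fun c hc => by
          rw [LinearMap.mem_ker, hB0]
          exact lam_eq_zero hp (Submodule.smul_mem _ x hc)) q)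
        (fun x y q => by
          obtain ⟨c, rfl⟩ := Submodule.Quotient.mk_surjective _ q
          change lam _ = lam _ + lam _
          rw [add_smul, map_add])
        (fun a x q => by
          obtain ⟨c, rfl⟩ := Submodule.Quotient.mk_surjective _ q
          change lam _ = a • lam _
          rw [smul_assoc, map_smul])
        (fun x q q' => by
          obtain ⟨c, rfl⟩ := Submodule.Quotient.mk_surjective _ q
          obtain ⟨c', rfl⟩ := Submodule.Quotient.mk_surjective _ q'
          change lam (x • (c + c')) = lam _ + lam _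
          rw [smul_add, map_add])
        (fun a x q => by
          obtain ⟨c, rfl⟩ := Submodule.Quotient.mk_surjective _ q
          change lam (x • a • c) = a • lam _
          rw [smul_comm, map_smul]))
      (fun x hx => by
        rw [LinearMap.mem_ker]
        refine LinearMap.ext fun q => ?_
        obtain ⟨c, rfl⟩ := Submodule.Quotient.mk_surjective _ q
        change lam (x • c) = 0
        rw [Submodule.restrictScalars_mem, hJ] at hx
        exact hp.ideal x hx c)
  have hB : ∀ (x : R) (c : C), B (Submodule.Quotient.mk x) (Submodule.Quotient.mk c) = lam (x • c) :=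
    fun _ _ => rfl
  have hBl : Function.Injective B := by
    rw [injective_iff_map_eq_zero]
    intro q hq
    obtain ⟨x, rfl⟩ := Submodule.Quotient.mk_surjective _ q
    rw [Submodule.Quotient.mk_eq_zero, hJ]
    refine hp.mem_of_forall fun c => ?_
    rw [← hB, hq, LinearMap.zero_apply]
  have hBr : Function.Injective B.flip := by
    rw [injective_iff_map_eq_zero]
    intro q hq
    obtain ⟨c, rfl⟩ := Submodule.Quotient.mk_surjective _ q
    rw [Submodule.Quotient.mk_eq_zero]
    refine hp.mem_of_forall' fun x => ?_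
    rw [← hB, ← LinearMap.flip_apply, hq, LinearMap.zero_apply]
  have hperf : B.IsPerfPair := LinearMap.IsPerfPair.of_injective' hBl hBr
  -- the dual of `C / m C`
  have hle : (J • ⊤ : Submodule R C) ≤ m.toIdeal • ⊤ := Submodule.smul_mono_left hJm
  have hmk : ∀ (q : R ⧸ (J • ⊤ : Submodule R R)), q ∈ soc m.toIdeal (R ⧸ (J • ⊤ : Submodule R R)) →
      ∀ c ∈ (m.toIdeal • ⊤ : Submodule R C), B q (Submodule.Quotient.mk c) = 0 := by
    intro q hq c hc
    obtain ⟨x, rfl⟩ := Submodule.Quotient.mk_surjective _ q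
    rw [hB]
    refine Submodule.smul_induction_on hc (fun r hr c _ => ?_) fun x y hx hy => ?_
    · rw [smul_smul]
      have h1 := hq r hr
      rw [← Submodule.Quotient.mk_smul, Submodule.Quotient.mk_eq_zero, hJ, smul_eq_mul] at h1
      rw [mul_comm]
      exact hp.ideal _ h1 c
    · rw [smul_add, map_add, hx, hy, add_zero]
  let T : soc m.toIdeal (R ⧸ (J • ⊤ : Submodule R R)) →ₗ[k]
      Module.Dual k (C ⧸ (m.toIdeal • ⊤ : Submodule R C)) :=
    { toFun := fun q => Submodule.liftQ ((m.toIdeal • ⊤ : Submodule R C).restrictScalars k)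
        ((B q.1) ∘ₗ (Submodule.mkQ (J • ⊤ : Submodule R C)).restrictScalars k) fun c hc => by
          rw [LinearMap.mem_ker]
          exact hmk q.1 q.2 c hc
      map_add' := fun q q' => by
        refine LinearMap.ext fun p => ?_
        obtain ⟨c, rfl⟩ := Submodule.Quotient.mk_surjective _ p
        change B (q.1 + q'.1) _ = B q.1 _ + B q'.1 _
        rw [map_add, LinearMap.add_apply]
      map_smul' := fun a q => by
        refine LinearMap.ext fun p => ?_
        obtain ⟨c, rfl⟩ := Submodule.Quotient.mk_surjective _ p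
        change B (a • q.1) _ = a • B q.1 _
        rw [map_smul, LinearMap.smul_apply] }
  have hT : ∀ q (c : C), T q (Submodule.Quotient.mk c) = B q.1 (Submodule.Quotient.mk c) := fun _ _ => rfl
  have hTi : Function.Injective T := by
    rw [injective_iff_map_eq_zero]
    intro q hq
    refine Subtype.ext (hBl ?_)
    refine LinearMap.ext fun p => ?_
    obtain ⟨c, rfl⟩ := Submodule.Quotient.mk_surjective _ p
    rw [← hT, hq]
    simp
  have hTs : Function.Surjective T := by
    intro f
    let g : (C ⧸ (J • ⊤ : Submodule R C)) →ₗ[k] (C ⧸ (m.toIdeal • ⊤ : Submodule R C)) :=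
      (Submodule.factor hle).restrictScalars k
    obtain ⟨q, hq⟩ := hperf.bijective_left.2 (f ∘ₗ g)
    have hq' : ∀ c : C, B q (Submodule.Quotient.mk c) = f (Submodule.Quotient.mk c) := by
      intro c
      rw [hq]
      rfl
    have hqs : q ∈ soc m.toIdeal (R ⧸ (J • ⊤ : Submodule R R)) := by
      intro a ha
      obtain ⟨x, rfl⟩ := Submodule.Quotient.mk_surjective _ q
      rw [← Submodule.Quotient.mk_smul, Submodule.Quotient.mk_eq_zero, hJ]
      refine hp.mem_of_forall fun c => ?_
      have h1 := hq' (a • c)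
      rw [hB, smul_smul, mul_comm] at h1
      rw [smul_eq_mul, h1, (Submodule.Quotient.mk_eq_zero _).mpr
        (Submodule.smul_mem_smul ha Submodule.mem_top), map_zero]
    refine ⟨⟨q, hqs⟩, ?_⟩
    refine LinearMap.ext fun p => ?_
    obtain ⟨c, rfl⟩ := Submodule.Quotient.mk_surjective _ p
    rw [hT]
    exact hq' c
  have hfin : Module.Finite k (C ⧸ (m.toIdeal • ⊤ : Submodule R C)) :=
    Module.Finite.of_surjective ((Submodule.factor hle).restrictScalars k)
      (Submodule.factor_surjective hle)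
  rw [(LinearEquiv.ofBijective T ⟨hTi, hTs⟩).finrank_eq, Subspace.dual_finrank_eq]

/-- dimension of `R/m ⊗ C` over `R/m` and of `C / m C` over `k` -/
theorem finrank_tensor (h : PosField k 𝒜 m.toIdeal) [hm : m.toIdeal.IsMaximal] :
    Module.finrank (R ⧸ m.toIdeal) ((R ⧸ m.toIdeal) ⊗[R] C) =
      Module.finrank k (C ⧸ (m.toIdeal • ⊤ : Submodule R C)) := by
  have hb : Function.Bijective (algebraMap k (R ⧸ m.toIdeal)) := by
    letI := Ideal.Quotient.field m.toIdeal
    refine ⟨(algebraMap k (R ⧸ m.toIdeal)).injective, fun q => ?_⟩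
    obtain ⟨x, rfl⟩ := Ideal.Quotient.mk_surjective q
    obtain ⟨a, ha⟩ := h.exists_sub_mem x
    refine ⟨a, ?_⟩
    rw [← Ideal.Quotient.eq_zero_iff_mem, map_sub, sub_eq_zero] at ha
    rw [ha]
    rfl
  have e := (TensorProduct.quotTensorEquivQuotSMul C m.toIdeal).restrictScalars k
  have h1 : Module.finrank k ((R ⧸ m.toIdeal) ⊗[R] C) = Module.finrank k (C ⧸ (m.toIdeal • ⊤ : Submodule R C)) :=
    e.finrank_eq
  rw [← h1]
  rw [Module.finrank, Module.finrank]
  congr 1
  exact (rank_eq_of_equiv_equiv (algebraMap k (R ⧸ m.toIdeal)) (AddEquiv.refl _) hb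
    fun a x => (algebraMap_smul _ a x).symm).symm

end K762.Bass
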