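import Groth.Agent.GrLC.K762.Can
import Groth.Agent.Ega4A.CMModule

/-!
# The localization at the graded maximal ideal of a module with a regular sequence of parameters
-/

set_option autoImplicit false
set_option linter.unusedSectionVars false
set_option linter.style.haveILetI false
universe u

open DirectSum GrLC

namespace K762.CMod

open K762.Base K762.Nak K762.Reg K762.Param K762.Soc K762.Ht K762.Ext K762.Fld K762.AInv K762.Tower
  K762.Pair K762.Can K963.Iface RingTheory.Sequence

variable {k : Type u} [Field k] {R : Type u} [CommRing R] [Algebra k R]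
  {σ : Type u} [SetLike σ R] [AddSubgroupClass σ R] {𝒜 : ℤ → σ} [GradedRing 𝒜]
  {m : Ideal R} {C : Type u} [AddCommGroup C] [Module R C] {τ : Type u} [SetLike τ C] [AddSubgroupClass τ C]
  {n : ℕ} {θ : Fin n → R}

/-- A nonzero graded module has nonzero localization at `m`. -/
theorem nontrivial_localized (𝒞 : ℤ → τ) [Decomposition 𝒞] [SetLike.GradedSMul 𝒜 𝒞]
    (h : PosField k 𝒜 m) [m.IsPrime] [Nontrivial C] :
    Nontrivial (LocalizedModule m.primeCompl C) := by
  letI : Module k C := Module.compHom C (algebraMap k R)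
  haveI : IsScalarTower k R C := ⟨fun a r x => by
    change (a • r) • x = (algebraMap k R a) • (r • x)
    rw [Algebra.smul_def, mul_smul]⟩
  obtain ⟨x, hx⟩ := exists_ne (0 : C)
  obtain ⟨i, hi⟩ : ∃ i, pr 𝒞 i x ≠ 0 := by
    by_contra hcon
    push Not at hcon
    exact hx (eq_zero_of_pr (ℳ := 𝒞) hcon)
  refine ⟨LocalizedModule.mkLinearMap m.primeCompl C (pr 𝒞 i x), 0, fun h0 => hi ?_⟩
  rw [← map_zero (LocalizedModule.mkLinearMap m.primeCompl C)] at h0
  obtain ⟨s, hs⟩ := (IsLocalizedModule.eq_iff_exists m.primeCompl _).mp h0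
  have h1 : (s : R) • pr 𝒞 i x = 0 := by
    rw [smul_zero] at hs
    exact hs
  exact mem_of_smul_mem (ℳ := 𝒞) h (P := ⊥) (fun j y hy => by
    rw [Submodule.mem_bot] at hy ⊢
    rw [hy, decompose_zero]; rfl) (pr_mem i x) s.2 (by rw [h1]; exact Submodule.zero_mem _)

/-- If `dim R` elements of `m` form a regular sequence on `C`, then `C_m` is Cohen-Macaulay. -/
theorem isCohenMacaulayModule (𝒞 : ℤ → τ) [Decomposition 𝒞] [SetLike.GradedSMul 𝒜 𝒞]
    (h : PosField k 𝒜 m) [m.IsPrime] [IsNoetherianRing R] (hn : ringKrullDim R = n) [Module.Finite R C]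
    [Nontrivial C] (hθ : ∀ i, θ i ∈ m) (hreg : IsWeaklyRegular C (List.ofFn θ)) :
    LocCoh.IsCohenMacaulayModule (Localization.AtPrime m) (LocalizedModule m.primeCompl C) := by
  have hnt := nontrivial_localized 𝒞 h (C := C)
  apply Groth.Agent.Ega4A.CMModule.isCohenMacaulayModule_of_le
  refine (Module.supportDim_le_ringKrullDim _ _).trans ?_
  rw [IsLocalization.AtPrime.ringKrullDim_eq_height m, height_eq h hn]
  have h1 := hreg.of_isLocalizedModule (Localization.AtPrime m) m.primeCompl
    (LocalizedModule.mkLinearMap m.primeCompl C)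
  have h2 : (n : ℕ∞) ≤ LocCoh.depth (Localization.AtPrime m) (LocalizedModule m.primeCompl C) := by
    rw [LocCoh.depth, LocCoh.idealDepth]
    split_ifs with htop
    · exact le_top
    · refine le_iSup₂_of_le _ ⟨h1, fun r hr => ?_⟩ ?_
      · rw [List.mem_map] at hr
        obtain ⟨a, ha, rfl⟩ := hr
        rw [List.mem_ofFn] at ha
        obtain ⟨i, rfl⟩ := ha
        rw [IsLocalization.AtPrime.to_map_mem_maximal_iff _ m]
        exact hθ i
      · simp
  exact_mod_cast h2

end K762.CMod
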