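import Groth.Agent.GrLC.K762.Fld
import Groth.Agent.GrLC.K761.Baer

/-!
# Graded canonical modules over a field: perfect pairings
-/

set_option autoImplicit false
set_option linter.unusedSectionVars false
set_option linter.style.haveILetI false
universe u

open DirectSum GrLC

namespace K762.Can

open K762.Base K762.Nak K762.Reg K762.Param K762.Soc K762.Ht K762.Ext K762.Fld K762.AInv K762.Tower
  K762.Pair K963.Iface RingTheory.Sequence

section Hull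

variable {k : Type u} [Field k] {R : Type u} [CommRing R] [Algebra k R]
  {σ : Type u} [SetLike σ R] [AddSubgroupClass σ R] {𝒜 : ℤ → σ} [GradedRing 𝒜]
  {m : HomogeneousIdeal 𝒜}
  {E' : Type u} [AddCommGroup E'] [Module R E'] {τE : Type u} [SetLike τE E'] [AddSubgroupClass τE E']
  {𝓔 : ℤ → τE} [Decomposition 𝓔] [SetLike.GradedSMul 𝒜 𝓔] {e : (R ⧸ m.toIdeal) →ₗ[R] E'}
  {N : Type u} [AddCommGroup N] [Module R N] {τ : Type u} [SetLike τ N] [AddSubgroupClass τ N]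
  {𝒩 : ℤ → τ} [Decomposition 𝒩] [SetLike.GradedSMul 𝒜 𝒩]

/-- the image of `1` has degree `0`. -/
theorem e_one_mem (he : IsStarInjHull 𝒜 (quotGr 𝒜 m) 𝓔 e) : e (Ideal.Quotient.mk m.toIdeal 1) ∈ 𝓔 0 :=
  he.grHom 0 _ ⟨1, SetLike.one_mem_graded 𝒜, rfl⟩

theorem e_one_ne_zero (h : PosField k 𝒜 m.toIdeal) [Nontrivial R] (he : IsStarInjHull 𝒜 (quotGr 𝒜 m) 𝓔 e) :
    e (Ideal.Quotient.mk m.toIdeal 1) ≠ 0 := by
  intro h0
  have h1 := he.injective (h0.trans (map_zero e).symm)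
  rw [Ideal.Quotient.eq_zero_iff_mem, ← Ideal.eq_top_iff_one] at h1
  exact h.ne_top h1

/-- Essentiality. -/
theorem exists_smul_eq (h : PosField k 𝒜 m.toIdeal) (he : IsStarInjHull 𝒜 (quotGr 𝒜 m) 𝓔 e) {j : ℤ} {z : E'}
    (hz : z ∈ 𝓔 j) (hz0 : z ≠ 0) : ∃ r ∈ 𝒜 (-j), r • z = e (Ideal.Quotient.mk m.toIdeal 1) := by
  have hhom : (Submodule.span R {z}).IsHomogeneous 𝓔 := by
    rw [K762.Base.isHomogeneous_iff]
    intro i y hy
    obtain ⟨r, rfl⟩ := Submodule.mem_span_singleton.mp hy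
    have h1 := pr_smul_of_mem (𝒜 := 𝒜) (ℳ := 𝓔) r hz (i - j)
    rw [sub_add_cancel] at h1
    rw [h1]
    exact Submodule.smul_mem _ _ (Submodule.mem_span_singleton_self z)
  have hne : Submodule.span R {z} ≠ ⊥ := by
    rw [Ne, Submodule.span_singleton_eq_bot]
    exact hz0
  obtain ⟨y, hy, hy0⟩ := Submodule.exists_mem_ne_zero_of_ne_bot (he.essential _ hhom hne)
  obtain ⟨hy1, q, hq⟩ := hy
  obtain ⟨r, rfl⟩ := Submodule.mem_span_singleton.mp hy1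
  obtain ⟨a, rfl⟩ := Ideal.Quotient.mk_surjective q
  obtain ⟨c, hc⟩ := h.exists_sub_mem a
  have hac : Ideal.Quotient.mk m.toIdeal a = algebraMap k R c • Ideal.Quotient.mk m.toIdeal 1 := by
    rw [← Ideal.Quotient.eq] at hc
    rw [hc, Algebra.smul_def, map_one, mul_one]
    rfl
  rw [hac, map_smul] at hq
  have hc0 : c ≠ 0 := by
    rintro rfl
    rw [map_zero, zero_smul] at hq
    exact hy0 hq.symm
  have h2 : (algebraMap k R c⁻¹ * r) • z = e (Ideal.Quotient.mk m.toIdeal 1) := by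
    rw [mul_smul, ← hq, smul_smul, ← map_mul, inv_mul_cancel₀ hc0, map_one, one_smul]
  refine ⟨pr 𝒜 (-j) (algebraMap k R c⁻¹ * r), pr_mem _ _, ?_⟩
  rw [← pr_smul_of_mem (𝒜 := 𝒜) (ℳ := 𝓔) _ hz, h2, neg_add_cancel, pr_of_mem (e_one_mem he)]

/-- Cogeneration. -/
theorem exists_map (h : PosField k 𝒜 m.toIdeal) [IsNoetherianRing R]
    (he : IsStarInjHull 𝒜 (quotGr 𝒜 m) 𝓔 e) {i : ℤ} {c : N}
    (hc : c ∈ 𝒩 i) (hc0 : c ≠ 0) : ∃ f : N →ₗ[R] E', f c = e (Ideal.Quotient.mk m.toIdeal 1) := by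
  let T : R →ₗ[R] N := LinearMap.toSpanSingleton R N c
  have hrange : (LinearMap.range T).IsHomogeneous 𝒩 := by
    rw [K762.Base.isHomogeneous_iff]
    rintro j _ ⟨r, rfl⟩
    have h1 := pr_smul_of_mem (𝒜 := 𝒜) (ℳ := 𝒩) r hc (j - i)
    rw [sub_add_cancel] at h1
    exact ⟨pr 𝒜 (j - i) r, h1.symm⟩
  have hker : (LinearMap.ker T).IsHomogeneous 𝒜 := by
    rw [K762.Base.isHomogeneous_iff]
    intro j r hr
    have h1 := pr_smul_of_mem (𝒜 := 𝒜) (ℳ := 𝒩) r hc j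
    have h2 : r • c = 0 := hr
    rw [h2, pr_zero] at h1
    exact h1.symm
  have hle : LinearMap.ker T ≤ m.toIdeal := by
    refine h.le_of_isHomogeneous hker ?_
    rw [Ne, Ideal.eq_top_iff_one]
    intro h1
    have h2 : (1 : R) • c = 0 := h1
    rw [one_smul] at h2
    exact hc0 h2
  have hle' : LinearMap.ker T ≤ LinearMap.ker (e ∘ₗ (Submodule.mkQ m.toIdeal)) := by
    intro r hr
    have h1 : Submodule.mkQ m.toIdeal r = 0 := by
      rw [Submodule.mkQ_apply, Submodule.Quotient.mk_eq_zero]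
      exact hle hr
    rw [LinearMap.mem_ker, LinearMap.comp_apply, h1, map_zero]
  let g : LinearMap.range T →ₗ[R] E' :=
    ((LinearMap.ker T).liftQ (e ∘ₗ (Submodule.mkQ m.toIdeal)) hle') ∘ₗ T.quotKerEquivRange.symm.toLinearMap
  obtain ⟨f, hf⟩ := K761.Baer.extend 𝒜 𝒩 he.starInj hrange g
  refine ⟨f, ?_⟩
  have h1 : T 1 = c := one_smul R c
  have h2 : f c = g ⟨T 1, ⟨1, rfl⟩⟩ := by
    rw [← hf, LinearMap.comp_apply, Submodule.subtype_apply]
    exact congrArg f h1.symm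
  rw [h2]
  have h3 : T.quotKerEquivRange.symm ⟨T 1, ⟨1, rfl⟩⟩ = (LinearMap.ker T).mkQ 1 := by
    rw [LinearEquiv.symm_apply_eq]
    rfl
  change ((LinearMap.ker T).liftQ (e ∘ₗ (Submodule.mkQ m.toIdeal)) hle')
    (T.quotKerEquivRange.symm ⟨T 1, ⟨1, rfl⟩⟩) = _
  rw [h3, Submodule.mkQ_apply, Submodule.liftQ_apply]
  rfl

/-- Cogeneration modulo a homogeneous submodule. -/
theorem exists_map_of_notMem (h : PosField k 𝒜 m.toIdeal) [IsNoetherianRing R]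
    (he : IsStarInjHull 𝒜 (quotGr 𝒜 m) 𝓔 e) {P : Submodule R N} (hP : P.IsHomogeneous 𝒩) {i : ℤ} {c : N}
    (hc : c ∈ 𝒩 i) (hc0 : c ∉ P) :
    ∃ f : N →ₗ[R] E', (∀ y ∈ P, f y = 0) ∧ f c = e (Ideal.Quotient.mk m.toIdeal 1) := by
  letI := K761.Gr.quoDec 𝒩 hP
  letI := K761.Gr.quoGSMul 𝒜 𝒩 P
  obtain ⟨f, hf⟩ := exists_map (N := N ⧸ P) (𝒩 := K761.Gr.quoGr 𝒩 P) h he (i := i) (c := P.mkQ c)
    (show P.mkQ c ∈ K761.Gr.quoGr 𝒩 P i from ⟨c, hc, rfl⟩)
    (fun h0 => hc0 (by rwa [← Submodule.ker_mkQ P, LinearMap.mem_ker]))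
  refine ⟨f ∘ₗ P.mkQ, fun y hy => ?_, hf⟩
  rw [← Submodule.ker_mkQ P, LinearMap.mem_ker] at hy
  rw [LinearMap.comp_apply, hy, map_zero]

end Hull

section Canonical

variable {k : Type u} [Field k] {R : Type u} [CommRing R] [Algebra k R]
  {σ : Type u} [SetLike σ R] [AddSubgroupClass σ R] {𝒜 : ℤ → σ} [GradedRing 𝒜]
  {m : HomogeneousIdeal 𝒜}
  {E' : Type u} [AddCommGroup E'] [Module R E'] {τE : Type u} [SetLike τE E'] [AddSubgroupClass τE E']
  {𝓔 : ℤ → τE} [Decomposition 𝓔] [SetLike.GradedSMul 𝒜 𝓔] {e : (R ⧸ m.toIdeal) →ₗ[R] E'}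
  {C : Type u} [AddCommGroup C] [Module R C] {τ : Type u} [SetLike τ C] [AddSubgroupClass τ C]
  {𝒞 : ℤ → τ} [Decomposition 𝒞] [SetLike.GradedSMul 𝒜 𝒞]
  {n : ℕ} {θ : Fin n → R} {w : Fin n → ℤ}

/-- The inverse of a homogeneous isomorphism `Hom(C, E') ≃ H` is homogeneous. -/
theorem isGrHomDeg_symm [Module.Finite R C] (I : StarInjRes 𝒜 𝒜)
    (φ : (C →ₗ[R] E') ≃ₗ[R] I.H m n)
    (hφ : IsGrHom (fun d => (homDeg 𝒜 𝒞 𝓔 d).toAddSubgroup) (I.Hgr m n) φ.toLinearMap) {d : ℤ}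
    {y : I.H m n} (hy : y ∈ I.Hcomp m n d) : IsGrHomDeg 𝒞 𝓔 (φ.symm y) d := by
  letI := Hdec I m n
  obtain ⟨D, -, hD⟩ := K761.Gr.exists_finset_homPr 𝒜 𝒞 𝓔 (φ.symm y)
  have hsum := hD (D ∪ {d}) Finset.subset_union_left
  -- components of `y`
  have h1 : ∀ j, φ (K761.Gr.homPr 𝒜 𝒞 𝓔 (φ.symm y) j) ∈ I.Hgr m n j := fun j =>
    hφ j _ (K761.Gr.homPr_isGrHomDeg 𝒜 𝒞 𝓔 _ j)
  have h2 : φ (K761.Gr.homPr 𝒜 𝒞 𝓔 (φ.symm y) d) = y := by
    have h3 : pr (I.Hgr m n) d y = φ (K761.Gr.homPr 𝒜 𝒞 𝓔 (φ.symm y) d) := by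
      have h4 : y = ∑ j ∈ D ∪ {d}, φ (K761.Gr.homPr 𝒜 𝒞 𝓔 (φ.symm y) j) := by
        rw [← map_sum, hsum, LinearEquiv.apply_symm_apply]
      conv_lhs => rw [h4, pr_sum]
      rw [Finset.sum_eq_single d]
      · exact pr_of_mem (h1 d)
      · intro j _ hj
        exact pr_of_mem_ne (h1 j) hj
      · intro hd
        exact absurd (Finset.mem_union_right _ (Finset.mem_singleton_self d)) hd
    rw [← h3]
    exact pr_of_mem (show y ∈ I.Hgr m n d from hy)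
  have h3 : φ.symm y = K761.Gr.homPr 𝒜 𝒞 𝓔 (φ.symm y) d := by
    rw [LinearEquiv.symm_apply_eq, h2]
  rw [h3]
  exact K761.Gr.homPr_isGrHomDeg 𝒜 𝒞 𝓔 _ d

/-- The canonical module: parameters are regular and there is a perfect pairing. -/
theorem exists_canPair (h : PosField k 𝒜 m.toIdeal) [IsNoetherianRing R] [Nontrivial R]
    [Module k C] [IsScalarTower k R C]
    (hθ : ∀ i, θ i ∈ 𝒜 (w i)) (hw : ∀ i, 0 < w i) (hreg : IsWeaklyRegular R (List.ofFn θ))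
    {N : ℕ} (hN : m.toIdeal ^ N ≤ Ideal.span (Set.range θ)) (I : StarInjRes 𝒜 𝒜)
    (he : IsStarInjHull 𝒜 (quotGr 𝒜 m) 𝓔 e) (hC : IsStarCanonical 𝒜 𝒞 𝓔 m n I) :
    IsParam k 𝒞 θ ∧ ∃ lam : C →ₗ[k] k, CanPair k 𝒜 𝒞 (Ideal.span (Set.range θ)) (∑ i, w i) lam := by
  obtain ⟨hfin, φ, hφ⟩ := hC
  have hθm : ∀ i, θ i ∈ m.toIdeal := fun i => h.mem_of_pos (hw i) (hθ i)
  obtain ⟨-, ψ, hψk, hψr, hψd, hψc⟩ := tower m n θ w hθ hθm hreg (fun x => ⟨N, fun r hr => by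
    rw [smul_eq_mul, smul_eq_mul, Ideal.mul_top]
    exact Ideal.mul_mem_right _ _ (hN hr)⟩) I
  have hψx : ∀ x, ψ x = x • ψ 1 := fun x => by rw [← map_smul, smul_eq_mul, mul_one]
  have hJ : ∀ x, x ∈ Ideal.span (Set.range θ) ↔ x • ψ 1 = 0 := by
    intro x
    rw [← hψx, ← LinearMap.mem_ker, hψk, smul_eq_mul, Ideal.mul_top]
  have hψ1 : ψ 1 ∈ I.Hcomp m n (- ∑ i, w i) := by
    have := hψd 0 1 (SetLike.one_mem_graded 𝒜)
    rwa [zero_sub] at this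
  -- regularity
  have hregC : IsWeaklyRegular C (List.ofFn θ) := by
    rw [isWeaklyRegular_ofFn_iff]
    intro i x hx
    suffices H : ∀ j, ∀ x ∈ 𝒞 j, θ i • x ∈ (pre θ i • ⊤ : Submodule R C) →
        x ∈ (pre θ i • ⊤ : Submodule R C) by
      obtain ⟨s, hs⟩ := exists_sum_pr (ℳ := 𝒞) x
      rw [← hs]
      refine Submodule.sum_mem _ fun j _ => H j _ (pr_mem j x) ?_
      have h1 : pr 𝒞 (w i + j) (θ i • x) ∈ (pre θ i • ⊤ : Submodule R C) :=
        isHomogeneous_pre_smul hθ i _ hx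
      rwa [pr_smul (𝒜 := 𝒜) (hθ i), add_sub_cancel_left] at h1
    clear hx x
    intro j x hxj hx
    by_contra hxP
    obtain ⟨f, hfP, hfx⟩ := exists_map_of_notMem (𝒩 := 𝒞) h he (isHomogeneous_pre_smul hθ i) hxj hxP
    have h1 : ∀ j < i, θ j • φ f = 0 := by
      intro j hj
      have h2 : θ j • f = 0 := by
        ext y
        rw [LinearMap.smul_apply, ← map_smul, LinearMap.zero_apply]
        exact hfP _ (Submodule.smul_mem_smul (mem_pre hj) Submodule.mem_top)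
      rw [← map_smul, h2, map_zero]
    obtain ⟨z, hz, hz'⟩ := hψc i (φ f) h1
    have h2 : ∀ y ∈ (pre θ i • ⊤ : Submodule R C), φ.symm z y = 0 := by
      intro y hy
      obtain ⟨z', rfl⟩ := mem_pre_smul.mp hy
      rw [map_sum]
      refine Finset.sum_eq_zero fun l _ => ?_
      rw [map_smul, ← LinearMap.smul_apply, ← map_smul, hz l.1 l.2, map_zero, LinearMap.zero_apply]
    have h3 : θ i • φ.symm z = f := by
      rw [← map_smul, hz', LinearEquiv.symm_apply_apply]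
    have h4 : f x = 0 := by
      rw [← h3, LinearMap.smul_apply, ← map_smul]
      exact h2 _ hx
    rw [hfx] at h4
    exact e_one_ne_zero h he h4
  have hmC : (m.toIdeal ^ N • ⊤ : Submodule R C) ≤ Ideal.span (Set.range θ) • ⊤ :=
    Submodule.smul_mono_left hN
  refine ⟨⟨bddBelow_of_finite (𝒜 := 𝒜) h.pos, hregC, finite_quotient h.exists_sub_mem N _ hmC⟩, ?_⟩
  -- the functional
  set η := φ.symm (ψ 1) with hη
  have hηd : IsGrHomDeg 𝒞 𝓔 η (- ∑ i, w i) := isGrHomDeg_symm I φ hφ hψ1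
  letI : Module k E' := Module.compHom E' (algebraMap k R)
  haveI : IsScalarTower k R E' := ⟨fun a r x => by
    change (a • r) • x = (algebraMap k R a) • (r • x)
    rw [Algebra.smul_def, mul_smul]⟩
  obtain ⟨ν, hν⟩ := Module.Projective.exists_dual_eq_one k (e_one_ne_zero h he)
  let lam : C →ₗ[k] k := ν ∘ₗ (prLin h 𝓔 0) ∘ₗ (η.restrictScalars k)
  have hlam : ∀ c, lam c = ν (pr 𝓔 0 (η c)) := fun _ => rfl
  have hdeg : ∀ i, i ≠ ∑ i, w i → ∀ c ∈ 𝒞 i, lam c = 0 := by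
    intro i hi c hc
    rw [hlam, pr_of_mem_ne (hηd i c hc), map_zero]
    omega
  refine ⟨lam, hdeg, ?_, ?_, ?_⟩
  · intro x hx c
    have h1 : η (x • c) = 0 := by
      rw [map_smul, ← LinearMap.smul_apply, hη, ← map_smul, (hJ x).mp hx, map_zero,
        LinearMap.zero_apply]
    rw [hlam, h1, pr_zero, map_zero]
  · intro i x hx hxJ
    have h1 : x • η ≠ 0 := by
      intro h0
      apply hxJ
      rw [hJ, ← φ.symm.map_eq_zero_iff, map_smul]
      exact h0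
    obtain ⟨j, c, hc, hne⟩ : ∃ j, ∃ c ∈ 𝒞 j, η (x • c) ≠ 0 := by
      by_contra hcon
      push Not at hcon
      apply h1
      ext c
      rw [LinearMap.smul_apply, ← map_smul, LinearMap.zero_apply]
      obtain ⟨s, hs⟩ := exists_sum_pr (ℳ := 𝒞) c
      rw [← hs, Finset.smul_sum, map_sum]
      exact Finset.sum_eq_zero fun j _ => hcon j _ (pr_mem j c)
    obtain ⟨r, hr, hr1⟩ := exists_smul_eq h he
      (hηd _ _ (smul_mem (𝒜 := 𝒜) (ℳ := 𝒞) hx hc rfl)) hne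
    refine ⟨r • c, smul_mem (𝒜 := 𝒜) (ℳ := 𝒞) hr hc (by ring), ?_⟩
    rw [hlam, smul_comm, map_smul, hr1, pr_of_mem (e_one_mem he), hν]
    exact one_ne_zero
  · intro i c hc hcJ
    have hJh : (Ideal.span (Set.range θ) • ⊤ : Submodule R C).IsHomogeneous 𝒞 :=
      isHomogeneous_smul (isHomogeneous_span_range hθ) isHomogeneous_top
    obtain ⟨f, hfP, hfc⟩ := exists_map_of_notMem (𝒩 := 𝒞) h he hJh hc hcJ
    obtain ⟨x, hx⟩ := (hψr (φ f)).mpr fun i => by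
      have h2 : θ i • f = 0 := by
        ext y
        rw [LinearMap.smul_apply, ← map_smul, LinearMap.zero_apply]
        exact hfP _ (Submodule.smul_mem_smul (Ideal.subset_span ⟨i, rfl⟩) Submodule.mem_top)
      rw [← map_smul, h2, map_zero]
    have hf : f = x • η := by
      rw [hη, ← map_smul, ← hψx, hx, LinearEquiv.symm_apply_apply]
    have h3 : lam (x • c) ≠ 0 := by
      rw [hlam, map_smul, ← LinearMap.smul_apply, ← hf, hfc, pr_of_mem (e_one_mem he), hν]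
      exact one_ne_zero
    obtain ⟨j, hj⟩ : ∃ j, lam (pr 𝒜 j x • c) ≠ 0 := by
      by_contra hcon
      push Not at hcon
      apply h3
      obtain ⟨s, hs⟩ := exists_sum_pr (ℳ := 𝒜) x
      rw [← hs, Finset.sum_smul, map_sum]
      exact Finset.sum_eq_zero fun j _ => hcon j
    have hji : j + i = ∑ i, w i := by
      by_contra hne
      exact hj (hdeg _ hne _ (smul_mem (𝒜 := 𝒜) (ℳ := 𝒞) (pr_mem j x) hc rfl))
    refine ⟨pr 𝒜 j x, ?_, hj⟩
    rw [← hji, add_sub_cancel_right]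
    exact pr_mem j x

end Canonical

end K762.Can
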