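import Mathlib.RingTheory.GradedAlgebra.Basic
import Mathlib.Algebra.DirectSum.Module
import Mathlib.LinearAlgebra.DFinsupp
import Mathlib.RingTheory.MvPolynomial.Homogeneous
import Mathlib.Algebra.MonoidAlgebra.Basic
import Mathlib.FieldTheory.IsAlgClosed.Basic
import Mathlib.RingTheory.AlgebraicIndependent.TranscendenceBasis
import Mathlib.Algebra.Polynomial.Basic
import Mathlib.RingTheory.Localization.FractionRing

/-!
# Graded domains of transcendence degree at most one over an algebraically closed field

* `exists_smul_eq`: two elements of the same nonzero degree are proportional;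
* `nonempty_algEquiv`: a graded algebra with a multiplicative system of homogeneous generators of its
  pieces is a monoid algebra.
-/

set_option autoImplicit false
universe u v

namespace K762.DimOne

open MvPolynomial DirectSum

section Proportional

variable {k : Type u} [Field k] {R : Type v} [CommRing R] [Algebra k R]
  (𝒜 : ℤ → Submodule k R) [GradedAlgebra 𝒜]

/-- The value of a binary form of degree `d` at elements of degree `n` has degree `d * n`. -/
theorem aeval_mem (n : ℤ) (x : Fin 2 → R) (hx : ∀ i, x i ∈ 𝒜 n) (d : ℕ)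
    (P : MvPolynomial (Fin 2) k) (hP : P.IsHomogeneous d) : aeval x P ∈ 𝒜 (d * n) := by
  rw [aeval_def, eval₂_eq']
  refine Submodule.sum_mem _ fun s hs => ?_
  rw [← Algebra.smul_def]
  refine Submodule.smul_mem _ _ ?_
  have h1 := hP (mem_support_iff.mp hs)
  rw [Finsupp.weight_apply, Finsupp.sum_fintype _ _ (by simp)] at h1
  have h2 := SetLike.prod_pow_mem_graded 𝒜 (fun _ : Fin 2 => n) x (F := Finset.univ) (fun i => s i)
    (fun i _ => hx i)
  have h3 : (∑ k : Fin 2, s k • n : ℤ) = d * n := by
    rw [← h1]
    simp [add_mul]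
  rw [h3] at h2
  exact h2

/-- Two elements of the same nonzero degree in a graded domain of transcendence degree at most one
over an algebraically closed field are proportional. -/
theorem exists_smul_eq [IsAlgClosed k] [IsDomain R] (htr : Algebra.trdeg k R ≤ 1) (n : ℤ) (hn : n ≠ 0)
    (x y : R) (hx : x ∈ 𝒜 n) (hy : y ∈ 𝒜 n) (hy0 : y ≠ 0) : ∃ c : k, x = c • y := by
  classical
  have hdep : ¬ AlgebraicIndependent k ![x, y] := by
    intro h
    have h1 := h.lift_cardinalMk_le_trdeg
    have h2 : Cardinal.lift.{v} (Cardinal.mk (Fin 2)) = 2 := by simp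
    rw [h2] at h1
    have h3 : Cardinal.lift.{0} (Algebra.trdeg k R) ≤ 1 := by simpa using htr
    exact absurd (h1.trans h3) (by norm_num)
  rw [algebraicIndependent_iff] at hdep
  push Not at hdep
  obtain ⟨P, hP, hP0⟩ := hdep
  have hxy : ∀ i : Fin 2, ![x, y] i ∈ 𝒜 n := by
    intro i
    fin_cases i
    · exact hx
    · exact hy
  have hcomp : ∀ d : ℕ, aeval ![x, y] (homogeneousComponent d P) = 0 := by
    intro d
    by_cases hd : d ∈ Finset.range (P.totalDegree + 1)
    · have h1 : aeval ![x, y] P = ∑ i ∈ Finset.range (P.totalDegree + 1),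
          aeval ![x, y] (homogeneousComponent i P) := by
        conv_lhs => rw [← sum_homogeneousComponent P]
        rw [map_sum]
      rw [hP] at h1
      have h2 : (decompose 𝒜 (0 : R) (d * n) : R) = ∑ i ∈ Finset.range (P.totalDegree + 1),
          (decompose 𝒜 (aeval ![x, y] (homogeneousComponent i P)) (d * n) : R) := by
        rw [h1, decompose_sum, DFinsupp.finsetSum_apply, AddSubmonoidClass.coe_finsetSum]
      rw [Finset.sum_eq_single_of_mem d hd] at h2
      · rw [decompose_of_mem_same 𝒜 (aeval_mem 𝒜 n _ hxy d _ (homogeneousComponent_isHomogeneous d P))]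
          at h2
        rw [← h2, decompose_zero]
        rfl
      · intro i _ hi
        refine decompose_of_mem_ne 𝒜 (aeval_mem 𝒜 n _ hxy i _ (homogeneousComponent_isHomogeneous i P)) ?_
        intro h
        exact hi (by exact_mod_cast mul_right_cancel₀ hn h)
    · rw [homogeneousComponent_eq_zero d P (by simpa using hd), map_zero]
  obtain ⟨d, hd⟩ : ∃ d : ℕ, homogeneousComponent d P ≠ 0 := by
    by_contra h
    push Not at h
    exact hP0 (by rw [← sum_homogeneousComponent P]; exact Finset.sum_eq_zero fun i _ => h i)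
  set F := homogeneousComponent d P with hF
  have hFh : F.IsHomogeneous d := homogeneousComponent_isHomogeneous d P
  have hFs : ∀ s ∈ F.support, s 0 + s 1 = d := by
    intro s hs
    have h1 := hFh (mem_support_iff.mp hs)
    rw [Finsupp.weight_apply, Finsupp.sum_fintype _ _ (by simp)] at h1
    simpa using h1
  obtain ⟨s₀, hs₀⟩ : ∃ s, s ∈ F.support := by
    by_contra h
    push Not at h
    exact hd (support_eq_empty.mp (Finset.eq_empty_of_forall_notMem h))
  let K := FractionRing R
  let Q : Polynomial k := ∑ s ∈ F.support, Polynomial.C (F.coeff s) * Polynomial.X ^ (s 0)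
  have hQ0 : Q ≠ 0 := by
    intro h
    have h1 : Q.coeff (s₀ 0) = F.coeff s₀ := by
      simp only [Q, Polynomial.finsetSum_coeff, Polynomial.coeff_C_mul, Polynomial.coeff_X_pow]
      rw [Finset.sum_eq_single_of_mem s₀ hs₀]
      · simp
      · intro s hs hne
        rw [if_neg, mul_zero]
        intro h0
        apply hne
        have e0 := hFs s hs
        have e1 := hFs s₀ hs₀
        ext i
        fin_cases i
        · exact h0.symm
        · change s 1 = s₀ 1
          omega
    rw [h, Polynomial.coeff_zero] at h1
    exact (mem_support_iff.mp hs₀) h1.symm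
  let x' : K := algebraMap R K x
  let y' : K := algebraMap R K y
  have hy' : y' ≠ 0 := by
    intro h
    exact hy0 ((IsFractionRing.injective R K) (by simpa [y'] using h))
  have hQ : Polynomial.aeval (x' / y') Q = 0 := by
    have h1 : algebraMap R K (aeval ![x, y] F) = 0 := by rw [hcomp d, map_zero]
    rw [aeval_def, eval₂_eq', map_sum] at h1
    have h2 : y' ^ d * Polynomial.aeval (x' / y') Q = 0 := by
      rw [← h1, map_sum, Finset.mul_sum]
      refine Finset.sum_congr rfl fun s hs => ?_
      rw [map_mul, map_mul, Fin.prod_univ_two]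
      simp only [Polynomial.aeval_C, map_pow, Polynomial.aeval_X, Matrix.cons_val_zero, Matrix.cons_val_one,
        ← IsScalarTower.algebraMap_apply k R K, map_mul]
      have h3 : y' ^ s 0 ≠ 0 := pow_ne_zero _ hy'
      have h4 : y' ^ d * (x' / y') ^ s 0 = x' ^ s 0 * y' ^ s 1 := by
        rw [← hFs s hs, pow_add, div_pow, mul_right_comm, mul_div_cancel₀ _ h3]
      calc y' ^ d * (algebraMap k K (F.coeff s) * (x' / y') ^ s 0)
          = algebraMap k K (F.coeff s) * (y' ^ d * (x' / y') ^ s 0) := by ring
        _ = _ := by rw [h4]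
    exact (mul_eq_zero.mp h2).resolve_left (pow_ne_zero _ hy')
  have halg : IsIntegral k (x' / y') := by
    have : IsAlgebraic k (x' / y') := ⟨Q, hQ0, hQ⟩
    exact this.isIntegral
  obtain ⟨c, hc⟩ := minpoly.mem_range_of_degree_eq_one k (x' / y')
    (IsAlgClosed.degree_eq_one_of_irreducible k (minpoly.irreducible halg))
  refine ⟨c, (IsFractionRing.injective R K) ?_⟩
  rw [Algebra.smul_def, map_mul, ← IsScalarTower.algebraMap_apply k R K, hc]
  exact (div_mul_cancel₀ x' hy').symm

end Proportional

section Equiv

variable {k : Type u} [Field k] {R : Type v} [CommRing R] [Algebra k R]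
  (𝒜 : ℤ → Submodule k R) [GradedAlgebra 𝒜]

/-- A graded algebra whose pieces are spanned by a multiplicative system of nonzero homogeneous
elements indexed by a monoid is a monoid algebra. -/
theorem nonempty_algEquiv (M : Type) [AddCommMonoid M] (j : M → ℤ) (hj : Function.Injective j)
    (hj' : ∀ n : ℤ, n ∉ Set.range j → 𝒜 n = ⊥) (y : Multiplicative M →* R)
    (hy : ∀ a : M, y (Multiplicative.ofAdd a) ∈ 𝒜 (j a)) (hy0 : ∀ a : M, y (Multiplicative.ofAdd a) ≠ 0)
    (hys : ∀ (a : M) (z : R), z ∈ 𝒜 (j a) → ∃ c : k, z = c • y (Multiplicative.ofAdd a)) :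
    Nonempty (R ≃ₐ[k] AddMonoidAlgebra k M) := by
  classical
  have hli : LinearIndependent k (fun a : M => y (Multiplicative.ofAdd a)) :=
    iSupIndep.linearIndependent (fun a : M => 𝒜 (j a))
      ((DirectSum.Decomposition.isInternal 𝒜).submodule_iSupIndep.comp hj) hy hy0
  have hsp : ∀ r : R, r ∈ Submodule.span k (Set.range (fun a : M => y (Multiplicative.ofAdd a))) := by
    intro r
    rw [← DirectSum.sum_support_decompose 𝒜 r]
    refine Submodule.sum_mem _ fun n _ => ?_
    by_cases hn : n ∈ Set.range j
    · obtain ⟨a, rfl⟩ := hn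
      obtain ⟨c, hc⟩ := hys a _ (SetLike.coe_mem (decompose 𝒜 r (j a)))
      rw [hc]
      exact Submodule.smul_mem _ _ (Submodule.subset_span ⟨a, rfl⟩)
    · have : (decompose 𝒜 r n : R) ∈ 𝒜 n := SetLike.coe_mem _
      have h0 : (decompose 𝒜 r n : R) = 0 := by
        have h1 : ∀ z : R, z ∈ 𝒜 n → z = 0 := fun z hz => by
          rw [hj' n hn] at hz
          exact (Submodule.mem_bot k).mp hz
        exact h1 _ this
      rw [h0]
      exact Submodule.zero_mem _
  let f : AddMonoidAlgebra k M →ₐ[k] R := AddMonoidAlgebra.lift k R M y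
  have hf : ∀ P, f P = Finsupp.linearCombination k (fun a : M => y (Multiplicative.ofAdd a)) P.coeff := by
    intro P
    exact AddMonoidAlgebra.lift_apply y P
  have hinj : Function.Injective f := by
    intro P Q h
    rw [hf, hf] at h
    exact AddMonoidAlgebra.coeff_injective (hli h)
  have hsurj : Function.Surjective f := by
    intro r
    have := hsp r
    rw [Finsupp.mem_span_range_iff_exists_finsupp] at this
    obtain ⟨c, hc⟩ := this
    refine ⟨AddMonoidAlgebra.ofCoeff c, ?_⟩
    rw [hf]
    exact hc
  exact ⟨(AlgEquiv.ofBijective f ⟨hinj, hsurj⟩).symm⟩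

end Equiv

end K762.DimOne
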