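import Groth.Agent.GrLC.K762.AInv
import Mathlib.RingTheory.Ideal.AssociatedPrime.Finiteness

/-!
# Extending homogeneous regular sequences to parameters; top degrees
-/

set_option autoImplicit false
set_option linter.unusedSectionVars false
set_option linter.style.haveILetI false
universe u

open DirectSum GrLC

namespace K762.Ext

open K762.Base K762.Nak K762.Reg K762.Param K762.Soc K762.Ht RingTheory.Sequence

section Top

variable {k : Type u} [Field k] {R : Type u} [CommRing R] [Algebra k R]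
  {σ : Type u} [SetLike σ R] [AddSubgroupClass σ R] {𝒜 : ℤ → σ} [GradedRing 𝒜]
  {M : Type u} [AddCommGroup M] [Module R M] [Module k M] [IsScalarTower k R M]
  {τ : Type u} [SetLike τ M] [AddSubgroupClass τ M]
  {ℳ : ℤ → τ} [Decomposition ℳ] [SetLike.GradedSMul 𝒜 ℳ] {m : Ideal R}

/-- The degrees of a quotient which is finite over `k` are bounded above. -/
theorem bddAbove_of_finite (h : PosField k 𝒜 m) {P : Submodule R M} (hP : P.IsHomogeneous ℳ)
    [hf : Module.Finite k (M ⧸ P)] : ∃ b : ℤ, ∀ i, b < i → ∀ x ∈ ℳ i, x ∈ P := by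
  classical
  obtain ⟨T, hT⟩ := hf.fg_top
  choose r hr using fun q : M ⧸ P => Submodule.mkQ_surjective _ q
  choose u hu using fun x : M => exists_sum_pr (ℳ := ℳ) x
  let D : Finset ℤ := T.biUnion fun q => u (r q)
  have hD : ∀ i, i ∉ D → ∀ x ∈ ℳ i, x ∈ P := by
    intro i hi x hx
    have h1 : P.mkQ x ∈ Submodule.span k (T : Set (M ⧸ P)) := by rw [hT]; trivial
    have key : ∀ q ∈ Submodule.span k (T : Set (M ⧸ P)), ∃ y, pr ℳ i y = 0 ∧ P.mkQ y = q := by
      intro q hq
      induction hq using Submodule.span_induction with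
      | mem q hq =>
        refine ⟨r q, ?_, hr q⟩
        conv_lhs => rw [← hu (r q), pr_sum]
        refine Finset.sum_eq_zero fun j hj => pr_of_mem_ne (pr_mem j _) ?_
        rintro rfl
        exact hi (Finset.mem_biUnion.mpr ⟨q, hq, hj⟩)
      | zero => exact ⟨0, pr_zero i, map_zero _⟩
      | add p q _ _ hp hq =>
        obtain ⟨y, hy, rfl⟩ := hp
        obtain ⟨z, hz, rfl⟩ := hq
        exact ⟨y + z, by rw [pr_add, hy, hz, add_zero], map_add _ _ _⟩
      | smul c q _ hq =>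
        obtain ⟨y, hy, rfl⟩ := hq
        refine ⟨c • y, ?_, ?_⟩
        · rw [← algebraMap_smul R c y, pr_smul (𝒜 := 𝒜) (h.alg c), sub_zero, hy, smul_zero]
        · rw [← algebraMap_smul R c y, map_smul, algebraMap_smul]
    obtain ⟨y, hy, hyx⟩ := key _ h1
    have h2 : x - y ∈ P := by
      rw [← Submodule.Quotient.mk_eq_zero, Submodule.Quotient.mk_sub, sub_eq_zero]
      exact hyx.symm
    have h3 : pr ℳ i (x - y) ∈ P := hP i h2
    rwa [pr_sub, pr_of_mem hx, hy, sub_zero] at h3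
  rcases D.eq_empty_or_nonempty with he | hne
  · exact ⟨0, fun i _ => hD i (by rw [he]; simp)⟩
  · refine ⟨D.max' hne, fun i hi => hD i fun hmem => ?_⟩
    exact absurd (D.le_max' i hmem) (by omega)

/-- The top degree of a nonzero quotient which is finite over `k`. -/
theorem exists_top (h : PosField k 𝒜 m) {P : Submodule R M} (hP : P.IsHomogeneous ℳ) (hP1 : P ≠ ⊤)
    [hf : Module.Finite k (M ⧸ P)] : ∃ s : ℤ, (∃ x ∈ ℳ s, x ∉ P) ∧ ∀ i, s < i → ∀ x ∈ ℳ i, x ∈ P := by
  obtain ⟨b, hb⟩ := bddAbove_of_finite h hP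
  obtain ⟨s, hs, hmax⟩ := Int.exists_greatest_of_bdd (P := fun s => ∃ x ∈ ℳ s, x ∉ P) ⟨b, fun s hs => by
    by_contra hlt
    obtain ⟨x, hx, hxP⟩ := hs
    exact hxP (hb s (by omega) x hx)⟩ (by
    by_contra hcon
    push Not at hcon
    apply hP1
    rw [eq_top_iff]
    exact le_of_homog (ℳ := ℳ) isHomogeneous_top fun i x hx _ => hcon i x hx)
  refine ⟨s, hs, fun i hi x hx => ?_⟩
  by_contra hxP
  exact absurd (hmax i ⟨x, hx, hxP⟩) (by omega)

end Top

section Dim

variable {R : Type u} [CommRing R]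

theorem notMem_of_minimalPrimes [IsNoetherianRing R] {J : Ideal R} {x : R}
    (hx : ∀ y, x * y ∈ J → y ∈ J) {P : Ideal R} (hP : P ∈ J.minimalPrimes) : x ∉ P := by
  intro hxP
  have h1 : P ∈ associatedPrimes R (R ⧸ J) := by
    apply Module.associatedPrimes.minimalPrimes_annihilator_subset_associatedPrimes
    rwa [Ideal.annihilator_quotient]
  obtain ⟨hp, s, hs⟩ := isAssociatedPrime_iff.1 h1
  obtain ⟨s, rfl⟩ := Ideal.Quotient.mk_surjective s
  have h2 : x * s ∈ J := by
    rw [hs] at hxP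
    have h3 : x • (Ideal.Quotient.mk J s) = 0 := by simpa using hxP
    rw [← Ideal.Quotient.eq_zero_iff_mem, ← h3]
    rfl
  have h3 : Ideal.Quotient.mk J s = 0 := Ideal.Quotient.eq_zero_iff_mem.mpr (hx s h2)
  apply hp.ne_top
  rw [hs, h3]
  simp

/-- A weakly regular sequence lowers the dimension. -/
theorem dim_pre_le [IsNoetherianRing R] {t : ℕ} {f : Fin t → R} (hreg : IsWeaklyRegular R (List.ofFn f))
    {n : ℕ} (hn : ringKrullDim R ≤ n) : ∀ i, i ≤ t → i ≤ n → ringKrullDim (R ⧸ pre f i) ≤ (n - i : ℕ) := by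
  intro i
  induction i with
  | zero =>
    intro _ _
    rw [pre_zero, ringKrullDim_eq_of_ringEquiv (RingEquiv.quotientBot R), Nat.sub_zero]
    exact hn
  | succ i ih =>
    intro hit hin
    have h1 := ih (by omega) (by omega)
    have h2 : pre f (i + 1) = pre f i ⊔ Ideal.span {f ⟨i, by omega⟩} := pre_succ f ⟨i, by omega⟩
    rw [h2]
    refine dim_step (fun P hP hxP => ?_) _ (by
      have : n - (i + 1) + 1 = n - i := by omega
      rw [this]
      exact h1)
    refine absurd hxP (notMem_of_minimalPrimes (fun y hy => ?_) hP)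
    have h3 := (isWeaklyRegular_ofFn_iff.mp hreg) ⟨i, by omega⟩ y
    simp only [smul_eq_mul, Ideal.mul_top] at h3
    exact h3 hy

end Dim

section Extend

variable {k : Type u} [Field k] {R : Type u} [CommRing R] [Algebra k R]
  {σ : Type u} [SetLike σ R] [AddSubgroupClass σ R] {𝒜 : ℤ → σ} [GradedRing 𝒜] {m : Ideal R}

theorem nontrivial_of_dim {n : ℕ} (hn : ringKrullDim R = n) : Nontrivial R := by
  rw [← not_subsingleton_iff_nontrivial]
  intro hs
  rw [ringKrullDim_eq_bot_of_subsingleton] at hn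
  exact WithBot.bot_ne_coe hn

theorem range_append {t l : ℕ} (f : Fin t → R) (g : Fin l → R) :
    Ideal.span (Set.range (Fin.append f g)) = Ideal.span (Set.range f) ⊔ Ideal.span (Set.range g) := by
  rw [← Ideal.span_union]
  congr 1
  ext x
  constructor
  · rintro ⟨i, rfl⟩
    refine Fin.addCases (fun i => ?_) (fun i => ?_) i
    · rw [Fin.append_left]; exact Or.inl ⟨i, rfl⟩
    · rw [Fin.append_right]; exact Or.inr ⟨i, rfl⟩
  · rintro (⟨i, rfl⟩ | ⟨i, rfl⟩)
    · exact ⟨Fin.castAdd l i, Fin.append_left f g i⟩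
    · exact ⟨Fin.natAdd t i, Fin.append_right f g i⟩

theorem append_mem {t l : ℕ} {f : Fin t → R} {deg : Fin t → ℤ} (hf : ∀ i, f i ∈ 𝒜 (deg i))
    {g : Fin l → R} {D : ℤ} (hg : ∀ i, g i ∈ 𝒜 D) (i : Fin (t + l)) :
    Fin.append f g i ∈ 𝒜 (Fin.append deg (fun _ => D) i) := by
  refine Fin.addCases (fun i => ?_) (fun i => ?_) i
  · rw [Fin.append_left, Fin.append_left]; exact hf i
  · rw [Fin.append_right, Fin.append_right]; exact hg i

theorem append_pos {t l : ℕ} {deg : Fin t → ℤ} (hf : ∀ i, 0 < deg i) {D : ℤ} (hD : 0 < D)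
    (i : Fin (t + l)) : 0 < Fin.append deg (fun _ : Fin l => D) i := by
  refine Fin.addCases (fun i => ?_) (fun i => ?_) i
  · rw [Fin.append_left]; exact hf i
  · rw [Fin.append_right]; exact hD

theorem sum_append {t l : ℕ} (deg : Fin t → ℤ) (D : ℤ) :
    ∑ i, Fin.append deg (fun _ : Fin l => D) i = ∑ i, deg i + l * D := by
  rw [Fin.sum_univ_add]
  simp

/-- A homogeneous regular sequence in a graded Cohen-Macaulay ring extends to homogeneous parameters. -/
theorem exists_extend (h : PosField k 𝒜 m) [LocCoh.IsCohenMacaulayRing R] {t l : ℕ}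
    (hn : ringKrullDim R = (t + l : ℕ)) {f : Fin t → R} {deg : Fin t → ℤ} (hf : ∀ i, f i ∈ 𝒜 (deg i))
    (hdeg : ∀ i, 0 < deg i) (hreg : IsWeaklyRegular R (List.ofFn f)) {q : ℕ} (hq : 0 < q) (b : ℤ) :
    ∃ D : ℤ, 0 < D ∧ b ≤ D ∧ (q : ℤ) ∣ D ∧ ∃ g : Fin l → R, (∀ i, g i ∈ 𝒜 D) ∧
      (∃ N : ℕ, m ^ N ≤ Ideal.span (Set.range (Fin.append f g))) ∧
      IsWeaklyRegular R (List.ofFn (Fin.append f g)) := by
  have hnt := nontrivial_of_dim hn
  have h1 : ringKrullDim (R ⧸ Ideal.span (Set.range f)) ≤ l := by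
    have := dim_pre_le hreg hn.le t le_rfl (Nat.le_add_right t l)
    rwa [pre_top, Nat.add_sub_cancel_left] at this
  obtain ⟨D, hD, hbD, hqD, g, hg, hm⟩ := exists_params h l _ (isHomogeneous_span_range hf)
    (span_range_le h hf hdeg) h1 q hq b
  rw [← range_append] at hm
  obtain ⟨N, hN⟩ := exists_pow_le hm
  refine ⟨D, hD, hbD, hqD, g, hg, ⟨N, hN⟩, ?_⟩
  exact isWeaklyRegular_of_cm h hn (append_mem hf hg) (append_pos hdeg hD) hN

/-- Existence of homogeneous parameters in a graded Cohen-Macaulay ring. -/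
theorem exists_parameters (h : PosField k 𝒜 m) [LocCoh.IsCohenMacaulayRing R] {n : ℕ}
    (hn : ringKrullDim R = n) {q : ℕ} (hq : 0 < q) (b : ℤ) :
    ∃ D : ℤ, 0 < D ∧ b ≤ D ∧ (q : ℤ) ∣ D ∧ ∃ θ : Fin n → R, (∀ i, θ i ∈ 𝒜 D) ∧
      (∃ N : ℕ, m ^ N ≤ Ideal.span (Set.range θ)) ∧ IsWeaklyRegular R (List.ofFn θ) := by
  have hnt := nontrivial_of_dim hn
  obtain ⟨D, hD, hbD, hqD, θ, hθ, hm⟩ := exists_params h n ⊥ (Ideal.IsHomogeneous.bot 𝒜) bot_le (by
    rw [ringKrullDim_eq_of_ringEquiv (RingEquiv.quotientBot R), hn]) q hq b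
  rw [bot_sup_eq] at hm
  obtain ⟨N, hN⟩ := exists_pow_le hm
  exact ⟨D, hD, hbD, hqD, θ, hθ, ⟨N, hN⟩, isWeaklyRegular_of_cm h hn hθ (fun _ => hD) hN⟩

end Extend

end K762.Ext
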