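import Groth.Agent.GrLC.K762.Ext

/-!
# Passing from the hypotheses of the statements to `PosField`
-/

set_option autoImplicit false
set_option linter.unusedSectionVars false
set_option linter.style.haveILetI false
universe u

open DirectSum GrLC

namespace K762.Fld

open K762.Base K762.Nak K762.Reg K762.Param K762.Soc K762.Ht K762.Ext RingTheory.Sequence

variable {R : Type u} [CommRing R] {𝒜 : ℤ → AddSubgroup R} [GradedRing 𝒜] {m : Ideal R}

theorem posField (hpos : ∀ n : ℤ, n < 0 → 𝒜 n = ⊥) (h0 : IsField (GrLC.deg0 𝒜))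
    (hmsp : m = Ideal.span (⋃ n ∈ Set.Ioi (0 : ℤ), (𝒜 n : Set R))) :
    letI : Field (deg0 𝒜) := h0.toField
    PosField (deg0 𝒜) 𝒜 m := by
  letI : Field (deg0 𝒜) := h0.toField
  exact
    { pos := fun n hn x hx => by
        rw [hpos n hn, AddSubgroup.mem_bot] at hx
        exact hx
      alg := fun c => c.2
      surj := fun x hx => ⟨⟨x, hx⟩, rfl⟩
      span := hmsp }

section Quot

variable {R : Type u} [CommRing R] {M : Type u} [AddCommGroup M] [Module R M]

/-- membership in `(g) N` for `N = R / (f)`. -/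
theorem quot_mem_iff {t l : ℕ} {f : Fin t → R} {g : Fin l → R} {π : R →ₗ[R] M}
    (hπs : Function.Surjective π) (hπk : LinearMap.ker π = Ideal.span (Set.range f)) (r : R) :
    π r ∈ (Ideal.span (Set.range g) • ⊤ : Submodule R M) ↔ r ∈ Ideal.span (Set.range (Fin.append f g)) := by
  rw [range_append, mem_span_range_smul_top]
  constructor
  · rintro ⟨z, hz⟩
    choose z' hz' using fun i => hπs (z i)
    have h1 : r - ∑ i, g i * z' i ∈ Ideal.span (Set.range f) := by
      rw [← hπk, LinearMap.mem_ker, map_sub, hz, map_sum, sub_eq_zero]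
      exact Finset.sum_congr rfl fun i _ => by rw [← smul_eq_mul, map_smul, hz']
    have h2 : ∑ i, g i * z' i ∈ Ideal.span (Set.range g) :=
      Ideal.sum_mem _ fun i _ => Ideal.mul_mem_right _ _ (Ideal.subset_span ⟨i, rfl⟩)
    have h3 := Submodule.add_mem_sup h1 h2
    rwa [sub_add_cancel] at h3
  · intro hr
    obtain ⟨a, ha, b, hb, rfl⟩ := Submodule.mem_sup.mp hr
    have hb' : b ∈ (Ideal.span (Set.range g) • ⊤ : Submodule R R) := by
      rwa [smul_eq_mul, Ideal.mul_top]
    obtain ⟨z, rfl⟩ := (mem_span_range_smul_top (M := R) g).mp hb'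
    refine ⟨fun i => π (z i), ?_⟩
    have ha' : π a = 0 := by
      rw [← LinearMap.mem_ker, hπk]; exact ha
    rw [map_add, ha', zero_add, map_sum]
    exact Finset.sum_congr rfl fun i _ => by rw [map_smul]

theorem isWeaklyRegular_quot {t l : ℕ} {f : Fin t → R} {g : Fin l → R} {π : R →ₗ[R] M}
    (hπs : Function.Surjective π) (hπk : LinearMap.ker π = Ideal.span (Set.range f))
    (hreg : IsWeaklyRegular R (List.ofFn (Fin.append f g))) : IsWeaklyRegular M (List.ofFn g) := by
  rw [List.ofFn_fin_append, isWeaklyRegular_append_iff] at hreg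
  have h1 : (Ideal.ofList (List.ofFn f) • ⊤ : Submodule R R) = LinearMap.ker π := by
    rw [smul_eq_mul, Ideal.mul_top, ofList_ofFn, hπk]
  exact (((Submodule.quotEquivOfEq _ _ h1).trans
    (π.quotKerEquivOfSurjective hπs)).isWeaklyRegular_congr _).mp hreg.2

end Quot

end K762.Fld
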