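import Groth.Agent.GrLC.K762.Pair2
import Groth.Agent.LoccohB.GorBasic
import Mathlib.Algebra.MvPolynomial.Equiv

/-!
# Finite injective dimension from a perfect pairing modulo parameters
-/

set_option autoImplicit false
set_option linter.unusedSectionVars false
universe u

open DirectSum MvPolynomial CategoryTheory

namespace K762.Gor

open K762.Base K762.Nak K762.Bas K762.Pair RingTheory.Sequence
open Groth.Agent.LoccohB.GorInjDim Groth.Agent.LoccohB.GorBasic

theorem FID_mvPolynomial (k : Type u) [Field k] (n : ℕ) : FID (MvPolynomial (Fin n) k) := by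
  induction n with
  | zero => exact (FID.of_field k).of_ringEquiv (isEmptyRingEquiv k (Fin 0)).symm
  | succ n ih => exact ih.polynomial.of_ringEquiv (finSuccEquiv k n).symm.toRingEquiv

theorem exists_succ_injDim (k : Type u) [Field k] (n : ℕ) :
    ∃ N : ℕ, HasInjectiveDimensionLT (ModuleCat.of (MvPolynomial (Fin n) k) (MvPolynomial (Fin n) k)) (N + 1) :=
  (FID_mvPolynomial k n).exists_succ

theorem hasInjectiveDimensionLT_of_linearEquiv {R : Type u} [CommRing R] {M N : Type u} [AddCommGroup M]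
    [Module R M] [AddCommGroup N] [Module R N] (e : M ≃ₗ[R] N) {n : ℕ}
    (h : HasInjectiveDimensionLT (ModuleCat.of R M) n) : HasInjectiveDimensionLT (ModuleCat.of R N) n :=
  hasInjectiveDimensionLT_of_iso e.toModuleIso n

variable {k : Type u} [Field k] {R : Type u} [CommRing R] [Algebra k R]
  {σ : Type u} [SetLike σ R] [AddSubgroupClass σ R] {𝒜 : ℤ → σ} [GradedRing 𝒜]
  {C : Type u} [AddCommGroup C] [Module R C] [Module k C] [IsScalarTower k R C]
  {τ : Type u} [SetLike τ C] [AddSubgroupClass τ C] {𝒞 : ℤ → τ} [Decomposition 𝒞]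
  [SetLike.GradedSMul 𝒜 𝒞]
  {n : ℕ} {θ : Fin n → R} {w : Fin n → ℤ} {s : ℤ} {lam : C →ₗ[k] k} {m : Ideal R}

/-- A module with a perfect pairing modulo parameters has finite injective dimension. -/
theorem exists_hasInjectiveDimensionLT (h : PosField k 𝒜 m) (hθ : ∀ i, θ i ∈ 𝒜 (w i)) (hw : ∀ i, 0 < w i)
    (hR : IsParam k 𝒜 θ) (hC : IsParam k 𝒞 θ) (hp : CanPair k 𝒜 𝒞 (Ideal.span (Set.range θ)) s lam) :
    ∃ N : ℕ, HasInjectiveDimensionLT (ModuleCat.of R C) N := by
  letI := algA (k := k) θ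
  obtain ⟨e⟩ := exists_rho h hθ hw hR hC hp
  obtain ⟨h1, h2⟩ := hR.projective h hθ hw
  haveI := h1
  obtain ⟨N, hN⟩ := exists_succ_injDim k n
  refine ⟨N + 1, ?_⟩
  have := Groth.Agent.LoccohB.GorInjDim.Co.hasInjectiveDimensionLT (A := MvPolynomial (Fin n) k) (B := R) N
    (ModuleCat.of _ (MvPolynomial (Fin n) k)) hN
  exact hasInjectiveDimensionLT_of_linearEquiv e.symm this

/-- A graded ring with a perfect pairing modulo parameters is Gorenstein. -/
theorem isGorensteinRing (h : PosField k 𝒜 m) (hθ : ∀ i, θ i ∈ 𝒜 (w i)) (hw : ∀ i, 0 < w i)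
    [IsNoetherianRing R] (hR : IsParam k 𝒜 θ) {lam : R →ₗ[k] k}
    (hp : CanPair k 𝒜 𝒜 (Ideal.span (Set.range θ)) s lam) :
    LocCoh.IsGorensteinRing R :=
  isGorensteinRing_of_FID (exists_hasInjectiveDimensionLT h hθ hw hR hR hp)

end K762.Gor
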