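import Groth.Agent.GrLC.K762.Param
import Groth.Agent.Ega4B.DimFT
import Groth.Agent.Models2.CIFlat

/-!
# Finite type, height of the graded maximal ideal, parameters in Cohen-Macaulay graded rings
-/

set_option autoImplicit false
set_option linter.unusedSectionVars false
universe u

open DirectSum

namespace K762.Ht

open K762.Base K762.Nak K762.Param K762.Soc RingTheory.Sequence

variable {k : Type u} [Field k] {R : Type u} [CommRing R] [Algebra k R]
  {σ : Type u} [SetLike σ R] [AddSubgroupClass σ R] {𝒜 : ℤ → σ} [GradedRing 𝒜]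
  {m : Ideal R} {J : Ideal R} {n : ℕ} {θ : Fin n → R} {w : Fin n → ℤ}

theorem exists_pow_le [IsNoetherianRing R] {I J : Ideal R} (h : I ≤ J.radical) : ∃ N : ℕ, I ^ N ≤ J := by
  obtain ⟨N, hN⟩ := Ideal.exists_radical_pow_le_of_fg J (IsNoetherian.noetherian _)
  exact ⟨N, (Ideal.pow_right_mono h N).trans hN⟩

/-- `R` is a finitely generated `k`-algebra. -/
theorem finiteType (h : PosField k 𝒜 m) [IsNoetherianRing R] (hθ : ∀ i, θ i ∈ 𝒜 (w i))
    (hw : ∀ i, 0 < w i) {N : ℕ} (hN : m ^ N ≤ Ideal.span (Set.range θ)) : Algebra.FiniteType k R := by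
  classical
  have hfq : Module.Finite k (R ⧸ (Ideal.span (Set.range θ) • ⊤ : Submodule R R)) :=
    finite_quotient (M := R) h.exists_sub_mem N _ (by
      rw [smul_eq_mul, smul_eq_mul, Ideal.mul_top, Ideal.mul_top]; exact hN)
  obtain ⟨T, hT⟩ := hfq.fg_top
  choose! r hr using fun q : R ⧸ (Ideal.span (Set.range θ) • ⊤ : Submodule R R) =>
    Submodule.mkQ_surjective _ q
  choose u hu using fun x : R => exists_sum_pr (ℳ := 𝒜) x
  let T' : Finset R := T.biUnion fun q => (u (r q)).image fun i => pr 𝒜 i (r q)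
  let B : Subalgebra k R := Algebra.adjoin k (Set.range θ ∪ T')
  have hB : ∀ x, (∀ i, pr 𝒜 i x ∈ B) := by
    intro x
    have := mem_of_gen (𝒜 := 𝒜) (ℳ := 𝒜) θ w hθ hw ⟨0, fun i hi x hx => h.pos i hi x hx⟩
      { carrier := {x | ∀ i, pr 𝒜 i x ∈ B}
        zero_mem' := fun i => by rw [pr_zero]; exact B.zero_mem
        add_mem' := fun hx hy i => by rw [pr_add]; exact B.add_mem (hx i) (hy i)
        neg_mem' := fun hx i => by rw [pr_neg]; exact B.neg_mem (hx i) } ?_ ?_ ?_ x
    · exact this
    · intro i x hx j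
      rw [pr_smul (𝒜 := 𝒜) (hθ i), smul_eq_mul]
      exact B.mul_mem (Algebra.subset_adjoin (Or.inl ⟨i, rfl⟩)) (hx _)
    · intro i x hx j
      by_cases hij : i = j
      · subst hij
        rw [pr_of_mem (pr_mem i x)]
        exact hx i
      · rw [pr_of_mem_ne (pr_mem i x) hij]
        exact B.zero_mem
    · intro x
      let P : Submodule R R := Ideal.span (Set.range θ) • ⊤
      have h1 : P.mkQ x ∈ Submodule.span k (T : Set (R ⧸ P)) := by rw [hT]; trivial
      have key : ∀ q ∈ Submodule.span k (T : Set (R ⧸ P)), ∃ y, (∀ i, pr 𝒜 i y ∈ B) ∧ P.mkQ y = q := by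
        intro q hq
        induction hq using Submodule.span_induction with
        | mem q hq =>
          refine ⟨r q, ?_, hr q⟩
          intro i
          by_cases hi : i ∈ u (r q)
          · refine Algebra.subset_adjoin (Or.inr ?_)
            rw [Finset.mem_coe, Finset.mem_biUnion]
            exact ⟨q, hq, Finset.mem_image_of_mem _ hi⟩
          · have : pr 𝒜 i (r q) = 0 := by
              conv_lhs => rw [← hu (r q), pr_sum]
              refine Finset.sum_eq_zero fun j hj => pr_of_mem_ne (pr_mem j _) ?_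
              rintro rfl
              exact hi hj
            rw [this]
            exact B.zero_mem
        | zero => exact ⟨0, fun i => by rw [pr_zero]; exact B.zero_mem, map_zero _⟩
        | add p q _ _ hp hq =>
          obtain ⟨y, hy, rfl⟩ := hp
          obtain ⟨z, hz, rfl⟩ := hq
          exact ⟨y + z, fun i => by rw [pr_add]; exact B.add_mem (hy i) (hz i), map_add _ _ _⟩
        | smul c q _ hq =>
          obtain ⟨y, hy, rfl⟩ := hq
          refine ⟨c • y, fun i => ?_, ?_⟩
          · rw [Algebra.smul_def, ← smul_eq_mul, pr_smul (𝒜 := 𝒜) (h.alg c), smul_eq_mul]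
            exact B.mul_mem (B.algebraMap_mem c) (hy _)
          · rw [← algebraMap_smul R c y, map_smul, algebraMap_smul]
      obtain ⟨y, hy, hyx⟩ := key _ h1
      refine ⟨y, hy, ?_⟩
      change x - y ∈ P
      rw [← Submodule.Quotient.mk_eq_zero, Submodule.Quotient.mk_sub, sub_eq_zero]
      exact hyx.symm
  have htop : B = ⊤ := by
    rw [eq_top_iff]
    intro x _
    obtain ⟨s, hs⟩ := exists_sum_pr (ℳ := 𝒜) x
    rw [← hs]
    exact B.sum_mem fun i _ => hB x i
  refine ⟨⟨Finset.univ.image θ ∪ T', ?_⟩⟩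
  rw [← htop]
  simp [B]

theorem height_eq (h : PosField k 𝒜 m) [IsNoetherianRing R] (hn : ringKrullDim R = n) : m.height = n := by
  have hnt : Nontrivial R := by
    rw [← not_subsingleton_iff_nontrivial]
    intro hs
    rw [ringKrullDim_eq_bot_of_subsingleton] at hn
    exact WithBot.bot_ne_coe hn
  have hmax := h.isMaximal
  obtain ⟨D, hD, -, -, θ, hθ, hm⟩ := exists_params h n ⊥ (Ideal.IsHomogeneous.bot 𝒜) bot_le (by
    rw [ringKrullDim_eq_of_ringEquiv (RingEquiv.quotientBot R), hn]) 1 one_pos 0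
  rw [bot_sup_eq] at hm
  obtain ⟨N, hN⟩ := exists_pow_le hm
  have hft : Algebra.FiniteType k R := finiteType h hθ (fun _ => hD) hN
  apply le_antisymm
  · have := Ideal.height_le_ringKrullDim_of_ne_top (h.ne_top)
    rw [hn] at this
    exact_mod_cast this
  obtain ⟨l, hl⟩ := (Order.le_krullDim_iff (α := PrimeSpectrum R) (n := n)).mp (le_of_eq hn.symm)
  obtain ⟨P, hP, hPle⟩ := Ideal.exists_minimalPrimes_le (I := (⊥ : Ideal R)) (J := l.head.asIdeal) bot_le
  have hPp : P.IsPrime := hP.1.1
  have hPh := isHomogeneous_of_mem_minimalPrimes (Ideal.IsHomogeneous.bot 𝒜) hP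
  have hPm := h.le_of_isHomogeneous hPh hPp.ne_top
  have h1 : (n : WithBot ℕ∞) ≤ ringKrullDim (R ⧸ P) := by
    rw [ringKrullDim_quotient, Order.le_krullDim_iff]
    refine ⟨LTSeries.mk l.length (fun i => ⟨l i, ?_⟩) ?_, hl⟩
    · exact hPle.trans (l.strictMono.monotone (Fin.zero_le i))
    · intro i j hij
      exact l.strictMono hij
  have hmax' : (m.map (Ideal.Quotient.mk P)).IsMaximal := by
    refine (Ideal.map_eq_top_or_isMaximal_of_surjective _ Ideal.Quotient.mk_surjective hmax).resolve_left ?_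
    intro htop
    have h2 := congrArg (Ideal.comap (Ideal.Quotient.mk P)) htop
    rw [Ideal.comap_map_of_surjective _ Ideal.Quotient.mk_surjective, ← RingHom.ker_eq_comap_bot,
      Ideal.mk_ker, sup_eq_left.mpr hPm, Ideal.comap_top] at h2
    exact h.ne_top h2
  have h2 := Groth.Agent.Ega4B.DimFT.height_maximal k (R ⧸ P) (m.map (Ideal.Quotient.mk P))
  rw [← h2] at h1
  have h3 : (m.map (Ideal.Quotient.mk P)).height ≤ m.height := by
    have hp := hmax'.isPrime
    have h4 := Order.height_le_height_apply_of_strictMono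
      (PrimeSpectrum.comap (Ideal.Quotient.mk P)) (fun a b hab => by
        refine lt_of_le_of_ne (Ideal.comap_mono hab.le) fun heq => hab.ne ?_
        exact PrimeSpectrum.comap_injective_of_surjective _ Ideal.Quotient.mk_surjective heq)
      ⟨m.map (Ideal.Quotient.mk P), hp⟩
    have h5 : (PrimeSpectrum.comap (Ideal.Quotient.mk P) ⟨m.map (Ideal.Quotient.mk P), hp⟩).asIdeal = m := by
      change Ideal.comap _ (m.map (Ideal.Quotient.mk P)) = m
      rw [Ideal.comap_map_of_surjective _ Ideal.Quotient.mk_surjective, ← RingHom.ker_eq_comap_bot,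
        Ideal.mk_ker, sup_eq_left.mpr hPm]
    rw [← PrimeSpectrum.height_eq_orderHeight, ← PrimeSpectrum.height_eq_orderHeight, h5] at h4
    exact h4
  exact (by exact_mod_cast h1 : (n : ℕ∞) ≤ _).trans h3

end K762.Ht
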