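import Groth.Agent.GrLC.K762.Nak
import Mathlib.RingTheory.Regular.RegularSequence
import Mathlib.LinearAlgebra.LinearIndependent.Basic
import Mathlib.LinearAlgebra.Finsupp.LinearCombination
import Mathlib.Algebra.MvPolynomial.Eval
import Mathlib.Algebra.MvPolynomial.Basic

/-!
# Regular sequences and linear independence

If `θ_1, …, θ_n` is a weakly regular sequence on `M` (an `R`-module, `R` a `k`-algebra) and `v_j` are
linearly independent over `k` modulo `θ M`, then they are linearly independent over `k[X_1, …, X_n]`
acting through `X_i ↦ θ_i`.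
-/

set_option autoImplicit false
set_option linter.unusedSectionVars false
universe u v

namespace K762.Lin

open RingTheory.Sequence K762.Nak
open scoped Pointwise

variable {k : Type u} [Field k] {R : Type v} [CommRing R] [Algebra k R]

/-- One variable step. -/
theorem linearIndependent_smul {M : Type v} [AddCommGroup M] [Module R M] [Module k M]
    [IsScalarTower k R M] (r : R) (hr : IsSMulRegular M r) {Λ : Type*} (w : Λ → M)
    (hw : ∀ c : Λ →₀ k, Finsupp.linearCombination k w c ∈ (r • ⊤ : Submodule R M) → c = 0) :
    LinearIndependent k (fun p : ℕ × Λ => r ^ p.1 • w p.2) := by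
  classical
  have key : ∀ (N : ℕ) (c : ℕ → Λ →₀ k),
      ∑ a ∈ Finset.range N, r ^ a • Finsupp.linearCombination k w (c a) = 0 → ∀ a < N, c a = 0 := by
    intro N
    induction N with
    | zero => intro c _ a ha; omega
    | succ N ih =>
      intro c hc
      rw [Finset.sum_range_succ'] at hc
      simp only [pow_zero, one_smul] at hc
      have h1 : ∑ a ∈ Finset.range N, r ^ (a + 1) • Finsupp.linearCombination k w (c (a + 1)) =
          r • ∑ a ∈ Finset.range N, r ^ a • Finsupp.linearCombination k w (c (a + 1)) := by
        rw [Finset.smul_sum]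
        exact Finset.sum_congr rfl fun a _ => by rw [pow_succ', mul_smul]
      rw [h1] at hc
      have h0 : c 0 = 0 := by
        apply hw
        have h2 : Finsupp.linearCombination k w (c 0) =
            r • (-∑ a ∈ Finset.range N, r ^ a • Finsupp.linearCombination k w (c (a + 1))) := by
          rw [smul_neg]
          exact eq_neg_of_add_eq_zero_right hc
        rw [h2]
        exact Submodule.smul_mem_pointwise_smul _ _ _ Submodule.mem_top
      rw [h0, map_zero, add_zero] at hc
      have h3 := hr (show r • _ = r • (0 : M) by rw [hc, smul_zero])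
      have h4 := ih (fun a => c (a + 1)) h3
      intro a ha
      rcases a with _ | a
      · exact h0
      · exact h4 a (by omega)
  rw [linearIndependent_iff]
  intro c hc
  obtain ⟨N, hN⟩ : ∃ N : ℕ, ∀ p ∈ c.support, p.1 < N := by
    refine ⟨c.support.sup (fun p => p.1) + 1, fun p hp => ?_⟩
    have := Finset.le_sup (f := fun p : ℕ × Λ => p.1) hp
    omega
  have h1 : ∑ a ∈ Finset.range N, r ^ a • Finsupp.linearCombination k w (c.curry a) = 0 := by
    rw [← hc, Finsupp.linearCombination_apply, Finsupp.sum]
    have h2 : ∀ p ∈ c.support, c p • (r ^ p.1 • w p.2) =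
        ∑ a ∈ Finset.range N, if p.1 = a then c p • (r ^ p.1 • w p.2) else 0 := by
      intro p hp
      rw [Finset.sum_ite_eq, if_pos (Finset.mem_range.mpr (hN p hp))]
    rw [Finset.sum_congr rfl h2, Finset.sum_comm]
    refine Finset.sum_congr rfl fun a _ => ?_
    rw [Finsupp.linearCombination_apply, Finsupp.sum, Finset.smul_sum, ← Finset.sum_filter]
    symm
    refine Finset.sum_bij_ne_zero (fun p _ _ => p.2) ?_ ?_ ?_ ?_
    · intro p hp _
      rw [Finset.mem_filter] at hp
      rw [Finsupp.mem_support_iff, Finsupp.curry_apply, ← hp.2]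
      exact Finsupp.mem_support_iff.mp hp.1
    · intro p hp _ q hq _ h
      rw [Finset.mem_filter] at hp hq
      exact Prod.ext (hp.2.trans hq.2.symm) h
    · intro l hl hne
      rw [Finsupp.mem_support_iff, Finsupp.curry_apply] at hl
      refine ⟨(a, l), Finset.mem_filter.mpr ⟨Finsupp.mem_support_iff.mpr hl, rfl⟩, ?_, rfl⟩
      intro h
      apply hne
      rw [Finsupp.curry_apply, smul_comm]
      exact h
    · intro p hp _
      rw [Finset.mem_filter] at hp
      rw [Finsupp.curry_apply, ← hp.2, smul_comm]
  have h2 := key N _ h1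
  ext ⟨a, l⟩
  by_cases ha : a < N
  · have := DFunLike.congr_fun (h2 a ha) l
    rwa [Finsupp.curry_apply] at this
  · by_contra h
    exact ha (hN (a, l) (Finsupp.mem_support_iff.mpr h))

theorem linearIndependent_prod_pow (n : ℕ) : ∀ (θ : Fin n → R) (M : Type v) [AddCommGroup M]
    [Module R M] [Module k M] [IsScalarTower k R M] (_ : IsWeaklyRegular M (List.ofFn θ))
    {κ : Type*} (v : κ → M)
    (_ : ∀ c : κ →₀ k, Finsupp.linearCombination k v c ∈
      (Ideal.span (Set.range θ) • ⊤ : Submodule R M) → c = 0),
    LinearIndependent k (fun p : (Fin n → ℕ) × κ => (∏ i, θ i ^ p.1 i) • v p.2) := by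
  induction n with
  | zero =>
    intro θ M _ _ _ _ _ κ v hv
    have h1 : LinearIndependent k v := by
      rw [linearIndependent_iff]
      intro c hc
      exact hv c (by rw [hc]; exact Submodule.zero_mem _)
    have h2 := h1.comp (fun p : (Fin 0 → ℕ) × κ => p.2) (fun p q h => Prod.ext (Subsingleton.elim _ _) h)
    convert h2 using 1
    funext p
    simp
  | succ n ih =>
    intro θ M _ _ _ _ hreg κ v hv
    rw [List.ofFn_succ, isWeaklyRegular_cons_iff] at hreg
    obtain ⟨hr, hreg'⟩ := hreg
    have hmk : ∀ c : κ →₀ k, Finsupp.linearCombination k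
        (fun j => (Submodule.Quotient.mk (v j) : QuotSMulTop (θ 0) M)) c =
        Submodule.Quotient.mk (Finsupp.linearCombination k v c) := by
      intro c
      exact (Finsupp.apply_linearCombination k (((θ 0) • (⊤ : Submodule R M)).mkQ.restrictScalars k) v c).symm
    have h1 := ih (fun i => θ i.succ) (QuotSMulTop (θ 0) M) hreg'
      (fun j => (Submodule.Quotient.mk (v j) : QuotSMulTop (θ 0) M)) (by
        intro c hc
        apply hv c
        rw [hmk, mem_span_range_smul_top] at hc
        obtain ⟨z, hz⟩ := hc
        choose y hy using fun i => Submodule.Quotient.mk_surjective _ (z i)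
        have h2 : (Submodule.Quotient.mk (Finsupp.linearCombination k v c) : QuotSMulTop (θ 0) M) =
            Submodule.Quotient.mk (∑ i, θ (Fin.succ i) • y i) := by
          rw [hz]
          change _ = ((θ 0) • (⊤ : Submodule R M)).mkQ _
          rw [map_sum]
          refine Finset.sum_congr rfl fun i _ => ?_
          rw [map_smul, ← hy i]
          rfl
        rw [Submodule.Quotient.eq] at h2
        obtain ⟨x, _, hx⟩ := (Submodule.mem_smul_pointwise_iff_exists _ _ _).mp h2
        rw [mem_span_range_smul_top]
        refine ⟨Fin.cons x y, ?_⟩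
        rw [Fin.sum_univ_succ]
        simp only [Fin.cons_zero, Fin.cons_succ]
        rw [hx]
        abel)
    have h3 := linearIndependent_smul (k := k) (θ 0) hr
      (fun p : (Fin n → ℕ) × κ => (∏ i, θ (Fin.succ i) ^ p.1 i) • v p.2) (by
        intro c hc
        rw [linearIndependent_iff] at h1
        apply h1 c
        have h4 : Finsupp.linearCombination k (fun p : (Fin n → ℕ) × κ =>
            (∏ i, θ (Fin.succ i) ^ p.1 i) • (Submodule.Quotient.mk (v p.2) : QuotSMulTop (θ 0) M)) c =
            Submodule.Quotient.mk (Finsupp.linearCombination k (fun p : (Fin n → ℕ) × κ =>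
            (∏ i, θ (Fin.succ i) ^ p.1 i) • v p.2) c) :=
          (Finsupp.apply_linearCombination k (((θ 0) • (⊤ : Submodule R M)).mkQ.restrictScalars k) _ c).symm
        rw [h4, Submodule.Quotient.mk_eq_zero]
        exact hc)
    have h5 := h3.comp (fun p : (Fin (n + 1) → ℕ) × κ => (p.1 0, (fun i => p.1 i.succ, p.2))) (by
      rintro ⟨a, j⟩ ⟨a', j'⟩ h
      simp only [Prod.mk.injEq] at h
      refine Prod.ext (funext fun i => ?_) h.2.2
      refine Fin.cases h.1 (fun i => congrFun h.2.1 i) i)
    convert h5 using 1
    funext p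
    simp only [Function.comp]
    rw [Fin.prod_univ_succ, mul_smul]

/-- The `v_j` are linearly independent over the polynomial ring. -/
theorem linearIndependent_mvPolynomial {n : ℕ} (θ : Fin n → R) (M : Type v) [AddCommGroup M]
    [Module R M] [Module k M] [IsScalarTower k R M] (hreg : IsWeaklyRegular M (List.ofFn θ))
    [Algebra (MvPolynomial (Fin n) k) R] (hA : ∀ P, algebraMap (MvPolynomial (Fin n) k) R P = MvPolynomial.aeval θ P)
    [Module (MvPolynomial (Fin n) k) M] [IsScalarTower (MvPolynomial (Fin n) k) R M]
    {κ : Type*} (v : κ → M)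
    (hv : ∀ c : κ →₀ k, Finsupp.linearCombination k v c ∈
      (Ideal.span (Set.range θ) • ⊤ : Submodule R M) → c = 0) :
    LinearIndependent (MvPolynomial (Fin n) k) v := by
  classical
  have h1 := linearIndependent_prod_pow (k := k) n θ M hreg v hv
  rw [linearIndependent_iff] at h1 ⊢
  intro c hc
  -- the finitely supported function on `(Fin n → ℕ) × κ` of all coefficients
  let e : (Fin n → ℕ) ≃ (Fin n →₀ ℕ) := Finsupp.equivFunOnFinite.symm
  let S : Finset ((Fin n → ℕ) × κ) :=
    c.support.biUnion fun j => (c j).support.image fun s => (e.symm s, j)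
  let d : ((Fin n → ℕ) × κ) →₀ k := Finsupp.onFinset S (fun p => (c p.2).coeff (e p.1)) (by
    rintro ⟨a, j⟩ h
    simp only [S, Finset.mem_biUnion, Finset.mem_image]
    refine ⟨j, ?_, e a, ?_, ?_⟩
    · rw [Finsupp.mem_support_iff]
      rintro h0
      exact h (by simp only [h0, MvPolynomial.coeff_zero])
    · exact MvPolynomial.mem_support_iff.mpr h
    · simp)
  have hd : Finsupp.linearCombination k
      (fun p : (Fin n → ℕ) × κ => (∏ i, θ i ^ p.1 i) • v p.2) d = 0 := by
    rw [← hc, Finsupp.linearCombination_apply, Finsupp.linearCombination_apply, Finsupp.sum, Finsupp.sum]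
    have h2 : ∀ j ∈ c.support, c j • v j = ∑ s ∈ (c j).support,
        (c j).coeff s • ((∏ i, θ i ^ s i) • v j) := by
      intro j _
      rw [← IsScalarTower.algebraMap_smul R (c j) (v j), hA, MvPolynomial.aeval_def,
        MvPolynomial.eval₂_eq', Finset.sum_smul]
      refine Finset.sum_congr rfl fun s _ => ?_
      rw [mul_smul, algebraMap_smul]
    rw [Finset.sum_congr rfl h2, Finset.sum_sigma']
    refine Finset.sum_bij_ne_zero (fun p _ _ => ⟨p.2, e p.1⟩) ?_ ?_ ?_ ?_
    · rintro ⟨a, j⟩ hp _
      rw [Finsupp.mem_support_iff] at hp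
      have hp' : (c j).coeff (e a) ≠ 0 := hp
      rw [Finset.mem_sigma]
      refine ⟨?_, MvPolynomial.mem_support_iff.mpr hp'⟩
      rw [Finsupp.mem_support_iff]
      intro h0
      exact hp' (by rw [h0, MvPolynomial.coeff_zero])
    · rintro ⟨a, j⟩ _ _ ⟨a', j'⟩ _ _ h
      simp only [Sigma.mk.injEq, heq_eq_eq] at h
      exact Prod.ext (e.injective h.2) h.1
    · rintro ⟨j, s⟩ hs hne
      rw [Finset.mem_sigma] at hs
      have h0 : d (e.symm s, j) = (c j).coeff s := by
        change (c j).coeff (e (e.symm s)) = _
        rw [e.apply_symm_apply]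
      refine ⟨(e.symm s, j), ?_, ?_, ?_⟩
      · rw [Finsupp.mem_support_iff, h0]
        exact MvPolynomial.mem_support_iff.mp hs.2
      · rw [h0]
        exact hne
      · simp
    · rintro ⟨a, j⟩ _ _
      rfl
  have hd0 := h1 d hd
  ext j s
  have := DFunLike.congr_fun hd0 (e.symm s, j)
  change (c j).coeff (e (e.symm s)) = _ at this
  rw [e.apply_symm_apply] at this
  exact this

end K762.Lin
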