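import Groth.Agent.GrLC.K762.Bas
import Groth.Agent.LoccohB.GorInjDim
import Groth.Prelude.Def_GrLC
import Mathlib.LinearAlgebra.Matrix.Nondegenerate
import Mathlib.LinearAlgebra.Matrix.NonsingularInverse
import Mathlib.LinearAlgebra.Matrix.ToLinearEquiv

/-!
# Perfect pairings modulo a homogeneous regular sequence

`CanPair k 𝒜 𝒞 J s lam` : the functional `lam` on the graded module `C` vanishes outside degree `s` and on
`J C`, and induces a perfect pairing `R / J × C / J C → k`.

For `J = (θ)` generated by a homogeneous regular sequence of positive degrees, this implies that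
`C ≅ Hom_A(R, A)` where `A = k[X_1, …, X_n]` acts through `θ` (`bijective_rho`), and two such modules are
isomorphic by a homogeneous map of degree the difference of the two integers `s` (`exists_equiv`).
-/

set_option autoImplicit false
set_option linter.unusedSectionVars false
universe u

open DirectSum MvPolynomial

namespace K762.Pair

open K762.Base K762.Nak K762.Bas RingTheory.Sequence
open Groth.Agent.LoccohB.GorInjDim

section Def

variable (k : Type u) [Field k] {R : Type u} [CommRing R] [Algebra k R]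
  {σ : Type u} [SetLike σ R] (𝒜 : ℤ → σ)
  {C : Type u} [AddCommGroup C] [Module R C] [Module k C]
  {τ : Type u} [SetLike τ C] (𝒞 : ℤ → τ)

/-- `lam` is a functional on `C` of degree `-s`, killing `J C`, and inducing a perfect pairing between
`R / J` and `C / J C`. -/
structure CanPair (J : Ideal R) (s : ℤ) (lam : C →ₗ[k] k) : Prop where
  deg : ∀ i, i ≠ s → ∀ c ∈ 𝒞 i, lam c = 0
  ideal : ∀ x ∈ J, ∀ c : C, lam (x • c) = 0
  left : ∀ i, ∀ x ∈ 𝒜 i, x ∉ J → ∃ c ∈ 𝒞 (s - i), lam (x • c) ≠ 0
  right : ∀ i, ∀ c ∈ 𝒞 i, c ∉ (J • ⊤ : Submodule R C) → ∃ x ∈ 𝒜 (s - i), lam (x • c) ≠ 0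

end Def

variable {k : Type u} [Field k] {R : Type u} [CommRing R] [Algebra k R]
  {σ : Type u} [SetLike σ R] [AddSubgroupClass σ R] {𝒜 : ℤ → σ} [GradedRing 𝒜]
  {C : Type u} [AddCommGroup C] [Module R C] [Module k C] [IsScalarTower k R C]
  {τ : Type u} [SetLike τ C] [AddSubgroupClass τ C] {𝒞 : ℤ → τ} [Decomposition 𝒞]
  [SetLike.GradedSMul 𝒜 𝒞]

section Nondeg

variable {J : Ideal R} {s : ℤ} {lam : C →ₗ[k] k}

theorem CanPair.lam_smul_eq (h : CanPair k 𝒜 𝒞 J s lam) (x : R) {i : ℤ} {c : C} (hc : c ∈ 𝒞 (s - i)) :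
    lam (x • c) = lam (pr 𝒜 i x • c) := by
  obtain ⟨u, hu⟩ := exists_sum_pr (ℳ := 𝒜) x
  have h1 : ∀ j, lam (pr 𝒜 j x • c) = if j = i then lam (pr 𝒜 i x • c) else 0 := by
    intro j
    split_ifs with hj
    · rw [hj]
    · exact h.deg (j + (s - i)) (by omega) _ (smul_mem (𝒜 := 𝒜) (pr_mem j x) hc rfl)
  conv_lhs => rw [← hu, Finset.sum_smul, map_sum]
  rw [Finset.sum_congr rfl fun j _ => h1 j, Finset.sum_ite_eq']
  split_ifs with hi
  · rfl
  · have : pr 𝒜 i x = 0 := by
      rw [← hu, pr_sum]
      refine Finset.sum_eq_zero fun j hj => pr_of_mem_ne (pr_mem j x) ?_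
      rintro rfl
      exact hi hj
    rw [this, zero_smul, map_zero]

theorem CanPair.lam_smul_eq' (h : CanPair k 𝒜 𝒞 J s lam) {x : R} {i : ℤ} (hx : x ∈ 𝒜 (s - i)) (c : C) :
    lam (x • c) = lam (x • pr 𝒞 i c) := by
  obtain ⟨u, hu⟩ := exists_sum_pr (ℳ := 𝒞) c
  have h1 : ∀ j, lam (x • pr 𝒞 j c) = if j = i then lam (x • pr 𝒞 i c) else 0 := by
    intro j
    split_ifs with hj
    · rw [hj]
    · exact h.deg (s - i + j) (by omega) _ (smul_mem (𝒜 := 𝒜) hx (pr_mem j c) rfl)
  conv_lhs => rw [← hu, Finset.smul_sum, map_sum]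
  rw [Finset.sum_congr rfl fun j _ => h1 j, Finset.sum_ite_eq']
  split_ifs with hi
  · rfl
  · have : pr 𝒞 i c = 0 := by
      rw [← hu, pr_sum]
      refine Finset.sum_eq_zero fun j hj => pr_of_mem_ne (pr_mem j c) ?_
      rintro rfl
      exact hi hj
    rw [this, smul_zero, map_zero]

theorem CanPair.mem_of_forall (h : CanPair k 𝒜 𝒞 J s lam) {x : R} (hx : ∀ c, lam (x • c) = 0) : x ∈ J := by
  obtain ⟨u, hu⟩ := exists_sum_pr (ℳ := 𝒜) x
  rw [← hu]
  refine Ideal.sum_mem _ fun i _ => ?_
  by_contra hi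
  obtain ⟨c, hc, hne⟩ := h.left i _ (pr_mem i x) hi
  exact hne (by rw [← h.lam_smul_eq x hc]; exact hx c)

theorem CanPair.mem_of_forall' (h : CanPair k 𝒜 𝒞 J s lam) {c : C} (hc : ∀ x : R, lam (x • c) = 0) :
    c ∈ (J • ⊤ : Submodule R C) := by
  obtain ⟨u, hu⟩ := exists_sum_pr (ℳ := 𝒞) c
  rw [← hu]
  refine Submodule.sum_mem _ fun i _ => ?_
  by_contra hi
  obtain ⟨x, hx, hne⟩ := h.right i _ (pr_mem i c) hi
  exact hne (by rw [← h.lam_smul_eq' hx c]; exact hc x)

end Nondeg

section Gram

variable {n : ℕ} {θ : Fin n → R} {w : Fin n → ℤ} {s : ℤ} {lam : C →ₗ[k] k}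
  [Algebra (MvPolynomial (Fin n) k) R] [Module (MvPolynomial (Fin n) k) C]
  [IsScalarTower (MvPolynomial (Fin n) k) R C]

/-- The `A`-linear functional on `C` lifting `lam`. -/
noncomputable def Lam (lam : C →ₗ[k] k) {N : ℕ} (c : Module.Basis (Fin N) (MvPolynomial (Fin n) k) C) :
    C →ₗ[MvPolynomial (Fin n) k] MvPolynomial (Fin n) k :=
  c.constr k fun j => MvPolynomial.C (lam (c j))

theorem Lam_apply (lam : C →ₗ[k] k) {N : ℕ} (c : Module.Basis (Fin N) (MvPolynomial (Fin n) k) C) (x : C) :
    Lam lam c x = ∑ j, c.repr x j * MvPolynomial.C (lam (c j)) := by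
  rw [Lam, Module.Basis.constr_apply_fintype]
  rfl

theorem constantCoeff_Lam (hA : ∀ P, algebraMap (MvPolynomial (Fin n) k) R P = aeval θ P)
    (h : CanPair k 𝒜 𝒞 (Ideal.span (Set.range θ)) s lam) {N : ℕ}
    (c : Module.Basis (Fin N) (MvPolynomial (Fin n) k) C) (x : C) :
    constantCoeff (Lam lam c x) = lam x := by
  have key : ∀ (P : MvPolynomial (Fin n) k) (y : C), lam (P • y) = constantCoeff P * lam y := by
    intro P y
    induction P using MvPolynomial.induction_on with
    | C a =>
      rw [smul_eq hA, aeval_C, algebraMap_smul, map_smul, constantCoeff_C, smul_eq_mul]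
    | add p q hp hq => rw [add_smul, map_add, hp, hq, map_add, add_mul]
    | mul_X p i hp =>
      rw [smul_eq hA, map_mul, aeval_X, mul_comm, mul_smul,
        h.ideal _ (Ideal.subset_span ⟨i, rfl⟩), map_mul, constantCoeff_X, mul_zero, zero_mul]
  conv_rhs => rw [← c.sum_repr x, map_sum]
  rw [Lam_apply, map_sum]
  refine Finset.sum_congr rfl fun j _ => ?_
  rw [key, map_mul, constantCoeff_C]

theorem isWeightedHomogeneous_Lam (hA : ∀ P, algebraMap (MvPolynomial (Fin n) k) R P = aeval θ P)
    (halg : ∀ c : k, algebraMap k R c ∈ 𝒜 0) (hθ : ∀ i, θ i ∈ 𝒜 (w i)) 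
    (h : CanPair k 𝒜 𝒞 (Ideal.span (Set.range θ)) s lam) {N : ℕ}
    (c : Module.Basis (Fin N) (MvPolynomial (Fin n) k) C) {e : Fin N → ℤ} (hce : ∀ j, c j ∈ 𝒞 (e j))
    {i : ℤ} {x : C} (hx : x ∈ 𝒞 i) :
    IsWeightedHomogeneous w (Lam lam c x) (i - s) := by
  rw [Lam_apply]
  refine IsWeightedHomogeneous.sum _ _ _ fun j _ => ?_
  by_cases hj : e j = s
  · have h1 := repr_isWeightedHomogeneous (ℳ := 𝒞) halg hθ hA c hce hx j
    rw [hj] at h1
    have h2 := h1.mul (isWeightedHomogeneous_C w (lam (c j)))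
    rwa [add_zero] at h2
  · rw [h.deg (e j) hj _ (hce j), C_0, mul_zero]
    exact isWeightedHomogeneous_zero _ _ _

theorem weightedHomogeneousComponent_Lam (hA : ∀ P, algebraMap (MvPolynomial (Fin n) k) R P = aeval θ P)
    (halg : ∀ c : k, algebraMap k R c ∈ 𝒜 0) (hθ : ∀ i, θ i ∈ 𝒜 (w i))
    (h : CanPair k 𝒜 𝒞 (Ideal.span (Set.range θ)) s lam) {N : ℕ}
    (c : Module.Basis (Fin N) (MvPolynomial (Fin n) k) C) {e : Fin N → ℤ} (hce : ∀ j, c j ∈ 𝒞 (e j))
    (i : ℤ) (x : C) :
    weightedHomogeneousComponent w (i - s) (Lam lam c x) = Lam lam c (pr 𝒞 i x) := by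
  classical
  obtain ⟨u, hu⟩ := exists_sum_pr (ℳ := 𝒞) x
  have h1 : ∀ j, weightedHomogeneousComponent w (i - s) (Lam lam c (pr 𝒞 j x)) =
      if j = i then Lam lam c (pr 𝒞 i x) else 0 := by
    intro j
    have h2 := isWeightedHomogeneous_Lam hA halg hθ h c hce (pr_mem j x)
    split_ifs with hj
    · rw [hj] at h2 ⊢
      exact h2.weightedHomogeneousComponent_same
    · exact h2.weightedHomogeneousComponent_ne _ (by omega)
  conv_lhs => rw [← hu, map_sum, map_sum]
  rw [Finset.sum_congr rfl fun j _ => h1 j, Finset.sum_ite_eq']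
  split_ifs with hi
  · rfl
  · have : pr 𝒞 i x = 0 := by
      rw [← hu, pr_sum]
      refine Finset.sum_eq_zero fun j hj => pr_of_mem_ne (pr_mem j x) ?_
      rintro rfl
      exact hi hj
    rw [this, map_zero]

/-- The map `C → Hom_A(R, A)` attached to the pairing. -/
noncomputable def rho (lam : C →ₗ[k] k) {N : ℕ} (c : Module.Basis (Fin N) (MvPolynomial (Fin n) k) C) :
    C →ₗ[R] Co (MvPolynomial (Fin n) k) R (MvPolynomial (Fin n) k) where
  toFun x := Co.ofLin ((Lam lam c) ∘ₗ (LinearMap.toSpanSingleton R C x).restrictScalars _)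
  map_add' x y := Co.ext' fun r => by
    change Lam lam c (r • (x + y)) = Lam lam c (r • x) + Lam lam c (r • y)
    rw [smul_add, map_add]
  map_smul' s x := Co.ext' fun r => by
    change Lam lam c (r • s • x) = Lam lam c ((r * s) • x)
    rw [mul_smul]

theorem rho_toLin (lam : C →ₗ[k] k) {N : ℕ} (c : Module.Basis (Fin N) (MvPolynomial (Fin n) k) C)
    (x : C) (r : R) : (rho (R := R) lam c x).toLin r = Lam lam c (r • x) := rfl

/-- A weighted homogeneous polynomial for positive weights with nonzero constant coefficient is a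
nonzero constant. -/
theorem isUnit_of_constantCoeff_ne_zero (hw : ∀ i, 0 < w i) {P : MvPolynomial (Fin n) k} {e : ℤ}
    (hP : IsWeightedHomogeneous w P e) (h0 : constantCoeff P ≠ 0) : IsUnit P := by
  have he : e = 0 := by
    have := hP (d := 0) h0
    rw [← this, map_zero]
  have hPC : P = MvPolynomial.C (constantCoeff P) := by
    ext t
    rw [coeff_C]
    split_ifs with ht
    · rw [← ht]; rfl
    · by_contra hne
      have h1 := hP hne
      rw [he, Finsupp.weight_apply, Finsupp.sum_fintype _ _ (by simp)] at h1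
      apply ht
      symm
      ext i
      have h2 : ∀ j ∈ Finset.univ, 0 ≤ t j • w j := fun j _ => by
        rw [nsmul_eq_mul]
        exact mul_nonneg (by positivity) (hw j).le
      have h3 := (Finset.sum_eq_zero_iff_of_nonneg h2).mp h1 i (Finset.mem_univ i)
      rw [nsmul_eq_mul] at h3
      rcases mul_eq_zero.mp h3 with h4 | h4
      · exact_mod_cast h4
      · exact absurd h4 (hw i).ne'
  rw [hPC]
  exact (isUnit_iff_ne_zero.mpr h0).map MvPolynomial.C

/-- The number of elements of homogeneous bases of `R` and `C` agree. -/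
theorem card_eq (h : CanPair k 𝒜 𝒞 (Ideal.span (Set.range θ)) s lam)
    {N N' : ℕ} (b : Fin N → R) (c : Fin N' → C)
    (hb : ∀ x : Fin N → k, ∑ j, x j • b j ∈ Ideal.span (Set.range θ) → x = 0)
    (hc : ∀ x : Fin N' → k, ∑ j, x j • c j ∈ (Ideal.span (Set.range θ) • ⊤ : Submodule R C) → x = 0)
    (hbs : ∀ x : R, ∃ y : Fin N → k, x - ∑ j, y j • b j ∈ Ideal.span (Set.range θ))
    (hcs : ∀ x : C, ∃ y : Fin N' → k, x - ∑ j, y j • c j ∈ (Ideal.span (Set.range θ) • ⊤ : Submodule R C)) :
    N = N' := by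
  have hkill : ∀ x ∈ (Ideal.span (Set.range θ) • ⊤ : Submodule R C), ∀ r : R, lam (r • x) = 0 := by
    intro x hx r
    have hx' : r • x ∈ (Ideal.span (Set.range θ) • ⊤ : Submodule R C) := Submodule.smul_mem _ _ hx
    refine Submodule.smul_induction_on hx' (fun a ha y _ => h.ideal a ha y) ?_
    intro a b ha hb
    rw [map_add, ha, hb, add_zero]
  apply le_antisymm
  · -- `k ^ N → (k ^ N')^*`
    let f : (Fin N → k) →ₗ[k] (Fin N' → k) :=
      { toFun := fun x j => lam ((∑ i, x i • b i) • c j)
        map_add' := fun x y => by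
          funext j
          simp only [Pi.add_apply, add_smul, Finset.sum_add_distrib, map_add]
        map_smul' := fun a x => by
          funext j
          simp only [Pi.smul_apply, RingHom.id_apply, smul_assoc, ← Finset.smul_sum, map_smul] }
    have hf : Function.Injective f := by
      rw [injective_iff_map_eq_zero]
      intro x hx
      apply hb
      apply h.mem_of_forall
      intro y
      obtain ⟨z, hz⟩ := hcs y
      have h1 : y = (y - ∑ j, z j • c j) + ∑ j, z j • c j := by abel
      rw [h1, smul_add, map_add, hkill _ hz, zero_add, Finset.smul_sum, map_sum]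
      refine Finset.sum_eq_zero fun j _ => ?_
      rw [smul_comm, map_smul]
      have := congrFun hx j
      change lam ((∑ i, x i • b i) • c j) = 0 at this
      rw [this, smul_zero]
    have := LinearMap.finrank_le_finrank_of_injective hf
    simpa using this
  · let f : (Fin N' → k) →ₗ[k] (Fin N → k) :=
      { toFun := fun x i => lam (b i • ∑ j, x j • c j)
        map_add' := fun x y => by
          funext i
          simp only [Pi.add_apply, add_smul, Finset.sum_add_distrib, smul_add, map_add]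
        map_smul' := fun a x => by
          funext i
          simp only [Pi.smul_apply, RingHom.id_apply, smul_assoc, ← Finset.smul_sum]
          rw [smul_comm, map_smul] }
    have hf : Function.Injective f := by
      rw [injective_iff_map_eq_zero]
      intro x hx
      apply hc
      apply h.mem_of_forall'
      intro y
      obtain ⟨z, hz⟩ := hbs y
      have h1 : y = (y - ∑ j, z j • b j) + ∑ j, z j • b j := by abel
      rw [h1, add_smul, map_add, h.ideal _ hz, zero_add, Finset.sum_smul, map_sum]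
      refine Finset.sum_eq_zero fun j _ => ?_
      rw [smul_assoc, map_smul]
      have := congrFun hx j
      change lam (b j • ∑ i, x i • c i) = 0 at this
      rw [this, smul_zero]
    have := LinearMap.finrank_le_finrank_of_injective hf
    simpa using this

end Gram

end K762.Pair
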