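import Groth.Agent.GrLC.K762.Pair

/-!
# The main theorems on perfect pairings modulo a homogeneous regular sequence

* `exists_bijective_rho` : `C ≅ Hom_A(R, A)` as `R`-modules;
* `exists_equiv` : uniqueness of `C` up to a homogeneous isomorphism.
-/

set_option autoImplicit false
set_option linter.unusedSectionVars false
set_option linter.style.haveILetI false
universe u

open DirectSum MvPolynomial

namespace K762.Pair

open K762.Base K762.Nak K762.Bas RingTheory.Sequence
open Groth.Agent.LoccohB.GorInjDim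

variable {k : Type u} [Field k] {R : Type u} [CommRing R] [Algebra k R]
  {σ : Type u} [SetLike σ R] [AddSubgroupClass σ R] {𝒜 : ℤ → σ} [GradedRing 𝒜]
  {C : Type u} [AddCommGroup C] [Module R C] [Module k C] [IsScalarTower k R C]
  {τ : Type u} [SetLike τ C] [AddSubgroupClass τ C] {𝒞 : ℤ → τ} [Decomposition 𝒞]
  [SetLike.GradedSMul 𝒜 𝒞]
  {n : ℕ} {θ : Fin n → R} {w : Fin n → ℤ} {s : ℤ} {lam : C →ₗ[k] k}

section Alg

variable [Algebra (MvPolynomial (Fin n) k) R] [Module (MvPolynomial (Fin n) k) C]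
  [IsScalarTower (MvPolynomial (Fin n) k) R C]

/-- The Gram matrix is invertible. -/
theorem isUnit_det (hA : ∀ P, algebraMap (MvPolynomial (Fin n) k) R P = aeval θ P)
    (halg : ∀ c : k, algebraMap k R c ∈ 𝒜 0) (hθ : ∀ i, θ i ∈ 𝒜 (w i)) (hw : ∀ i, 0 < w i)
    (h : CanPair k 𝒜 𝒞 (Ideal.span (Set.range θ)) s lam)
    {N : ℕ} (b : Fin N → R) {d : Fin N → ℤ} (hbd : ∀ j, b j ∈ 𝒜 (d j))
    (hb : ∀ x : Fin N → k, ∑ j, x j • b j ∈ Ideal.span (Set.range θ) → x = 0)
    (c : Module.Basis (Fin N) (MvPolynomial (Fin n) k) C) {e : Fin N → ℤ} (hce : ∀ j, c j ∈ 𝒞 (e j))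
    (hcs : ∀ x : C, ∃ y : Fin N → k, x - ∑ j, y j • c j ∈ (Ideal.span (Set.range θ) • ⊤ : Submodule R C)) :
    IsUnit (Matrix.of fun i j => Lam lam c (b i • c j)).det := by
  have hkill : ∀ x ∈ (Ideal.span (Set.range θ) • ⊤ : Submodule R C), ∀ r : R, lam (r • x) = 0 := by
    intro x hx r
    have hx' : r • x ∈ (Ideal.span (Set.range θ) • ⊤ : Submodule R C) := Submodule.smul_mem _ _ hx
    refine Submodule.smul_induction_on hx' (fun a ha y _ => h.ideal a ha y) ?_
    intro a b ha hb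
    rw [map_add, ha, hb, add_zero]
  refine isUnit_of_constantCoeff_ne_zero hw (e := ∑ i, (d i + e i - s)) ?_ ?_
  · rw [Matrix.det_apply]
    refine IsWeightedHomogeneous.sum _ _ _ fun π _ => ?_
    have h1 : IsWeightedHomogeneous w (∏ i, (Matrix.of fun i j => Lam lam c (b i • c j)) (π i) i)
        (∑ i, (d (π i) + e i - s)) := by
      refine IsWeightedHomogeneous.prod _ _ _ fun i _ => ?_
      exact isWeightedHomogeneous_Lam hA halg hθ h c hce
        (smul_mem (𝒜 := 𝒜) (hbd (π i)) (hce i) rfl)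
    have h2 : ∑ i, (d (π i) + e i - s) = ∑ i, (d i + e i - s) := by
      simp only [Finset.sum_sub_distrib, Finset.sum_add_distrib]
      rw [Equiv.sum_comp π d]
    rw [h2] at h1
    rcases Int.units_eq_one_or (Equiv.Perm.sign π) with hs | hs
    · rw [hs, one_smul]; exact h1
    · rw [hs, Units.neg_smul, one_smul]; exact h1.neg
  · rw [RingHom.map_det]
    intro h0
    rw [← Matrix.exists_vecMul_eq_zero_iff] at h0
    obtain ⟨x, hx0, hx⟩ := h0
    apply hx0
    apply hb
    apply h.mem_of_forall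
    intro y
    obtain ⟨z, hz⟩ := hcs y
    have h1 : y = (y - ∑ j, z j • c j) + ∑ j, z j • c j := by abel
    rw [h1, smul_add, map_add, hkill _ hz, zero_add, Finset.smul_sum, map_sum]
    refine Finset.sum_eq_zero fun j _ => ?_
    rw [smul_comm, map_smul]
    have h2 := congrFun hx j
    simp only [Matrix.vecMul, dotProduct, RingHom.mapMatrix_apply, Matrix.map_apply, Matrix.of_apply,
      Pi.zero_apply] at h2
    have h3 : lam ((∑ i, x i • b i) • c j) = 0 := by
      rw [Finset.sum_smul, map_sum, ← h2]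
      refine Finset.sum_congr rfl fun i _ => ?_
      rw [smul_assoc, map_smul, smul_eq_mul, constantCoeff_Lam hA h c]
    rw [h3, smul_zero]

/-- The map `C → Hom_A(R, A)` is bijective. -/
theorem bijective_rho (hA : ∀ P, algebraMap (MvPolynomial (Fin n) k) R P = aeval θ P)
    (halg : ∀ c : k, algebraMap k R c ∈ 𝒜 0) (hθ : ∀ i, θ i ∈ 𝒜 (w i)) (hw : ∀ i, 0 < w i)
    (h : CanPair k 𝒜 𝒞 (Ideal.span (Set.range θ)) s lam)
    {N : ℕ} (b : Module.Basis (Fin N) (MvPolynomial (Fin n) k) R) {d : Fin N → ℤ}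
    (hbd : ∀ j, b j ∈ 𝒜 (d j))
    (hb : ∀ x : Fin N → k, ∑ j, x j • b j ∈ Ideal.span (Set.range θ) → x = 0)
    (c : Module.Basis (Fin N) (MvPolynomial (Fin n) k) C) {e : Fin N → ℤ} (hce : ∀ j, c j ∈ 𝒞 (e j))
    (hcs : ∀ x : C, ∃ y : Fin N → k, x - ∑ j, y j • c j ∈ (Ideal.span (Set.range θ) • ⊤ : Submodule R C)) :
    Function.Bijective (rho (R := R) lam c) := by
  have hdet := isUnit_det hA halg hθ hw h b hbd hb c hce hcs
  set G : Matrix (Fin N) (Fin N) (MvPolynomial (Fin n) k) := Matrix.of fun i j => Lam lam c (b i • c j)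
    with hG
  have hval : ∀ (x : Fin N → MvPolynomial (Fin n) k) (i : Fin N),
      Lam lam c (b i • ∑ j, x j • c j) = (G.mulVec x) i := by
    intro x i
    rw [Finset.smul_sum, map_sum]
    simp only [Matrix.mulVec, dotProduct, hG, Matrix.of_apply]
    refine Finset.sum_congr rfl fun j _ => ?_
    rw [smul_eq hA (x j) (c j), smul_comm, ← smul_eq hA (x j) (b i • c j), map_smul, smul_eq_mul, mul_comm]
  constructor
  · rw [injective_iff_map_eq_zero]
    intro x hx
    have h1 : G.mulVec (fun j => c.repr x j) = 0 := by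
      funext i
      rw [← hval, c.sum_repr]
      have := congrArg (fun g : Co (MvPolynomial (Fin n) k) R (MvPolynomial (Fin n) k) => g.toLin (b i)) hx
      exact this
    have h2 : (fun j => c.repr x j) = 0 := by
      have h3 := congrArg (G⁻¹.mulVec) h1
      rwa [Matrix.mulVec_mulVec, Matrix.nonsing_inv_mul _ hdet, Matrix.one_mulVec, Matrix.mulVec_zero] at h3
    rw [← c.sum_repr x]
    refine Finset.sum_eq_zero fun j _ => ?_
    have := congrFun h2 j
    simp only [Pi.zero_apply] at this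
    rw [this, zero_smul]
  · intro g
    let y : Fin N → MvPolynomial (Fin n) k := G⁻¹.mulVec fun i => g.toLin (b i)
    refine ⟨∑ j, y j • c j, Co.ext' fun r => ?_⟩
    rw [rho_toLin]
    have h1 : ∀ i, Lam lam c (b i • ∑ j, y j • c j) = g.toLin (b i) := by
      intro i
      rw [hval, Matrix.mulVec_mulVec, Matrix.mul_nonsing_inv _ hdet, Matrix.one_mulVec]
    rw [← b.sum_repr r, map_sum, Finset.sum_smul, map_sum]
    refine Finset.sum_congr rfl fun i _ => ?_
    rw [smul_assoc, (Lam lam c).map_smul, h1, g.toLin.map_smul]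

end Alg

variable {m : Ideal R}

/-- `θ` is a homogeneous regular sequence of positive degrees on the graded module `C`, with
`C / θ C` finite over `k`, and `C` is bounded below. -/
structure IsParam (k : Type u) [Field k] {R : Type u} [CommRing R] [Algebra k R]
    {C : Type u} [AddCommGroup C] [Module R C] [Module k C] [IsScalarTower k R C]
    {τ : Type u} [SetLike τ C] (𝒞 : ℤ → τ) {n : ℕ} (θ : Fin n → R) : Prop where
  bdd : Nak.BddBelow 𝒞
  reg : IsWeaklyRegular C (List.ofFn θ)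
  fin : Module.Finite k (C ⧸ (Ideal.span (Set.range θ) • ⊤ : Submodule R C))

/-- The polynomial ring acts on `R` through `θ`. -/
@[reducible] noncomputable def algA (θ : Fin n → R) : Algebra (MvPolynomial (Fin n) k) R :=
  (aeval θ : MvPolynomial (Fin n) k →ₐ[k] R).toRingHom.toAlgebra

/-- The polynomial ring acts on every `R`-module through `θ`. -/
@[reducible] noncomputable def modA (θ : Fin n → R) (C : Type u) [AddCommGroup C] [Module R C] :
    Module (MvPolynomial (Fin n) k) C :=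
  Module.compHom C (aeval θ : MvPolynomial (Fin n) k →ₐ[k] R).toRingHom

theorem towerA (θ : Fin n → R) (C : Type u) [AddCommGroup C] [Module R C] :
    letI := algA (k := k) θ; letI := modA (k := k) θ C; IsScalarTower (MvPolynomial (Fin n) k) R C := by
  letI := algA (k := k) θ; letI := modA (k := k) θ C
  exact ⟨fun a r c => by
    change ((aeval θ a) * r) • c = (aeval θ a) • (r • c)
    rw [mul_smul]⟩

variable {C' : Type u} [AddCommGroup C'] [Module R C'] [Module k C'] [IsScalarTower k R C']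
  {τ' : Type u} [SetLike τ' C'] [AddSubgroupClass τ' C'] {𝒞' : ℤ → τ'} [Decomposition 𝒞']
  [SetLike.GradedSMul 𝒜 𝒞'] {s' : ℤ} {lam' : C' →ₗ[k] k}

theorem IsParam.exists_basisR (h : PosField k 𝒜 m) (hθ : ∀ i, θ i ∈ 𝒜 (w i)) (hw : ∀ i, 0 < w i)
    (hR : IsParam k 𝒜 θ) [Algebra (MvPolynomial (Fin n) k) R]
    (hA : ∀ P, algebraMap (MvPolynomial (Fin n) k) R P = aeval θ P) :
    ∃ (N : ℕ) (b : Module.Basis (Fin N) (MvPolynomial (Fin n) k) R) (d : Fin N → ℤ),
      (∀ j, b j ∈ 𝒜 (d j)) ∧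
      (∀ c : Fin N → k, ∑ j, c j • b j ∈ Ideal.span (Set.range θ) → c = 0) ∧
      (∀ x : R, ∃ c : Fin N → k, x - ∑ j, c j • b j ∈ Ideal.span (Set.range θ)) := by
  have := hR.fin
  obtain ⟨N, b, d, h1, h2, h3⟩ := exists_basis (ℳ := 𝒜) h hθ hw hR.bdd hR.reg hA
  rw [smul_eq_mul, Ideal.mul_top] at h2 h3
  exact ⟨N, b, d, h1, h2, h3⟩

/-- `R` is projective over the polynomial ring. -/
theorem IsParam.projective (h : PosField k 𝒜 m) (hθ : ∀ i, θ i ∈ 𝒜 (w i)) (hw : ∀ i, 0 < w i)
    (hR : IsParam k 𝒜 θ) :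
    letI := algA (k := k) θ; Module.Free (MvPolynomial (Fin n) k) R ∧ Module.Finite (MvPolynomial (Fin n) k) R := by
  letI := algA (k := k) θ
  obtain ⟨N, b, _⟩ := hR.exists_basisR h hθ hw (fun _ => rfl)
  exact ⟨Module.Free.of_basis b, Module.Finite.of_basis b⟩

/-- The main theorem: a module with a perfect pairing is `Hom_A(R, A)`. -/
theorem exists_rho (h : PosField k 𝒜 m) (hθ : ∀ i, θ i ∈ 𝒜 (w i)) (hw : ∀ i, 0 < w i)
    (hR : IsParam k 𝒜 θ) (hC : IsParam k 𝒞 θ) (hp : CanPair k 𝒜 𝒞 (Ideal.span (Set.range θ)) s lam) :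
    letI := algA (k := k) θ
    Nonempty (C ≃ₗ[R] Co (MvPolynomial (Fin n) k) R (MvPolynomial (Fin n) k)) := by
  letI := algA (k := k) θ
  letI := modA (k := k) θ C
  haveI := towerA (k := k) θ C
  obtain ⟨N, b, d, hbd, hb, hbs⟩ := hR.exists_basisR h hθ hw (fun _ => rfl)
  haveI := hC.fin
  obtain ⟨N', c, e, hce, hc, hcs⟩ := exists_basis (ℳ := 𝒞) h hθ hw hC.bdd hC.reg (fun _ => rfl)
  obtain rfl : N = N' := card_eq hp b c hb hc hbs hcs
  exact ⟨LinearEquiv.ofBijective (rho lam c)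
    (bijective_rho (fun _ => rfl) h.alg hθ hw hp b hbd hb c hce hcs)⟩

/-- Uniqueness: two modules with perfect pairings are isomorphic by a homogeneous map of degree
`s' - s`. -/
theorem exists_equiv (h : PosField k 𝒜 m) (hθ : ∀ i, θ i ∈ 𝒜 (w i)) (hw : ∀ i, 0 < w i)
    (hR : IsParam k 𝒜 θ) (hC : IsParam k 𝒞 θ) (hp : CanPair k 𝒜 𝒞 (Ideal.span (Set.range θ)) s lam)
    (hC' : IsParam k 𝒞' θ) (hp' : CanPair k 𝒜 𝒞' (Ideal.span (Set.range θ)) s' lam') :
    ∃ f : C ≃ₗ[R] C', GrLC.IsGrHomDeg 𝒞 𝒞' f.toLinearMap (s' - s) := by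
  letI := algA (k := k) θ
  letI := modA (k := k) θ C
  haveI := towerA (k := k) θ C
  letI := modA (k := k) θ C'
  haveI := towerA (k := k) θ C'
  obtain ⟨N, b, d, hbd, hb, hbs⟩ := hR.exists_basisR h hθ hw (fun _ => rfl)
  haveI := hC.fin
  haveI := hC'.fin
  obtain ⟨N', c, e, hce, hc, hcs⟩ := exists_basis (ℳ := 𝒞) h hθ hw hC.bdd hC.reg (fun _ => rfl)
  obtain rfl : N = N' := card_eq hp b c hb hc hbs hcs
  obtain ⟨N'', c', e', hce', hc', hcs'⟩ := exists_basis (ℳ := 𝒞') h hθ hw hC'.bdd hC'.reg (fun _ => rfl)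
  obtain rfl : N = N'' := card_eq hp' b c' hb hc' hbs hcs'
  let f₁ := LinearEquiv.ofBijective (rho (R := R) lam c)
    (bijective_rho (fun _ => rfl) h.alg hθ hw hp b hbd hb c hce hcs)
  have hbij' := bijective_rho (fun _ => rfl) h.alg hθ hw hp' b hbd hb c' hce' hcs'
  let f₂ := LinearEquiv.ofBijective (rho (R := R) lam' c') hbij'
  refine ⟨f₁.trans f₂.symm, ?_⟩
  intro i x hx
  set y := (f₁.trans f₂.symm) x with hy
  have h1 : rho (R := R) lam' c' y = rho (R := R) lam c x := by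
    change f₂ y = f₁ x
    rw [hy, LinearEquiv.trans_apply, LinearEquiv.apply_symm_apply]
  have h2 : rho (R := R) lam' c' (pr 𝒞' (i + (s' - s)) y) = rho (R := R) lam c x := by
    refine Co.ext' fun r => ?_
    -- reduce to homogeneous `r`
    suffices H : ∀ a, ∀ r ∈ 𝒜 a, Lam lam' c' (r • pr 𝒞' (i + (s' - s)) y) = Lam lam c (r • x) by
      obtain ⟨u, hu⟩ := exists_sum_pr (ℳ := 𝒜) r
      rw [rho_toLin, rho_toLin, ← hu, Finset.sum_smul, Finset.sum_smul, map_sum, map_sum]
      exact Finset.sum_congr rfl fun a _ => H a _ (pr_mem a r)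
    intro a r hr
    have h3 : Lam lam' c' (r • y) = Lam lam c (r • x) := by
      rw [← rho_toLin (R := R), ← rho_toLin (R := R), h1]
    have h4 : pr 𝒞' (a + (i + (s' - s))) (r • y) = r • pr 𝒞' (i + (s' - s)) y := by
      rw [pr_smul (𝒜 := 𝒜) hr, add_sub_cancel_left]
    rw [← h4, ← weightedHomogeneousComponent_Lam (fun _ => rfl) h.alg hθ hp' c' hce', h3]
    have h5 := isWeightedHomogeneous_Lam (fun _ => rfl) h.alg hθ hp c hce
      (smul_mem (𝒜 := 𝒜) (ℳ := 𝒞) hr hx rfl)
    have h6 : a + (i + (s' - s)) - s' = a + i - s := by ring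
    rw [h6]
    exact h5.weightedHomogeneousComponent_same
  have h7 : pr 𝒞' (i + (s' - s)) y = y := hbij'.1 (h2.trans h1.symm)
  rw [LinearEquiv.coe_coe, ← hy, ← h7]
  exact pr_mem _ _

end K762.Pair
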