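import Groth.Agent.GrLC.K762.Soc
import Mathlib.RingTheory.GradedAlgebra.Radical
import Mathlib.RingTheory.KrullDimension.NonZeroDivisors
import Mathlib.RingTheory.Ideal.MinimalPrime.Noetherian

/-!
# Homogeneous systems of parameters
-/

set_option autoImplicit false
set_option linter.unusedSectionVars false
universe u

open DirectSum

namespace K762.Param

open K762.Base K762.Nak RingTheory.Sequence

section Dim

variable {R : Type u} [CommRing R]

/-- Adding an element which lies in no non-maximal minimal prime over `J` lowers the dimension. -/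
theorem dim_step {J : Ideal R} {x : R} (hx : ∀ P ∈ J.minimalPrimes, x ∈ P → P.IsMaximal) (d : ℕ)
    (hd : ringKrullDim (R ⧸ J) ≤ (d + 1 : ℕ)) : ringKrullDim (R ⧸ (J ⊔ Ideal.span {x})) ≤ d := by
  rw [ringKrullDim_quotient, Order.krullDim, iSup_le_iff]
  intro l
  by_contra hlt
  push Not at hlt
  have hlt : d < l.length := by exact_mod_cast hlt
  -- the smallest prime of the chain
  have h0 : J ⊔ Ideal.span {x} ≤ (l.head : PrimeSpectrum R).asIdeal := l.head.2
  have hJ0 : J ≤ (l.head : PrimeSpectrum R).asIdeal := le_sup_left.trans h0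
  obtain ⟨P, hP, hPle⟩ := Ideal.exists_minimalPrimes_le hJ0
  have hPp : P.IsPrime := hP.1.1
  have hne : P ≠ (l.head : PrimeSpectrum R).asIdeal := by
    intro heq
    have hxP : x ∈ P := by
      rw [heq]
      exact h0 (Ideal.mem_sup_right (Ideal.mem_span_singleton_self x))
    have hmax := hx P hP hxP
    have h1 : l.head < l 1 := by
      have : (0 : Fin (l.length + 1)) < 1 := by
        rw [Fin.lt_def]
        have : ((1 : Fin (l.length + 1)) : ℕ) = 1 := Fin.val_one' _ |>.trans (Nat.mod_eq_of_lt (by omega))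
        rw [this]; exact Nat.one_pos
      exact l.strictMono this
    have h2 : (l.head : PrimeSpectrum R).asIdeal < (l 1 : PrimeSpectrum R).asIdeal := h1
    rw [← heq] at h2
    exact (l 1 : PrimeSpectrum R).2.ne_top (hmax.1.2 _ h2)
  have hlt0 : P < (l.head : PrimeSpectrum R).asIdeal := lt_of_le_of_ne hPle hne
  -- chain in the zero locus of `J`
  let f : PrimeSpectrum.zeroLocus ((J ⊔ Ideal.span {x} : Ideal R) : Set R) → PrimeSpectrum.zeroLocus (J : Set R) :=
    fun q => ⟨q.1, fun y hy => q.2 (Ideal.mem_sup_left hy)⟩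
  have hf : StrictMono f := fun a b hab => hab
  let l' : LTSeries (PrimeSpectrum.zeroLocus (J : Set R)) := (l.map f hf).cons ⟨⟨P, hPp⟩, hP.1.2⟩ (by
    rw [LTSeries.head_map]
    exact hlt0)
  rw [ringKrullDim_quotient] at hd
  have := (Order.LTSeries.length_le_krullDim l').trans hd
  have h3 : l'.length = l.length + 1 := by
    rw [RelSeries.cons_length]
    rfl
  rw [h3] at this
  have h4 : l.length + 1 ≤ d + 1 := by exact_mod_cast this
  omega

end Dim

variable {k : Type u} [Field k] {R : Type u} [CommRing R] [Algebra k R]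
  {σ : Type u} [SetLike σ R] [AddSubgroupClass σ R] {𝒜 : ℤ → σ} [GradedRing 𝒜]
  {m : Ideal R} {J : Ideal R}

/-- Minimal primes over homogeneous ideals are homogeneous. -/
theorem isHomogeneous_of_mem_minimalPrimes (hJ : J.IsHomogeneous 𝒜) {P : Ideal R}
    (hP : P ∈ J.minimalPrimes) : P.IsHomogeneous 𝒜 := by
  have hPp : P.IsPrime := hP.1.1
  have h1 : J ≤ (P.homogeneousCore 𝒜).toIdeal := by
    have := Ideal.homogeneousCore_mono 𝒜 hP.1.2
    rw [← hJ.toIdeal_homogeneousCore_eq_self]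
    exact this
  have h2 := hP.2 ⟨hPp.homogeneousCore, h1⟩ (Ideal.toIdeal_homogeneousCore_le 𝒜 P)
  have h3 : P = (P.homogeneousCore 𝒜).toIdeal := le_antisymm h2 (Ideal.toIdeal_homogeneousCore_le 𝒜 P)
  rw [h3]
  exact (P.homogeneousCore 𝒜).isHomogeneous

/-- Homogeneous prime avoidance. -/
theorem exists_homog_avoid (h : PosField k 𝒜 m) (S : Finset (Ideal R))
    (hS : ∀ P ∈ S, P.IsPrime ∧ P.IsHomogeneous 𝒜 ∧ ¬ m ≤ P) :
    ∃ d : ℤ, 0 < d ∧ ∃ x ∈ 𝒜 d, ∀ P ∈ S, x ∉ P := by
  classical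
  induction hn : S.card using Nat.strong_induction_on generalizing S with
  | _ n ih =>
  subst hn
  rcases S.eq_empty_or_nonempty with rfl | ⟨P, hPS⟩
  · exact ⟨1, Int.one_pos, 0, zero_mem _, by simp⟩
  by_cases hQ : ∃ Q ∈ S.erase P, Q ≤ P
  · obtain ⟨Q, hQ, hle⟩ := hQ
    have hQS := Finset.mem_of_mem_erase hQ
    have hQP : Q ≠ P := Finset.ne_of_mem_erase hQ
    obtain ⟨d, hd, x, hx, hxS⟩ := ih (S.erase Q).card (Finset.card_erase_lt_of_mem hQS) (S.erase Q)
      (fun P' hP' => hS P' (Finset.mem_of_mem_erase hP')) rfl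
    refine ⟨d, hd, x, hx, fun P' hP' => ?_⟩
    by_cases hPQ : P' = Q
    · subst hPQ
      exact fun hx' => hxS P (Finset.mem_erase.mpr ⟨fun h => hQP h.symm, hPS⟩) (hle hx')
    · exact hxS P' (Finset.mem_erase.mpr ⟨hPQ, hP'⟩)
  · push Not at hQ
    obtain ⟨hPp, hPh, hPm⟩ := hS P hPS
    -- an element of `m` outside `P`
    obtain ⟨c, hc, z, hz, hzP⟩ : ∃ c : ℤ, 0 < c ∧ ∃ z ∈ 𝒜 c, z ∉ P := by
      by_contra hcon
      push Not at hcon
      apply hPm
      rw [h.span, Ideal.span_le]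
      intro z hz
      simp only [Set.mem_iUnion] at hz
      obtain ⟨c, hc, hz⟩ := hz
      exact hcon c hc z hz
    have hy : ∀ Q ∈ S.erase P, ∃ e : ℤ, 0 ≤ e ∧ ∃ y ∈ 𝒜 e, y ∈ Q ∧ y ∉ P := by
      intro Q hQS
      have hnle := hQ Q hQS
      obtain ⟨hQp, hQh, hQm⟩ := hS Q (Finset.mem_of_mem_erase hQS)
      by_contra hcon
      push Not at hcon
      apply hnle
      refine le_of_homog hQh fun i y hy hyQ => ?_
      by_cases hi : 0 ≤ i
      · exact hcon i hi y hy hyQ
      · rw [h.pos i (by omega) y hy]; exact P.zero_mem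
    choose! e he y hye hyQ hyP using hy
    let Y := z * ∏ Q ∈ S.erase P, y Q
    have hYmem : Y ∈ 𝒜 (c + ∑ Q ∈ S.erase P, e Q) :=
      SetLike.mul_mem_graded hz (SetLike.prod_mem_graded 𝒜 e y fun Q hQ => hye Q hQ)
    have hYP : Y ∉ P := by
      intro hY
      rcases hPp.mem_or_mem hY with h1 | h1
      · exact hzP h1
      · rw [hPp.prod_mem_iff] at h1
        obtain ⟨Q, hQS, h1⟩ := h1
        exact hyP Q hQS h1
    have hYQ : ∀ Q ∈ S.erase P, Y ∈ Q := fun Q hQS =>
      Q.mul_mem_left _ (Q.mem_of_dvd (Finset.dvd_prod_of_mem y hQS) (hyQ Q hQS))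
    set E := c + ∑ Q ∈ S.erase P, e Q with hE
    have hEpos : 0 < E := add_pos_of_pos_of_nonneg hc (Finset.sum_nonneg he)
    obtain ⟨d, hd, x, hx, hxS⟩ := ih (S.erase P).card (Finset.card_erase_lt_of_mem hPS) (S.erase P)
      (fun P' hP' => hS P' (Finset.mem_of_mem_erase hP')) rfl
    by_cases hxP : x ∈ P
    · refine ⟨d * E, mul_pos hd hEpos, x ^ E.toNat + Y ^ d.toNat, ?_, ?_⟩
      · refine add_mem ?_ ?_
        · have := SetLike.pow_mem_graded E.toNat hx
          rwa [nsmul_eq_mul, Int.toNat_of_nonneg hEpos.le, mul_comm] at this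
        · have := SetLike.pow_mem_graded d.toNat hYmem
          rwa [nsmul_eq_mul, Int.toNat_of_nonneg hd.le] at this
      · intro Q hQS hmem
        by_cases hQP : Q = P
        · subst hQP
          have h1 : x ^ E.toNat ∈ Q := Ideal.pow_mem_of_mem _ hxP _ (by omega)
          have h2 := (Ideal.add_mem_iff_right _ h1).mp hmem
          exact hYP (hPp.mem_of_pow_mem _ h2)
        · have hQS' : Q ∈ S.erase P := Finset.mem_erase.mpr ⟨hQP, hQS⟩
          have h1 : Y ^ d.toNat ∈ Q := Ideal.pow_mem_of_mem _ (hYQ Q hQS') _ (by omega)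
          have h2 := (Ideal.add_mem_iff_left _ h1).mp hmem
          exact hxS Q hQS' ((hS Q hQS).1.mem_of_pow_mem _ h2)
    · refine ⟨d, hd, x, hx, fun Q hQS => ?_⟩
      by_cases hQP : Q = P
      · rw [hQP]; exact hxP
      · exact hxS Q (Finset.mem_erase.mpr ⟨hQP, hQS⟩)

/-- In dimension `≤ 0`, `m` is contained in the radical. -/
theorem le_radical_of_dim_le_zero (h : PosField k 𝒜 m) [Nontrivial R] (hJ : J.IsHomogeneous 𝒜)
    (hd : ringKrullDim (R ⧸ J) ≤ 0) : m ≤ J.radical := by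
  rw [← Ideal.sInf_minimalPrimes]
  refine le_sInf fun P hP => ?_
  have hPp : P.IsPrime := hP.1.1
  have hPh := isHomogeneous_of_mem_minimalPrimes hJ hP
  have hPm := h.le_of_isHomogeneous hPh hPp.ne_top
  have hmax := h.isMaximal
  rw [ringKrullDim_quotient, Order.krullDim_nonpos_iff_forall_isMax] at hd
  have h1 := hd ⟨⟨P, hPp⟩, hP.1.2⟩ (b := ⟨⟨m, hmax.isPrime⟩, hP.1.2.trans hPm⟩) hPm
  exact h1

/-- Existence of homogeneous parameters. -/
theorem exists_params (h : PosField k 𝒜 m) [IsNoetherianRing R] [Nontrivial R] (d : ℕ) : ∀ (J : Ideal R),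
    J.IsHomogeneous 𝒜 → J ≤ m → ringKrullDim (R ⧸ J) ≤ d → ∀ q : ℕ, 0 < q → ∀ b : ℤ,
    ∃ D : ℤ, 0 < D ∧ b ≤ D ∧ (q : ℤ) ∣ D ∧ ∃ θ : Fin d → R, (∀ i, θ i ∈ 𝒜 D) ∧
      m ≤ (J ⊔ Ideal.span (Set.range θ)).radical := by
  classical
  induction d with
  | zero =>
    intro J hJ hJm hd q hq b
    refine ⟨q * (b.natAbs + 1), by positivity, ?_, Dvd.intro _ rfl, Fin.elim0, fun i => i.elim0, ?_⟩
    · have h1 : b ≤ b.natAbs := Int.le_natAbs
      have h2 : (1 : ℤ) ≤ q := by exact_mod_cast hq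
      nlinarith
    · exact (le_radical_of_dim_le_zero h hJ (by simpa using hd)).trans (Ideal.radical_mono le_sup_left)
  | succ d ih =>
    intro J hJ hJm hd q hq b
    have hfin : J.minimalPrimes.Finite := Ideal.finite_minimalPrimes_of_isNoetherianRing R J
    let S := hfin.toFinset.filter (fun P => ¬ m ≤ P)
    obtain ⟨e, he, x, hx, hxS⟩ := exists_homog_avoid h S (fun P hP => by
      rw [Finset.mem_filter, Set.Finite.mem_toFinset] at hP
      exact ⟨hP.1.1.1, isHomogeneous_of_mem_minimalPrimes hJ hP.1, hP.2⟩)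
    have hstep : ringKrullDim (R ⧸ (J ⊔ Ideal.span {x})) ≤ d := by
      refine dim_step (fun P hP hxP => ?_) d hd
      have hmP : m ≤ P := by
        by_contra hmP
        exact hxS P (by rw [Finset.mem_filter, Set.Finite.mem_toFinset]; exact ⟨hP, hmP⟩) hxP
      rw [← h.isMaximal.eq_of_le hP.1.1.ne_top hmP]
      exact h.isMaximal
    have hxh : (J ⊔ Ideal.span {x}).IsHomogeneous 𝒜 := by
      refine hJ.sup (Ideal.homogeneous_span 𝒜 _ ?_)
      rintro _ rfl
      exact ⟨e, hx⟩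
    obtain ⟨D, hD, hbD, hqD, θ, hθ, hm⟩ := ih (J ⊔ Ideal.span {x}) hxh
      (sup_le hJm ((Ideal.span_singleton_le_iff_mem _).mpr (h.mem_of_pos he hx))) hstep (q * e.toNat)
      (Nat.mul_pos hq (by omega)) b
    have heD : e ∣ D := (Dvd.intro_left (q : ℤ) (by
      rw [← Int.toNat_of_nonneg he.le]; push_cast; simp)).trans hqD
    obtain ⟨c, hc⟩ := heD
    have hc0 : 0 < c := by
      by_contra hcon
      nlinarith
    refine ⟨D, hD, hbD, (Dvd.intro (e.toNat : ℤ) (by push_cast; rfl)).trans hqD,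
      Fin.cons (x ^ c.toNat) θ, ?_, ?_⟩
    · intro i
      refine Fin.cases ?_ (fun i => ?_) i
      · rw [Fin.cons_zero]
        have := SetLike.pow_mem_graded c.toNat hx
        rwa [nsmul_eq_mul, Int.toNat_of_nonneg hc0.le, mul_comm, ← hc] at this
      · rw [Fin.cons_succ]
        exact hθ i
    · refine hm.trans (Ideal.radical_le_radical_iff.mpr ?_)
      refine sup_le (sup_le (le_sup_left.trans Ideal.le_radical) ?_) ?_
      · rw [Ideal.span_singleton_le_iff_mem]
        refine Ideal.mem_radical_iff.mpr ⟨c.toNat, Ideal.mem_sup_right (Ideal.subset_span ⟨0, ?_⟩)⟩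
        rw [Fin.cons_zero]
      · rw [Ideal.span_le]
        rintro _ ⟨i, rfl⟩
        refine Ideal.le_radical (Ideal.mem_sup_right (Ideal.subset_span ⟨i.succ, ?_⟩))
        rw [Fin.cons_succ]

end K762.Param
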