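import Groth.Agent.GrLC.K762.Ht
import Mathlib.Algebra.Module.LocalizedModule.Basic
import Mathlib.RingTheory.Regular.Flat

/-!
# Element-wise form of regular sequences; local to graded
-/

set_option autoImplicit false
set_option linter.unusedSectionVars false
universe u

open DirectSum

namespace K762.Reg

open K762.Base K762.Nak RingTheory.Sequence

section General

variable {R : Type u} [CommRing R] {M : Type u} [AddCommGroup M] [Module R M] {n : ℕ}

/-- The ideal generated by the first `i` elements of a sequence. -/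
def pre (θ : Fin n → R) (i : ℕ) : Ideal R :=
  Ideal.span (Set.range fun j : {j : Fin n // (j : ℕ) < i} => θ j)

theorem mem_pre {θ : Fin n → R} {i : ℕ} {j : Fin n} (h : (j : ℕ) < i) : θ j ∈ pre θ i :=
  Ideal.subset_span ⟨⟨j, h⟩, rfl⟩

theorem pre_mono {θ : Fin n → R} {i j : ℕ} (h : i ≤ j) : pre θ i ≤ pre θ j := by
  rw [pre, Ideal.span_le]
  rintro _ ⟨l, rfl⟩
  exact mem_pre (l.2.trans_le h)

theorem pre_zero (θ : Fin n → R) : pre θ 0 = ⊥ := by
  rw [pre, Ideal.span_eq_bot]
  rintro _ ⟨l, rfl⟩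
  exact absurd l.2 (by omega)

theorem pre_top (θ : Fin n → R) : pre θ n = Ideal.span (Set.range θ) := by
  apply le_antisymm
  · rw [pre, Ideal.span_le]
    rintro _ ⟨l, rfl⟩
    exact Ideal.subset_span ⟨l, rfl⟩
  · rw [Ideal.span_le]
    rintro _ ⟨l, rfl⟩
    exact mem_pre l.2

theorem pre_succ (θ : Fin n → R) (i : Fin n) : pre θ (i + 1) = pre θ i ⊔ Ideal.span {θ i} := by
  apply le_antisymm
  · rw [pre, Ideal.span_le]
    rintro _ ⟨l, rfl⟩
    rcases Nat.lt_succ_iff_lt_or_eq.mp l.2 with h | h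
    · exact Ideal.mem_sup_left (mem_pre h)
    · have : (l : Fin n) = i := Fin.ext h
      refine Ideal.mem_sup_right (Ideal.mem_span_singleton.mpr ?_)
      exact dvd_of_eq (congrArg θ this.symm)
  · refine sup_le (pre_mono (Nat.le_succ _)) ?_
    rw [Ideal.span_singleton_le_iff_mem]
    exact mem_pre (Nat.lt_succ_self _)

theorem mem_pre_smul {θ : Fin n → R} {i : ℕ} {x : M} : x ∈ (pre θ i • ⊤ : Submodule R M) ↔
    ∃ z : {j : Fin n // (j : ℕ) < i} → M, x = ∑ j : {j : Fin n // (j : ℕ) < i}, θ j.1 • z j := by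
  rw [pre]
  exact mem_span_range_smul_top (M := M) (κ := {j : Fin n // (j : ℕ) < i}) (fun j => θ j.1)

theorem ofList_take (θ : Fin n → R) (i : ℕ) (hi : i ≤ n) :
    Ideal.ofList ((List.ofFn θ).take i) = pre θ i := by
  rw [Ideal.ofList, pre]
  congr 1
  ext x
  simp only [List.mem_take_iff_getElem, Set.mem_range, Subtype.exists, List.length_ofFn,
    List.getElem_ofFn]
  constructor
  · rintro ⟨j, hj, rfl⟩
    exact ⟨⟨j, by omega⟩, by simp; omega, rfl⟩
  · rintro ⟨j, hj, rfl⟩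
    exact ⟨j, by omega, rfl⟩

theorem isWeaklyRegular_ofFn_iff {θ : Fin n → R} : IsWeaklyRegular M (List.ofFn θ) ↔
    ∀ i : Fin n, ∀ x : M, θ i • x ∈ (pre θ i • ⊤ : Submodule R M) → x ∈ (pre θ i • ⊤ : Submodule R M) := by
  constructor
  · intro h i x hx
    have h1 := h.regular_mod_prev i (by simp)
    rw [ofList_take θ i i.2.le] at h1
    refine (isSMulRegular_quotient_iff_mem_of_smul_mem _ _).mp h1 x ?_
    simpa using hx
  · intro h
    refine ⟨fun i hi => ?_⟩
    rw [ofList_take θ i (by simpa using hi.le)]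
    rw [isSMulRegular_quotient_iff_mem_of_smul_mem]
    intro x hx
    exact h ⟨i, by simpa using hi⟩ x (by simpa using hx)

end General

section Graded

variable {ι : Type} [AddCommGroup ι] [DecidableEq ι] {R : Type u} [CommRing R]
  {σ : Type u} [SetLike σ R] [AddSubgroupClass σ R] {𝒜 : ι → σ} [GradedRing 𝒜]
  {M : Type u} [AddCommGroup M] [Module R M] {τ : Type u} [SetLike τ M] [AddSubgroupClass τ M]
  {ℳ : ι → τ} [Decomposition ℳ] [SetLike.GradedSMul 𝒜 ℳ] {n : ℕ} {θ : Fin n → R} {w : Fin n → ι}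

theorem pr_smul_of_mem (r : R) {j : ι} {x : M} (hx : x ∈ ℳ j) (i : ι) :
    pr ℳ (i + j) (r • x) = pr 𝒜 i r • x := by
  obtain ⟨s, hs⟩ := exists_sum_pr (ℳ := 𝒜) r
  have h1 : ∀ a, pr ℳ (i + j) (pr 𝒜 a r • x) = if a = i then pr 𝒜 i r • x else 0 := by
    intro a
    split_ifs with h
    · rw [h]
      exact pr_of_mem (smul_mem (𝒜 := 𝒜) (pr_mem i r) hx rfl)
    · exact pr_of_mem_ne (smul_mem (𝒜 := 𝒜) (pr_mem a r) hx rfl) fun h' => h (add_right_cancel h')
  conv_lhs => rw [← hs, Finset.sum_smul, pr_sum]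
  rw [Finset.sum_congr rfl fun a _ => h1 a, Finset.sum_ite_eq']
  split_ifs with hi
  · rfl
  · have : pr 𝒜 i r = 0 := by
      rw [← hs, pr_sum]
      refine Finset.sum_eq_zero fun j hj => pr_of_mem_ne (pr_mem j r) ?_
      rintro rfl
      exact hi hj
    rw [this, zero_smul]

/-- If `P` is a homogeneous submodule, homogeneous ideals give homogeneous submodules. -/
theorem isHomogeneous_smul {J : Ideal R} (hJ : J.IsHomogeneous 𝒜) {P : Submodule R M}
    (hP : P.IsHomogeneous ℳ) : (J • P).IsHomogeneous ℳ := by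
  rw [isHomogeneous_iff]
  intro i x hx
  refine Submodule.smul_induction_on hx ?_ fun a b ha hb => by rw [pr_add]; exact add_mem ha hb
  intro r hr y hy
  obtain ⟨s, hs⟩ := exists_sum_pr (ℳ := ℳ) y
  rw [← hs, Finset.smul_sum, pr_sum]
  refine Submodule.sum_mem _ fun j _ => ?_
  have h1 := pr_smul_of_mem (𝒜 := 𝒜) r (pr_mem (ℳ := ℳ) j y) (i - j)
  rw [sub_add_cancel] at h1
  rw [h1]
  exact Submodule.smul_mem_smul (hJ (i - j) hr) (hP j hy)

theorem isHomogeneous_top : (⊤ : Submodule R M).IsHomogeneous ℳ := fun _ _ _ => Submodule.mem_top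

theorem isHomogeneous_pre (hθ : ∀ i, θ i ∈ 𝒜 (w i)) (i : ℕ) : (pre θ i).IsHomogeneous 𝒜 := by
  refine Ideal.homogeneous_span 𝒜 _ ?_
  rintro _ ⟨j, rfl⟩
  exact ⟨w j, hθ j⟩

theorem isHomogeneous_pre_smul (hθ : ∀ i, θ i ∈ 𝒜 (w i)) (i : ℕ) :
    (pre θ i • ⊤ : Submodule R M).IsHomogeneous ℳ :=
  isHomogeneous_smul (isHomogeneous_pre hθ i) isHomogeneous_top

end Graded

section Local

variable {k : Type u} [Field k] {R : Type u} [CommRing R] [Algebra k R]
  {σ : Type u} [SetLike σ R] [AddSubgroupClass σ R] {𝒜 : ℤ → σ} [GradedRing 𝒜]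
  {M : Type u} [AddCommGroup M] [Module R M] [Module k M] [IsScalarTower k R M]
  {τ : Type u} [SetLike τ M] [AddSubgroupClass τ M]
  {ℳ : ℤ → τ} [Decomposition ℳ] [SetLike.GradedSMul 𝒜 ℳ]
  {m : Ideal R} {n : ℕ} {θ : Fin n → R} {w : Fin n → ℤ}

/-- An element outside `m` which multiplies `x` into a homogeneous submodule. -/
theorem mem_of_smul_mem (h : PosField k 𝒜 m) {P : Submodule R M} (hP : P.IsHomogeneous ℳ) {x : M} {j : ℤ}
    (hx : x ∈ ℳ j) {s : R} (hs : s ∉ m) (hsx : s • x ∈ P) : x ∈ P := by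
  have h1 : pr ℳ (0 + j) (s • x) = pr 𝒜 0 s • x := pr_smul_of_mem (𝒜 := 𝒜) s hx 0
  have h2 : pr 𝒜 0 s • x ∈ P := by rw [← h1]; exact hP _ hsx
  rw [h.mem_iff] at hs
  obtain ⟨c, hc⟩ := h.surj _ (pr_mem (ℳ := 𝒜) 0 s)
  have hc0 : c ≠ 0 := by
    rintro rfl
    rw [map_zero] at hc
    exact hs hc.symm
  rw [← hc] at h2
  have h3 := P.smul_mem (algebraMap k R c⁻¹) h2
  rwa [smul_smul, ← map_mul, inv_mul_cancel₀ hc0, map_one, one_smul] at h3

/-- Regular sequences at `m` are regular sequences. -/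
theorem isWeaklyRegular_of_local {τ' : Type u} [SetLike τ' M] [AddSubgroupClass τ' M] (ℳ : ℤ → τ')
    [Decomposition ℳ] [SetLike.GradedSMul 𝒜 ℳ] (h : PosField k 𝒜 m) [m.IsPrime] (hθ : ∀ i, θ i ∈ 𝒜 (w i))
    {N : Type u} [AddCommGroup N] [Module R N] (f : M →ₗ[R] N) [IsLocalizedModule m.primeCompl f]
    (hN : IsWeaklyRegular N (List.ofFn θ)) : IsWeaklyRegular M (List.ofFn θ) := by
  rw [isWeaklyRegular_ofFn_iff] at hN ⊢
  intro i x hx
  -- reduction to homogeneous elements
  suffices H : ∀ j, ∀ x ∈ ℳ j, θ i • x ∈ (pre θ i • ⊤ : Submodule R M) →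
      x ∈ (pre θ i • ⊤ : Submodule R M) by
    obtain ⟨s, hs⟩ := exists_sum_pr (ℳ := ℳ) x
    rw [← hs]
    refine Submodule.sum_mem _ fun j _ => H j _ (pr_mem j x) ?_
    have h1 : pr ℳ (w i + j) (θ i • x) ∈ (pre θ i • ⊤ : Submodule R M) :=
      isHomogeneous_pre_smul hθ i _ hx
    rwa [pr_smul (𝒜 := 𝒜) (hθ i), add_sub_cancel_left] at h1
  clear hx x
  intro j x hxj hx
  have h1 : θ i • f x ∈ (pre θ i • ⊤ : Submodule R N) := by
    rw [mem_pre_smul] at hx ⊢
    obtain ⟨z, hz⟩ := hx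
    refine ⟨fun l => f (z l), ?_⟩
    rw [← map_smul, hz, map_sum]
    exact Finset.sum_congr rfl fun l _ => by rw [map_smul]
  have h2 := hN i _ h1
  rw [mem_pre_smul] at h2
  obtain ⟨z, hz⟩ := h2
  -- common denominator
  obtain ⟨s, y, hy⟩ : ∃ (s : m.primeCompl) (y : {j : Fin n // (j : ℕ) < i} → M), ∀ l, s • z l = f (y l) := by
    classical
    choose p hp using fun l => IsLocalizedModule.surj m.primeCompl f (z l)
    refine ⟨∏ l, (p l).2, fun l => (∏ l' ∈ Finset.univ.erase l, (p l').2) • (p l).1, fun l => ?_⟩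
    rw [← Finset.prod_erase_mul _ _ (Finset.mem_univ l), mul_smul, hp, Submonoid.smul_def, ← map_smul]
    rfl
  have h3 : f ((s : R) • x) = f (∑ l : {j : Fin n // (j : ℕ) < i}, θ l.1 • y l) := by
    rw [map_smul, hz, Finset.smul_sum, map_sum]
    refine Finset.sum_congr rfl fun l _ => ?_
    rw [smul_comm, map_smul, ← hy l]
    rfl
  obtain ⟨c, hc⟩ := (IsLocalizedModule.eq_iff_exists m.primeCompl f).mp h3
  refine mem_of_smul_mem h (isHomogeneous_pre_smul hθ i) hxj (s := (c : R) * s) ?_ ?_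
  · intro hmem
    rcases (inferInstance : m.IsPrime).mem_or_mem hmem with h4 | h4
    · exact c.2 h4
    · exact s.2 h4
  · rw [mul_smul]
    have h4 : (c : R) • (s : R) • x = (c : R) • ∑ l : {j : Fin n // (j : ℕ) < i}, θ l.1 • y l := hc
    rw [h4]
    exact Submodule.smul_mem _ _ (mem_pre_smul.mpr ⟨y, rfl⟩)

/-- In a graded Cohen-Macaulay ring, `dim R` homogeneous elements generating an `m`-primary ideal form a
regular sequence. -/
theorem isWeaklyRegular_of_cm (h : PosField k 𝒜 m) [LocCoh.IsCohenMacaulayRing R] (hn : ringKrullDim R = n)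
    (hθ : ∀ i, θ i ∈ 𝒜 (w i)) (hw : ∀ i, 0 < w i) {N : ℕ} (hN : m ^ N ≤ Ideal.span (Set.range θ)) :
    IsWeaklyRegular R (List.ofFn θ) := by
  have hnt : Nontrivial R := by
    rw [← not_subsingleton_iff_nontrivial]
    intro hs
    rw [ringKrullDim_eq_bot_of_subsingleton] at hn
    exact WithBot.bot_ne_coe hn
  have hmax := h.isMaximal
  have hprime := hmax.isPrime
  have hcm := LocCoh.IsCohenMacaulayRing.isCohenMacaulayLocalRing_localization (R := R) m
  have h1 : IsWeaklyRegular (Localization.AtPrime m)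
      ((List.ofFn θ).map (algebraMap R (Localization.AtPrime m))) := by
    refine Groth.Agent.Models2.CIFlat.isWeaklyRegular_of_forall_prime hcm _ ?_ ?_ ?_
    · intro r hr
      rw [List.mem_map] at hr
      obtain ⟨a, ha, rfl⟩ := hr
      rw [List.mem_ofFn] at ha
      obtain ⟨i, rfl⟩ := ha
      rw [← mem_nonunits_iff, ← IsLocalRing.mem_maximalIdeal,
        IsLocalization.AtPrime.to_map_mem_maximal_iff _ m]
      exact h.mem_of_pos (hw i) (hθ i)
    · rw [List.length_map, List.length_ofFn, IsLocalization.AtPrime.ringKrullDim_eq_height m,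
        K762.Ht.height_eq h hn]
      rfl
    · intro p hp hpx
      have h2 : (p.comap (algebraMap R (Localization.AtPrime m))).IsPrime := inferInstance
      have h3 : m ^ N ≤ p.comap (algebraMap R (Localization.AtPrime m)) := by
        refine hN.trans ?_
        rw [Ideal.span_le]
        rintro _ ⟨i, rfl⟩
        exact hpx _ (List.mem_map_of_mem (List.mem_ofFn.mpr ⟨i, rfl⟩))
      have h4 := h2.le_of_pow_le h3
      have h5 : IsLocalRing.maximalIdeal (Localization.AtPrime m) ≤ p := by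
        rw [← Localization.AtPrime.map_eq_maximalIdeal, Ideal.map_le_iff_le_comap]
        exact h4
      have h6 := (IsLocalRing.maximalIdeal.isMaximal (Localization.AtPrime m)).eq_of_le hp.ne_top h5
      rw [← h6]
      infer_instance
  rw [isWeaklyRegular_map_algebraMap_iff] at h1
  exact isWeaklyRegular_of_local 𝒜 h hθ (Algebra.linearMap R (Localization.AtPrime m)) h1

end Local

end K762.Reg
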