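import Groth.Agent.GrLC.K762.Gor
import Groth.Agent.S0345
import Groth.Agent.Localalg.GorSocle
import Mathlib.LinearAlgebra.Dual.Lemmas
import Mathlib.RingTheory.LocalRing.Basic

/-!
# Homogeneous socle generators and perfect pairings on `R / J`
-/

set_option autoImplicit false
set_option linter.unusedSectionVars false
universe u

open DirectSum MvPolynomial CategoryTheory

namespace K762.Soc

open K762.Base K762.Nak K762.Bas K762.Pair RingTheory.Sequence
open Groth.Agent.LoccohB.GorInjDim Groth.Agent.LoccohB.GorBasic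

section Def

variable {R : Type u} [CommRing R] {σ : Type u} [SetLike σ R]

/-- `w` is a homogeneous element of degree `s` generating the socle of `R / J`, in the strong form that
every homogeneous element outside `J` has a multiple congruent to `w`. -/
structure SocP (𝒜 : ℤ → σ) [AddSubgroupClass σ R] [GradedRing 𝒜] (J : Ideal R) (s : ℤ) (w : R) : Prop where
  hom : J.IsHomogeneous 𝒜
  mem : w ∈ 𝒜 s
  nmem : w ∉ J
  dual : ∀ i, ∀ x ∈ 𝒜 i, x ∉ J → ∃ y ∈ 𝒜 (s - i), x * y - w ∈ J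

end Def

variable {k : Type u} [Field k] {R : Type u} [CommRing R] [Algebra k R]
  {σ : Type u} [SetLike σ R] [AddSubgroupClass σ R] {𝒜 : ℤ → σ} [GradedRing 𝒜]
  {m : Ideal R} {J : Ideal R} {s : ℤ} {w : R}

theorem SocP.top (h : PosField k 𝒜 m) (hs : SocP 𝒜 J s w) {i : ℤ} (hi : s < i) {x : R} (hx : x ∈ 𝒜 i) :
    x ∈ J := by
  by_contra hxJ
  obtain ⟨y, hy, hxy⟩ := hs.dual i x hx hxJ
  rw [h.pos _ (by omega) y hy, mul_zero, zero_sub] at hxy
  exact hs.nmem (by simpa using hxy)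

theorem SocP.nonneg (h : PosField k 𝒜 m) (hs : SocP 𝒜 J s w) : 0 ≤ s := by
  by_contra hlt
  apply hs.nmem
  rw [h.pos s (by omega) w hs.mem]
  exact J.zero_mem

theorem SocP.mul_mem (h : PosField k 𝒜 m) (hs : SocP 𝒜 J s w) {x : R} (hx : x ∈ m) : x * w ∈ J := by
  obtain ⟨u, hu⟩ := exists_sum_pr (ℳ := 𝒜) x
  rw [← hu, Finset.sum_mul]
  refine Ideal.sum_mem _ fun i _ => ?_
  rcases lt_trichotomy i 0 with hi | hi | hi
  · rw [h.pos i hi _ (pr_mem i x), zero_mul]; exact J.zero_mem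
  · rw [hi, h.pr_zero_eq_zero hx, zero_mul]; exact J.zero_mem
  · exact hs.top h (i := i + s) (by omega) (SetLike.mul_mem_graded (pr_mem i x) hs.mem)

/-- The piece of degree `s` is spanned by `w` modulo `J`. -/
theorem SocP.piece (h : PosField k 𝒜 m) (hs : SocP 𝒜 J s w) {x : R} (hx : x ∈ 𝒜 s) :
    ∃ c : k, x - c • w ∈ J := by
  by_cases hxJ : x ∈ J
  · exact ⟨0, by rwa [zero_smul, sub_zero]⟩
  obtain ⟨y, hy, hxy⟩ := hs.dual s x hx hxJ
  rw [sub_self] at hy
  obtain ⟨c, rfl⟩ := h.surj y hy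
  have hc : c ≠ 0 := by
    rintro rfl
    rw [map_zero, mul_zero, zero_sub] at hxy
    exact hs.nmem (by simpa using hxy)
  refine ⟨c⁻¹, ?_⟩
  have h1 := J.mul_mem_left (algebraMap k R c⁻¹) hxy
  have h2 : algebraMap k R c⁻¹ * (x * algebraMap k R c - w) = x - c⁻¹ • w := by
    rw [mul_sub, ← Algebra.smul_def c⁻¹ w, mul_comm x, ← mul_assoc, ← map_mul, inv_mul_cancel₀ hc,
      map_one, one_mul]
  rwa [h2] at h1

/-- The component map as a `k`-linear map. -/
noncomputable def prLin (h : PosField k 𝒜 m) {M : Type u} [AddCommGroup M] [Module R M] [Module k M]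
    [IsScalarTower k R M] {τ : Type u} [SetLike τ M] [AddSubgroupClass τ M] (ℳ : ℤ → τ) [Decomposition ℳ]
    [SetLike.GradedSMul 𝒜 ℳ] (i : ℤ) : M →ₗ[k] M where
  toFun := pr ℳ i
  map_add' := pr_add i
  map_smul' c x := by
    rw [← algebraMap_smul R c x, pr_smul (𝒜 := 𝒜) (h.alg c), sub_zero, algebraMap_smul,
      RingHom.id_apply]

/-- A homogeneous socle generator gives a perfect pairing. -/
theorem SocP.exists_canPair (h : PosField k 𝒜 m) (hs : SocP 𝒜 J s w) :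
    ∃ lam : R →ₗ[k] k, CanPair k 𝒜 𝒜 J s lam ∧ lam w = 1 := by
  have hw : Ideal.Quotient.mk J w ≠ 0 := fun h0 => hs.nmem (Ideal.Quotient.eq_zero_iff_mem.mp h0)
  obtain ⟨f, hf⟩ := Module.Projective.exists_dual_eq_one k hw
  let lam : R →ₗ[k] k := f ∘ₗ (Ideal.Quotient.mkₐ k J).toLinearMap ∘ₗ prLin h 𝒜 s
  have hlam : ∀ x, lam x = f (Ideal.Quotient.mk J (pr 𝒜 s x)) := fun _ => rfl
  have hJ : ∀ x ∈ J, lam x = 0 := by
    intro x hx
    have hx' : pr 𝒜 s x ∈ J := hs.hom s hx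
    rw [hlam, Ideal.Quotient.eq_zero_iff_mem.mpr hx', map_zero]
  have hw1 : lam w = 1 := by rw [hlam, pr_of_mem hs.mem, hf]
  have key : ∀ i, ∀ x ∈ 𝒜 i, x ∉ J → ∃ y ∈ 𝒜 (s - i), lam (x * y) ≠ 0 := by
    intro i x hx hxJ
    obtain ⟨y, hy, hxy⟩ := hs.dual i x hx hxJ
    refine ⟨y, hy, ?_⟩
    have : lam (x * y) = lam (x * y - w) + lam w := by rw [← map_add, sub_add_cancel]
    rw [this, hJ _ hxy, hw1, zero_add]
    exact one_ne_zero
  refine ⟨lam, ⟨?_, ?_, key, ?_⟩, hw1⟩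
  · intro i hi c hc
    rw [hlam, pr_of_mem_ne hc hi, map_zero, map_zero]
  · intro x hx c
    exact hJ _ (J.mul_mem_right c hx)
  · intro i c hc hcJ
    rw [smul_eq_mul, Ideal.mul_top] at hcJ
    obtain ⟨y, hy, hxy⟩ := key i c hc hcJ
    exact ⟨y, hy, by rwa [smul_eq_mul, mul_comm]⟩

/-- A perfect pairing gives a homogeneous socle generator. -/
theorem exists_of_canPair (h : PosField k 𝒜 m) (hJ : J.IsHomogeneous 𝒜) (hJ1 : J ≠ ⊤) {lam : R →ₗ[k] k}
    (hp : CanPair k 𝒜 𝒜 J s lam) : ∃ w, SocP 𝒜 J s w := by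
  obtain ⟨w, hw, hne⟩ := hp.left 0 1 (SetLike.one_mem_graded 𝒜) ((Ideal.ne_top_iff_one J).mp hJ1)
  rw [sub_zero] at hw
  rw [one_smul] at hne
  have hwJ : w ∉ J := fun hw' => hne (by simpa using hp.ideal w hw' 1)
  refine ⟨w, hJ, hw, hwJ, ?_⟩
  intro i x hx hxJ
  obtain ⟨y, hy, hxy⟩ := hp.left i x hx hxJ
  rw [smul_eq_mul] at hxy
  refine ⟨(lam w / lam (x * y)) • y, ?_, ?_⟩
  · rw [Algebra.smul_def]
    have := SetLike.mul_mem_graded (h.alg (lam w / lam (x * y))) hy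
    rwa [zero_add] at this
  · by_contra hcon
    have hmem : x * (lam w / lam (x * y)) • y - w ∈ 𝒜 s := by
      refine sub_mem ?_ hw
      rw [mul_smul_comm, Algebra.smul_def]
      have := SetLike.mul_mem_graded (h.alg (lam w / lam (x * y))) (SetLike.mul_mem_graded hx hy)
      rwa [zero_add, add_sub_cancel] at this
    obtain ⟨z, hz, hne'⟩ := hp.left s _ hmem hcon
    rw [sub_self] at hz
    obtain ⟨c, rfl⟩ := h.surj z hz
    apply hne'
    rw [smul_eq_mul, mul_comm, ← Algebra.smul_def, map_smul, map_sub, mul_smul_comm, map_smul, smul_eq_mul,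
      smul_eq_mul, div_mul_cancel₀ _ hxy, sub_self, mul_zero]

/-- `R / J` is a local ring as soon as a power of `m` is contained in `J`. -/
theorem isLocalRing_quotient (h : PosField k 𝒜 m) [Nontrivial R] (hJm : J ≤ m) {N : ℕ} (hN : m ^ N ≤ J) :
    IsLocalRing (R ⧸ J) ∧ ∀ [IsLocalRing (R ⧸ J)], IsLocalRing.maximalIdeal (R ⧸ J) =
      m.map (Ideal.Quotient.mk J) := by
  have hmax := h.isMaximal
  have key : ∀ M : Ideal (R ⧸ J), M.IsMaximal → M = m.map (Ideal.Quotient.mk J) := by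
    intro M hM
    have h1 : (M.comap (Ideal.Quotient.mk J)).IsMaximal :=
      Ideal.comap_isMaximal_of_surjective _ Ideal.Quotient.mk_surjective
    have h2 : m ^ N ≤ M.comap (Ideal.Quotient.mk J) := by
      refine hN.trans fun x hx => ?_
      rw [Ideal.mem_comap, Ideal.Quotient.eq_zero_iff_mem.mpr hx]
      exact M.zero_mem
    have h3 : m = M.comap (Ideal.Quotient.mk J) :=
      hmax.eq_of_le h1.ne_top (h1.isPrime.le_of_pow_le h2)
    rw [h3, Ideal.map_comap_of_surjective _ Ideal.Quotient.mk_surjective]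
  have hne : m.map (Ideal.Quotient.mk J) ≠ ⊤ := by
    intro htop
    have h1 : m.map (Ideal.Quotient.mk J) = (⊤ : Ideal R).map (Ideal.Quotient.mk J) := by
      rw [htop, Ideal.map_top]
    have h2 := congrArg (Ideal.comap (Ideal.Quotient.mk J)) h1
    rw [Ideal.comap_map_of_surjective _ Ideal.Quotient.mk_surjective,
      Ideal.comap_map_of_surjective _ Ideal.Quotient.mk_surjective, ← RingHom.ker_eq_comap_bot,
      Ideal.mk_ker, sup_eq_left.mpr hJm, top_sup_eq] at h2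
    exact h.ne_top h2
  have hmax' : (m.map (Ideal.Quotient.mk J)).IsMaximal := by
    obtain ⟨M, hM, hle⟩ := Ideal.exists_le_maximal _ hne
    rwa [← key M hM]
  refine ⟨IsLocalRing.of_unique_max_ideal ⟨_, hmax', key⟩, fun {_} => key _ inferInstance⟩

theorem isHomogeneous_pow {I : Ideal R} (hI : I.IsHomogeneous 𝒜) (n : ℕ) : (I ^ n).IsHomogeneous 𝒜 := by
  induction n with
  | zero => rw [pow_zero, Ideal.one_eq_top]; exact Ideal.IsHomogeneous.top 𝒜
  | succ n ih => rw [pow_succ]; exact ih.mul hI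

/-- Homogeneous socle generator in the Gorenstein case. -/
theorem exists_of_FID [IsNoetherianRing R] [Nontrivial R] (h : PosField k 𝒜 m) (hJ : J.IsHomogeneous 𝒜)
    (hJm : J ≤ m) {N : ℕ} (hN : m ^ N ≤ J) (hB : FID (R ⧸ J)) : ∃ s w, SocP 𝒜 J s w := by
  obtain ⟨hloc, hmax⟩ := isLocalRing_quotient h hJm hN
  have hmax := @hmax hloc
  obtain ⟨N', hB⟩ := hB
  -- no regular elements
  have hnr : ∀ x ∈ IsLocalRing.maximalIdeal (R ⧸ J), ¬ IsSMulRegular (R ⧸ J) x := by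
    intro x hx hreg
    have h1 : x ^ N = 0 := by
      rw [hmax] at hx
      have h2 := Ideal.pow_mem_pow hx N
      rw [← Ideal.map_pow] at h2
      have h3 : (m ^ N).map (Ideal.Quotient.mk J) ≤ ⊥ := by
        rw [Ideal.map_le_iff_le_comap]
        intro y hy
        rw [Ideal.mem_comap, Ideal.mem_bot]
        exact Ideal.Quotient.eq_zero_iff_mem.mpr (hN hy)
      exact h3 h2
    have h2 : IsSMulRegular (R ⧸ J) (x ^ N) := hreg.pow N
    rw [h1] at h2
    exact one_ne_zero (h2 (a₁ := (1 : R ⧸ J)) (a₂ := 0) (by simp))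
  have h1 := Groth.Agent.Localalg.GorDepth.hasInjectiveDimensionLT_one
    (ModuleCat.of (R ⧸ J) (R ⧸ J)) N' hB hnr
  obtain ⟨g, hg, hgen⟩ := Groth.Agent.Localalg.GorSocle.exists_socle_generator h1
  obtain ⟨t, ht⟩ := Ideal.Quotient.mk_surjective (g 1)
  have ht0 : t ∉ J := by
    intro htJ
    rw [Ideal.Quotient.eq_zero_iff_mem.mpr htJ] at ht
    have h2 : (1 : (R ⧸ J) ⧸ IsLocalRing.maximalIdeal (R ⧸ J)) = 0 := hg (by rw [← ht, map_zero])
    exact one_ne_zero h2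
  have htm : ∀ x ∈ m, x * t ∈ J := by
    intro x hx
    rw [← Ideal.Quotient.eq_zero_iff_mem, map_mul, ht, ← smul_eq_mul, ← map_smul]
    have h2 : Ideal.Quotient.mk J x • (1 : (R ⧸ J) ⧸ IsLocalRing.maximalIdeal (R ⧸ J)) = 0 := by
      rw [Algebra.smul_def, mul_one]
      refine Ideal.Quotient.eq_zero_iff_mem.mpr ?_
      rw [hmax]
      exact Ideal.mem_map_of_mem _ hx
    rw [h2, map_zero]
  -- socle elements are multiples of `t`
  have hsoc : ∀ x, (∀ y ∈ m, y * x ∈ J) → ∃ c : k, x - c • t ∈ J := by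
    intro x hx
    obtain ⟨c, hc⟩ := hgen (Ideal.Quotient.mk J x) (fun a ha => by
      rw [hmax] at ha
      obtain ⟨y, hy, rfl⟩ := (Ideal.mem_map_iff_of_surjective _ Ideal.Quotient.mk_surjective).mp ha
      rw [← map_mul]
      exact Ideal.Quotient.eq_zero_iff_mem.mpr (hx y hy))
    obtain ⟨r, rfl⟩ := Ideal.Quotient.mk_surjective c
    obtain ⟨a, ha⟩ := h.exists_sub_mem r
    refine ⟨a, ?_⟩
    rw [← ht, ← map_mul, Ideal.Quotient.eq] at hc
    have h2 := htm _ ha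
    have h3 := J.add_mem hc h2
    rwa [sub_mul, ← Algebra.smul_def, sub_add_sub_cancel] at h3
  -- a homogeneous component of `t`
  obtain ⟨s, hs⟩ : ∃ s, pr 𝒜 s t ∉ J := by
    by_contra hcon
    push Not at hcon
    apply ht0
    obtain ⟨u, hu⟩ := exists_sum_pr (ℳ := 𝒜) t
    rw [← hu]
    exact Ideal.sum_mem _ fun i _ => hcon i
  set w := pr 𝒜 s t with hw
  have hwm : ∀ x ∈ m, x * w ∈ J := by
    intro x hx
    obtain ⟨u, hu⟩ := exists_sum_pr (ℳ := 𝒜) x
    rw [← hu, Finset.sum_mul]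
    refine Ideal.sum_mem _ fun i _ => ?_
    have h2 : pr 𝒜 (i + s) (pr 𝒜 i x * t) = pr 𝒜 i x * w := by
      have := pr_smul (𝒜 := 𝒜) (ℳ := 𝒜) (pr_mem i x) (i + s) t
      rwa [add_sub_cancel_left] at this
    rw [← h2]
    exact hJ _ (htm _ (h.isHomogeneous i hx))
  obtain ⟨c₀, hc₀⟩ := hsoc w hwm
  have hc₀' : c₀ ≠ 0 := by
    rintro rfl
    rw [zero_smul, sub_zero] at hc₀
    exact hs hc₀
  have hsoc' : ∀ x, (∀ y ∈ m, y * x ∈ J) → ∃ c : k, x - c • w ∈ J := by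
    intro x hx
    obtain ⟨c, hc⟩ := hsoc x hx
    refine ⟨c * c₀⁻¹, ?_⟩
    have h2 := J.mul_mem_left (algebraMap k R (c * c₀⁻¹)) hc₀
    rw [← Algebra.smul_def, smul_sub, smul_smul, mul_assoc, inv_mul_cancel₀ hc₀', mul_one] at h2
    have h3 := J.sub_mem hc h2
    rwa [sub_sub_sub_cancel_right] at h3
  refine ⟨s, w, hJ, pr_mem _ _, hs, ?_⟩
  intro i x hx hxJ
  -- the largest power of `m` not killing `x`
  have hex : ∃ p : ℕ, ∀ y ∈ m ^ p, y * x ∈ J := ⟨N, fun y hy => J.mul_mem_right x (hN hy)⟩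
  classical
  obtain ⟨p, hp, hpmin⟩ : ∃ p : ℕ, (∀ y ∈ m ^ p, y * x ∈ J) ∧ ∀ q < p, ¬ ∀ y ∈ m ^ q, y * x ∈ J :=
    ⟨Nat.find hex, Nat.find_spec hex, fun q hq => Nat.find_min hex hq⟩
  have hp0 : p ≠ 0 := by
    rintro rfl
    exact hxJ (by simpa using hp 1 (by simp))
  have h2 := hpmin (p - 1) (by omega)
  push Not at h2
  obtain ⟨y, hy, hyx⟩ := h2
  have hmp : (m ^ (p - 1)).IsHomogeneous 𝒜 := isHomogeneous_pow h.isHomogeneous _
  obtain ⟨j, hj⟩ : ∃ j, pr 𝒜 j y * x ∉ J := by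
    by_contra hcon
    push Not at hcon
    apply hyx
    obtain ⟨u, hu⟩ := exists_sum_pr (ℳ := 𝒜) y
    rw [← hu, Finset.sum_mul]
    exact Ideal.sum_mem _ fun i _ => hcon i
  have hyj : pr 𝒜 j y ∈ m ^ (p - 1) := hmp j hy
  obtain ⟨c, hc⟩ := hsoc' (pr 𝒜 j y * x) (fun z hz => by
    rw [← mul_assoc]
    refine hp _ ?_
    have : p = (p - 1) + 1 := by omega
    rw [this, pow_succ']
    exact Ideal.mul_mem_mul hz hyj)
  have hc1 : c ≠ 0 := by
    rintro rfl
    rw [zero_smul, sub_zero] at hc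
    exact hj hc
  have hdeg : j + i = s := by
    by_contra hne
    apply hj
    have h3 : pr 𝒜 (j + i) (pr 𝒜 j y * x - c • w) ∈ J := hJ _ hc
    rw [pr_sub, pr_of_mem (SetLike.mul_mem_graded (pr_mem j y) hx), Algebra.smul_def,
      pr_of_mem_ne (i := s) (j := j + i), sub_zero] at h3
    · exact h3
    · have := SetLike.mul_mem_graded (h.alg c) (pr_mem (ℳ := 𝒜) s t)
      rwa [zero_add] at this
    · exact Ne.symm hne
  refine ⟨c⁻¹ • pr 𝒜 j y, ?_, ?_⟩
  · rw [Algebra.smul_def]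
    have := SetLike.mul_mem_graded (h.alg c⁻¹) (pr_mem (ℳ := 𝒜) j y)
    have hj' : 0 + j = s - i := by omega
    rwa [hj'] at this
  · have h3 := J.mul_mem_left (algebraMap k R c⁻¹) hc
    rw [← Algebra.smul_def, smul_sub, smul_smul, inv_mul_cancel₀ hc1, one_smul] at h3
    rwa [mul_smul_comm, mul_comm x]

theorem ofList_ofFn {n : ℕ} (θ : Fin n → R) : Ideal.ofList (List.ofFn θ) = Ideal.span (Set.range θ) := by
  rw [Ideal.ofList]
  congr 1
  ext x
  simp [List.mem_ofFn]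

theorem isHomogeneous_span_range {n : ℕ} {θ : Fin n → R} {w : Fin n → ℤ} (hθ : ∀ i, θ i ∈ 𝒜 (w i)) :
    (Ideal.span (Set.range θ)).IsHomogeneous 𝒜 := by
  refine Ideal.homogeneous_span 𝒜 _ ?_
  rintro _ ⟨i, rfl⟩
  exact ⟨w i, hθ i⟩

theorem span_range_le (h : PosField k 𝒜 m) {n : ℕ} {θ : Fin n → R} {w : Fin n → ℤ}
    (hθ : ∀ i, θ i ∈ 𝒜 (w i)) (hw : ∀ i, 0 < w i) : Ideal.span (Set.range θ) ≤ m := by
  rw [Ideal.span_le]
  rintro _ ⟨i, rfl⟩
  exact h.mem_of_pos (hw i) (hθ i)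

/-- Gorenstein rings have homogeneous socle generators modulo parameters. -/
theorem exists_of_gorenstein [LocCoh.IsGorensteinRing R] (hdim : ringKrullDim R < ⊤) [Nontrivial R]
    (h : PosField k 𝒜 m) {n : ℕ} {θ : Fin n → R} {w : Fin n → ℤ}
    (hθ : ∀ i, θ i ∈ 𝒜 (w i)) (hw : ∀ i, 0 < w i) (hreg : IsWeaklyRegular R (List.ofFn θ)) {N : ℕ}
    (hN : m ^ N ≤ Ideal.span (Set.range θ)) : ∃ s t, SocP 𝒜 (Ideal.span (Set.range θ)) s t := by
  have h1 : FID R := (Groth.Agent.S0345.result R).mpr ⟨inferInstance, hdim⟩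
  have h2 := h1.quotient_ofList _ hreg
  rw [ofList_ofFn] at h2
  exact exists_of_FID h (isHomogeneous_span_range hθ) (span_range_le h hθ hw) hN h2

end K762.Soc
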