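import Groth.Agent.GrLC.K762.VerP
import Groth.Agent.GrLC.K763.Std
import Mathlib.RingTheory.FiniteType
import Mathlib.RingTheory.KrullDimension.Polynomial

/-!
# Standard graded rings
-/

set_option autoImplicit false
set_option linter.unusedSectionVars false
set_option linter.style.haveILetI false
universe u

open DirectSum GrLC

namespace K762.Std

open K762.Base K762.Nak K762.Reg K762.Param K762.Soc K762.Ht K762.Ext K762.Fld K762.AInv K762.Tower
  K762.Pair K762.Can K963.Iface K763.Ver RingTheory.Sequence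

variable {k : Type u} [Field k] {R : Type u} [CommRing R] [Algebra k R]
  {𝒜 : ℤ → AddSubgroup R} [GradedRing 𝒜] {m : Ideal R}

theorem pr_induction {i j : ℤ} (P : AddSubgroup R) (h : ∀ a ∈ 𝒜 i, ∀ b ∈ 𝒜 j, a * b ∈ P) {x : R}
    (hx : x ∈ K763.Std.pr 𝒜 i j) : x ∈ P := by
  have : K763.Std.pr 𝒜 i j ≤ P := by
    rw [K763.Std.pr, AddSubgroup.closure_le]
    rintro _ ⟨a, ha, b, hb, rfl⟩
    exact h a ha b hb
  exact this hx

variable (hstd : Ideal.span (⋃ n ∈ Set.Ioi (0 : ℤ), (𝒜 n : Set R)) =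
  Ideal.span ((𝒜 1 : AddSubgroup R) : Set R))

/-- If `R_ρ = k u` then `R_{ρ j} = k u ^ j`. -/
theorem pow_span (h : PosField k 𝒜 m) (hstd : Ideal.span (⋃ n ∈ Set.Ioi (0 : ℤ), (𝒜 n : Set R)) =
    Ideal.span ((𝒜 1 : AddSubgroup R) : Set R)) {ρ : ℤ} (hρ : 0 ≤ ρ) {u : R}
    (hu : ∀ x ∈ 𝒜 ρ, ∃ c : k, x = c • u) (j : ℕ) : ∀ x ∈ 𝒜 (ρ * j), ∃ c : k, x = c • u ^ j := by
  induction j with
  | zero =>
    intro x hx
    rw [Nat.cast_zero, mul_zero] at hx
    obtain ⟨c, hc⟩ := h.surj x hx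
    exact ⟨c, by rw [pow_zero, ← hc, Algebra.smul_def, mul_one]⟩
  | succ j ih =>
    intro x hx
    have hx' : x ∈ 𝒜 (ρ + ρ * j) := by
      rwa [Nat.cast_succ, mul_add, mul_one, add_comm] at hx
    have h1 := K763.Std.mem_pr 𝒜 hstd hρ (by positivity) hx'
    let P : AddSubgroup R :=
      { carrier := {x | ∃ c : k, x = c • u ^ (j + 1)}
        zero_mem' := ⟨0, by rw [zero_smul]⟩
        add_mem' := by
          rintro _ _ ⟨c, rfl⟩ ⟨c', rfl⟩
          exact ⟨c + c', by rw [add_smul]⟩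
        neg_mem' := by
          rintro _ ⟨c, rfl⟩
          exact ⟨-c, by rw [neg_smul]⟩ }
    refine pr_induction P ?_ h1
    intro a ha b hb
    obtain ⟨c, rfl⟩ := hu a ha
    obtain ⟨c', rfl⟩ := ih b hb
    exact ⟨c * c', by rw [smul_mul_smul_comm, pow_succ']⟩

/-- In a standard graded Cohen-Macaulay ring of positive dimension, if some piece of positive degree is of
dimension `≤ 1`, then so is `R_1`. -/
theorem piece_one (h : PosField k 𝒜 m) [LocCoh.IsCohenMacaulayRing R]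
    (hstd : Ideal.span (⋃ n ∈ Set.Ioi (0 : ℤ), (𝒜 n : Set R)) = Ideal.span ((𝒜 1 : AddSubgroup R) : Set R))
    {n : ℕ} (hn : ringKrullDim R = n) (hn1 : 1 ≤ n) {ρ : ℤ} (hρ : 0 < ρ) {u : R} (hum : u ∈ 𝒜 ρ)
    (hu : ∀ x ∈ 𝒜 ρ, ∃ c : k, x = c • u) : ∃ a ∈ 𝒜 1, ∀ x ∈ 𝒜 1, ∃ c : k, x = c • a := by
  have hnt := nontrivial_of_dim hn
  -- `u` is regular
  have hureg : ∀ y : R, u * y = 0 → y = 0 := by
    obtain ⟨D, hD, -, ⟨j, hj⟩, θ, hθ, -, hreg⟩ := exists_parameters h hn (q := ρ.toNat) (by omega) 0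
    rw [Int.toNat_of_nonneg hρ.le] at hj
    have hj0 : 0 < j := by
      rw [hj] at hD
      exact pos_of_mul_pos_right hD hρ.le
    obtain ⟨j, rfl⟩ := Int.eq_ofNat_of_zero_le hj0.le
    obtain ⟨c, hc⟩ := pow_span h hstd hρ.le hu j (θ ⟨0, hn1⟩) (by rw [← hj]; exact hθ _)
    have h1 := isWeaklyRegular_ofFn_iff.mp hreg ⟨0, hn1⟩
    intro y hy
    have h2 := h1 y (by
      obtain ⟨j, rfl⟩ : ∃ j', j = j' + 1 := ⟨j - 1, by omega⟩
      have h3 : θ ⟨0, hn1⟩ • y = 0 := by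
        rw [hc, smul_eq_mul, smul_mul_assoc, pow_succ, mul_assoc, hy, mul_zero, smul_zero]
      rw [h3]
      exact Submodule.zero_mem _)
    simp only [pre_zero, Submodule.bot_smul, Submodule.mem_bot] at h2
    exact h2
  have hu0 : u ≠ 0 := by
    rintro rfl
    exact one_ne_zero (hureg 1 (zero_mul _))
  -- a factor of degree one
  obtain ⟨a, ha, b, hb, hab⟩ : ∃ a ∈ 𝒜 1, ∃ b ∈ 𝒜 (ρ - 1), a * b ≠ 0 := by
    by_contra hcon
    push Not at hcon
    have h1 := K763.Std.mem_pr 𝒜 hstd (m := 1) (n := ρ - 1) (by omega) (by omega)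
      (by rwa [add_sub_cancel])
    have h2 := pr_induction (⊥ : AddSubgroup R) (fun a ha b hb => by
      rw [hcon a ha b hb]; exact AddSubgroup.zero_mem _) h1
    exact hu0 (by rwa [AddSubgroup.mem_bot] at h2)
  have hareg : ∀ y : R, a * y = 0 → y = 0 := by
    obtain ⟨c, hc⟩ := hu (a * b) (by
      have := SetLike.mul_mem_graded ha hb
      rwa [add_sub_cancel] at this)
    have hc0 : c ≠ 0 := by
      rintro rfl
      rw [zero_smul] at hc
      exact hab hc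
    intro y hy
    apply hureg
    have h1 : c • (u * y) = 0 := by
      rw [← smul_mul_assoc, ← hc, mul_assoc, mul_comm b y, ← mul_assoc, hy, zero_mul]
    have h2 : c⁻¹ • c • (u * y) = 0 := by rw [h1, smul_zero]
    rwa [smul_smul, inv_mul_cancel₀ hc0, one_smul] at h2
  have hpow : ∀ (j : ℕ) (y : R), a ^ j * y = 0 → y = 0 := by
    intro j
    induction j with
    | zero => intro y hy; rwa [pow_zero, one_mul] at hy
    | succ j ih =>
      intro y hy
      rw [pow_succ, mul_assoc] at hy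
      exact hareg _ (ih _ hy)
  obtain ⟨r, rfl⟩ := Int.eq_ofNat_of_zero_le hρ.le
  have hr : 1 ≤ r := by omega
  have hdeg : ∀ x ∈ 𝒜 1, a ^ (r - 1) * x ∈ 𝒜 (r : ℤ) := by
    intro x hx
    have h1 := SetLike.mul_mem_graded (SetLike.pow_mem_graded (r - 1) ha) hx
    have h2 : (r - 1) • (1 : ℤ) + 1 = r := by
      rw [nsmul_eq_mul, mul_one]
      omega
    rwa [h2] at h1
  obtain ⟨c₁, hc₁⟩ := hu _ (hdeg a ha)
  have hc₁0 : c₁ ≠ 0 := by
    rintro rfl
    rw [zero_smul] at hc₁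
    have h1 := hpow _ _ hc₁
    exact one_ne_zero (hareg 1 (by rw [h1, zero_mul]))
  refine ⟨a, ha, fun x hx => ?_⟩
  obtain ⟨c, hc⟩ := hu _ (hdeg x hx)
  refine ⟨c / c₁, ?_⟩
  rw [← sub_eq_zero]
  apply hpow (r - 1)
  rw [mul_sub, hc, mul_smul_comm, hc₁, smul_smul, div_mul_cancel₀ _ hc₁0, sub_self]

/-- Elements of the ideal of parameters of small degree vanish. -/
theorem eq_zero_of_mem (h : PosField k 𝒜 m) {n : ℕ} {θ : Fin n → R} {D : ℤ} (hθ : ∀ i, θ i ∈ 𝒜 D)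
    {ρ : ℤ} (hρ : ρ < D) {x : R} (hx : x ∈ 𝒜 ρ) (hxJ : x ∈ Ideal.span (Set.range θ)) : x = 0 := by
  have h1 : x ∈ (Ideal.span (Set.range θ) • ⊤ : Submodule R R) := by
    rwa [smul_eq_mul, Ideal.mul_top]
  obtain ⟨z, hz⟩ := (mem_span_range_smul_top (M := R) θ).mp h1
  rw [← pr_of_mem hx, hz, pr_sum]
  refine Finset.sum_eq_zero fun i _ => ?_
  rw [pr_smul (𝒜 := 𝒜) (hθ i), h.pos (ρ - D) (by omega) _ (pr_mem _ _), smul_zero]

/-- The Krull dimension is finite. -/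
theorem dim_lt_top (h : PosField k 𝒜 m) [IsNoetherianRing R] {n : ℕ} {θ : Fin n → R} {w : Fin n → ℤ}
    (hθ : ∀ i, θ i ∈ 𝒜 (w i)) (hw : ∀ i, 0 < w i) {N : ℕ} (hN : m ^ N ≤ Ideal.span (Set.range θ)) :
    ringKrullDim R < ⊤ := by
  have hft := finiteType h hθ hw hN
  obtain ⟨r, f, hf⟩ := Algebra.FiniteType.iff_quotient_mvPolynomial''.mp hft
  refine (ringKrullDim_le_of_surjective f.toRingHom hf).trans_lt ?_
  rw [MvPolynomial.ringKrullDim_of_isNoetherianRing, ringKrullDim_eq_zero_of_field, zero_add]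
  exact WithBot.coe_lt_coe.mpr (WithTop.coe_lt_top _)

end K762.Std
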