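import Groth.Agent.GrLC.K762.Reg
import Groth.Agent.GrLC.K963.Iface
import Groth.Agent.GrLC.K761.GrSub

/-!
# Graded local cohomology and homogeneous regular sequences
-/

set_option autoImplicit false
set_option linter.unusedSectionVars false
set_option linter.style.haveILetI false
universe u

open DirectSum GrLC
open scoped Pointwise

namespace K762.Tower

open K762.Base K762.Nak K762.Reg K963.Iface RingTheory.Sequence

variable {ι : Type} [AddCommGroup ι] [DecidableEq ι]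
variable {R : Type u} [CommRing R] {σ : Type u} [SetLike σ R] [AddSubgroupClass σ R]
variable {𝒜 : ι → σ} [GradedRing 𝒜]
variable {M : Type u} [AddCommGroup M] [Module R M] {τ : Type u} [SetLike τ M] [AddSubgroupClass τ M]
  {ℳ : ι → τ} [DirectSum.Decomposition ℳ] [SetLike.GradedSMul 𝒜 ℳ]
variable {N : Type u} [AddCommGroup N] [Module R N] {τN : Type u} [SetLike τN N] [AddSubgroupClass τN N]
  {𝒩 : ι → τN} [DirectSum.Decomposition 𝒩] [SetLike.GradedSMul 𝒜 𝒩]

theorem eq_zero_of_torsion {a : HomogeneousIdeal 𝒜} (E : StarInjRes 𝒜 ℳ) (i : ℕ) {x : R}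
    (hxa : x ∈ a.toIdeal) (hinj : ∀ y : E.H a i, x • y = 0 → y = 0) (y : E.H a i) : y = 0 := by
  have hpow : ∀ (n : ℕ) (y : E.H a i), x ^ n • y = 0 → y = 0 := by
    intro n
    induction n with
    | zero => intro y hy; rwa [pow_zero, one_smul] at hy
    | succ n ih =>
      intro y hy
      rw [pow_succ', mul_smul] at hy
      exact ih y (hinj _ hy)
  have hy : y ∈ gam a.toIdeal (E.H a i) := by rw [gam_H]; exact Submodule.mem_top
  obtain ⟨n, hn⟩ := hy
  exact hpow n y (hn _ (Ideal.pow_mem_pow hxa n))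

/-- One step: `0 → M → M → N → 0` given by a regular element. -/
theorem step {a : HomogeneousIdeal 𝒜} {x : R} {d : ι} (hx : x ∈ 𝒜 d) (hxa : x ∈ a.toIdeal)
    (hreg : IsSMulRegular M x) (π : M →ₗ[R] N) (hπ : IsGrHomDeg ℳ 𝒩 π 0) (hπs : Function.Surjective π)
    (hπk : ∀ y, π y = 0 ↔ ∃ z, x • z = y) (E : StarInjRes 𝒜 ℳ) (F : StarInjRes 𝒜 𝒩) {e : ℕ}
    (hF : ∀ i, i ≠ e → Subsingleton (F.H a i)) :
    (∀ i, i ≠ e + 1 → Subsingleton (E.H a i)) ∧
    ∃ δ : F.H a e →ₗ[R] E.H a (e + 1), Function.Injective δ ∧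
      (∀ y, y ∈ LinearMap.range δ ↔ x • y = 0) ∧
      (∀ g y, y ∈ F.Hcomp a e g → δ y ∈ E.Hcomp a (e + 1) (g - d)) ∧
      (∀ y : E.H a (e + 1), ∃ z, x • z = y) := by
  have hd : IsGrHomDeg ℳ ℳ (x • (LinearMap.id : M →ₗ[R] M)) d := isGrHomDeg_smul_id hx
  obtain ⟨δ, hδ, h0, hex1, hex2, hex3⟩ := les E E F a (f := x • (LinearMap.id : M →ₗ[R] M)) (g := π) hd hπ
    (fun y z hyz => hreg hyz) (fun y => ⟨fun hy => by
      obtain ⟨z, hz⟩ := (hπk y).mp hy
      exact ⟨z, hz⟩, fun hy => by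
      obtain ⟨z, hz⟩ := hy
      exact (hπk y).mpr ⟨z, hz⟩⟩) hπs
  have hsm : ∀ i (y : E.H a i), Hmap E E a i (x • LinearMap.id) hd y = x • y := fun i y =>
    Hmap_smul_id E a i hx hd y
  have hvan : ∀ i, i ≠ e + 1 → Subsingleton (E.H a i) := by
    intro i hi
    have h0' : ∀ y : E.H a i, y = 0 := by
      refine eq_zero_of_torsion E i hxa ?_
      rcases i with _ | i
      · intro y hy
        apply h0
        rw [hsm, map_zero, hy]
      · intro y hy
        have := hF i (by omega)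
        obtain ⟨z, rfl⟩ := (hex3 i y).mp (by rw [hsm, hy])
        rw [Subsingleton.elim z 0, map_zero]
    exact ⟨fun y z => (h0' y).trans (h0' z).symm⟩
  refine ⟨hvan, δ e, ?_, ?_, ?_, ?_⟩
  · rw [injective_iff_map_eq_zero]
    intro y hy
    obtain ⟨z, rfl⟩ := (hex2 e y).mp hy
    have := hvan e (by omega)
    rw [Subsingleton.elim z 0, map_zero]
  · intro y
    rw [← hsm]
    exact (hex3 e y).symm
  · intro g y hy
    have := hδ e g y hy
    rwa [sub_zero] at this
  · intro y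
    have := hF (e + 1) (by omega)
    obtain ⟨z, hz⟩ := (hex1 (e + 1) y).mp (Subsingleton.elim _ _)
    exact ⟨z, by rw [← hsm, hz]⟩

/-- The main theorem on local cohomology of a graded module with a homogeneous regular sequence `θ` such
that `M / θ M` is torsion. -/
theorem tower [IsNoetherianRing R] (a : HomogeneousIdeal 𝒜) (n : ℕ) : ∀ {M : Type u} [AddCommGroup M] [Module R M]
    {τ : Type u} [SetLike τ M] [AddSubgroupClass τ M] {ℳ : ι → τ} [DirectSum.Decomposition ℳ]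
    [SetLike.GradedSMul 𝒜 ℳ] (θ : Fin n → R) (w : Fin n → ι) (_ : ∀ i, θ i ∈ 𝒜 (w i))
    (_ : ∀ i, θ i ∈ a.toIdeal) (_ : IsWeaklyRegular M (List.ofFn θ))
    (_ : ∀ x : M, ∃ N : ℕ, ∀ r ∈ a.toIdeal ^ N, r • x ∈ (Ideal.span (Set.range θ) • ⊤ : Submodule R M))
    (E : StarInjRes 𝒜 ℳ),
    (∀ i, i ≠ n → Subsingleton (E.H a i)) ∧
    ∃ ψ : M →ₗ[R] E.H a n, LinearMap.ker ψ = Ideal.span (Set.range θ) • ⊤ ∧
      (∀ y, y ∈ LinearMap.range ψ ↔ ∀ i, θ i • y = 0) ∧
      (∀ g x, x ∈ ℳ g → ψ x ∈ E.Hcomp a n (g - ∑ i, w i)) ∧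
      (∀ i : Fin n, ∀ y : E.H a n, (∀ j < i, θ j • y = 0) → ∃ z, (∀ j < i, θ j • z = 0) ∧ θ i • z = y) := by
  induction n with
  | zero =>
    intro M _ _ τ _ _ ℳ _ _ θ w hθ hθa hreg htor E
    have hbot : (Ideal.span (Set.range θ) • ⊤ : Submodule R M) = ⊥ := by
      rw [Set.range_eq_empty, Ideal.span_empty, Submodule.bot_smul]
    have hgam : gam a.toIdeal M = ⊤ := by
      rw [eq_top_iff]
      intro x _
      obtain ⟨N, hN⟩ := htor x
      refine ⟨N, fun r hr => ?_⟩
      have := hN r hr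
      rwa [hbot, Submodule.mem_bot] at this
    refine ⟨fun i hi => H_subsingleton_of_torsion E a i hgam (Nat.pos_of_ne_zero hi), ?_⟩
    refine ⟨(H0equiv E a).toLinearMap ∘ₗ (LinearMap.codRestrict (gam a.toIdeal M) LinearMap.id
      (fun x => by rw [hgam]; exact Submodule.mem_top)), ?_, ?_, ?_, fun i => i.elim0⟩
    · rw [hbot, LinearMap.ker_eq_bot]
      refine (H0equiv E a).injective.comp fun x y hxy => ?_
      exact congrArg Subtype.val hxy
    · intro y
      refine ⟨fun _ i => i.elim0, fun _ => ?_⟩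
      obtain ⟨x, rfl⟩ := (H0equiv E a).surjective y
      exact ⟨x.1, rfl⟩
    · intro g x hx
      rw [Finset.univ_eq_empty, Finset.sum_empty, sub_zero]
      exact (H0equiv_mem_iff E a _ g).mpr hx
  | succ n ih =>
    intro M _ _ τ _ _ ℳ _ _ θ w hθ hθa hreg htor E
    rw [List.ofFn_succ, isWeaklyRegular_cons_iff] at hreg
    obtain ⟨hreg0, hreg'⟩ := hreg
    -- the quotient
    let K : Submodule R M := θ 0 • ⊤
    have hKmem : ∀ y, y ∈ K ↔ ∃ z, θ 0 • z = y := fun y => by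
      constructor
      · intro hy
        obtain ⟨z, -, hz⟩ := (Submodule.mem_smul_pointwise_iff_exists _ _ _).mp hy
        exact ⟨z, hz⟩
      · rintro ⟨z, rfl⟩
        exact Submodule.smul_mem_pointwise_smul _ _ _ Submodule.mem_top
    have hK : K.IsHomogeneous ℳ := by
      rw [isHomogeneous_iff]
      intro i y hy
      obtain ⟨z, rfl⟩ := (hKmem y).mp hy
      rw [pr_smul (𝒜 := 𝒜) (hθ 0)]
      exact (hKmem _).mpr ⟨_, rfl⟩
    letI := K761.Gr.quoDec ℳ hK
    letI := K761.Gr.quoGSMul 𝒜 ℳ K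
    obtain ⟨F⟩ := nonempty_res 𝒜 (K761.Gr.quoGr ℳ K)
    have hspan : ∀ x : M, K.mkQ x ∈ (Ideal.span (Set.range fun i : Fin n => θ i.succ) • ⊤ : Submodule R (M ⧸ K)) ↔
        x ∈ (Ideal.span (Set.range θ) • ⊤ : Submodule R M) := by
      intro x
      rw [mem_span_range_smul_top, mem_span_range_smul_top]
      constructor
      · rintro ⟨z, hz⟩
        choose z' hz' using fun i => K.mkQ_surjective (z i)
        have h1 : x - ∑ i : Fin n, θ i.succ • z' i ∈ K := by
          rw [← Submodule.ker_mkQ K, LinearMap.mem_ker, map_sub, hz, map_sum, sub_eq_zero]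
          exact Finset.sum_congr rfl fun i _ => by rw [map_smul, hz']
        obtain ⟨z0, hz0⟩ := (hKmem _).mp h1
        refine ⟨Fin.cons z0 z', ?_⟩
        rw [Fin.sum_univ_succ, Fin.cons_zero, hz0]
        simp only [Fin.cons_succ, sub_add_cancel]
      · rintro ⟨z, rfl⟩
        refine ⟨fun i => K.mkQ (z i.succ), ?_⟩
        rw [Fin.sum_univ_succ, map_add, map_sum]
        have h1 : K.mkQ (θ 0 • z 0) = 0 := by
          rw [← LinearMap.mem_ker, Submodule.ker_mkQ]
          exact (hKmem _).mpr ⟨_, rfl⟩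
        rw [h1, zero_add]
        exact Finset.sum_congr rfl fun i _ => by rw [map_smul]
    obtain ⟨hvan, ψ, hψk, hψr, hψd, hψc⟩ := ih (M := M ⧸ K) (ℳ := K761.Gr.quoGr ℳ K) (fun i => θ i.succ)
      (fun i => w i.succ) (fun i => hθ i.succ) (fun i => hθa i.succ) hreg' (fun q => by
        obtain ⟨x, rfl⟩ := K.mkQ_surjective q
        obtain ⟨N, hN⟩ := htor x
        refine ⟨N, fun r hr => ?_⟩
        rw [← map_smul, hspan]
        exact hN r hr) F
    obtain ⟨hvan', δ, hδi, hδr, hδd, hδs⟩ := step (hθ 0) (hθa 0) hreg0 K.mkQ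
      (fun g x hx => by rw [add_zero]; exact ⟨x, hx, rfl⟩) K.mkQ_surjective
      (fun y => by rw [← LinearMap.mem_ker, Submodule.ker_mkQ]; exact hKmem y) E F hvan
    refine ⟨hvan', δ ∘ₗ ψ ∘ₗ K.mkQ, ?_, ?_, ?_, ?_⟩
    · ext x
      rw [LinearMap.mem_ker, LinearMap.comp_apply, LinearMap.comp_apply, ← map_zero δ, hδi.eq_iff,
        ← LinearMap.mem_ker, hψk, hspan]
    · intro y
      constructor
      · rintro ⟨x, rfl⟩ i
        refine Fin.cases ?_ (fun i => ?_) i
        · exact (hδr _).mp ⟨_, rfl⟩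
        · have := (hψr _).mp ⟨K.mkQ x, rfl⟩ i
          rw [LinearMap.comp_apply, LinearMap.comp_apply, ← map_smul, this, map_zero]
      · intro hy
        obtain ⟨y', rfl⟩ := (hδr y).mpr (hy 0)
        have h1 : ∀ i : Fin n, θ i.succ • y' = 0 := by
          intro i
          apply hδi
          rw [map_smul, hy i.succ, map_zero]
        obtain ⟨q, rfl⟩ := (hψr y').mpr h1
        obtain ⟨x, rfl⟩ := K.mkQ_surjective q
        exact ⟨x, rfl⟩
    · intro g x hx
      have h1 := hδd _ _ (hψd g (K.mkQ x) ⟨x, hx, rfl⟩)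
      have h2 : g - ∑ i : Fin n, w i.succ - w 0 = g - ∑ i, w i := by
        rw [Fin.sum_univ_succ, sub_sub, add_comm]
      rw [← h2]
      exact h1
    · intro i y hy
      rcases Fin.eq_zero_or_eq_succ i with rfl | ⟨j, rfl⟩
      · obtain ⟨z, hz⟩ := hδs y
        exact ⟨z, fun j hj => absurd hj (Fin.not_lt_zero j), hz⟩
      · obtain ⟨y', rfl⟩ := (hδr y).mpr (hy 0 (Fin.succ_pos j))
        obtain ⟨z', hz', hz''⟩ := hψc j y' (fun l hl => by
          apply hδi
          rw [map_smul, hy l.succ (Fin.succ_lt_succ_iff.mpr hl), map_zero])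
        refine ⟨δ z', fun l hl => ?_, by rw [← map_smul, hz'']⟩
        rcases Fin.eq_zero_or_eq_succ l with rfl | ⟨l', rfl⟩
        · exact (hδr _).mp ⟨_, rfl⟩
        · rw [← map_smul, hz' l' (Fin.succ_lt_succ_iff.mp hl), map_zero]

end K762.Tower
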