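import Groth.Agent.GrLC.K762.Std
import Mathlib.RingTheory.MvPolynomial.Ideal

/-!
# A Gorenstein Veronese subring of a standard graded Cohen-Macaulay ring of dimension `≥ 2`
-/

set_option autoImplicit false
set_option linter.unusedSectionVars false
set_option linter.style.haveILetI false
universe u

open DirectSum GrLC MvPolynomial

namespace K762.VerGor

open K762.Base K762.Nak K762.Reg K762.Param K762.Soc K762.Ht K762.Ext K762.Fld K762.Bas
  K762.Pair K762.VerP K762.Std K763.Ver RingTheory.Sequence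

variable {K : Type u} [Field K] {R : Type u} [CommRing R] [Algebra K R]
  {𝒜 : ℤ → AddSubgroup R} [GradedRing 𝒜] {R' : Type u} [CommRing R'] [Algebra K R']
  {𝒜' : ℤ → AddSubgroup R'} [GradedRing 𝒜'] {φ : R' →+* R} {q : ℕ} {m : Ideal R}
  {n : ℕ} {θ' : Fin n → R'} {d' : ℤ}

section Basic

theorem pr_cut_of (y : R) {l : ℤ} (hl : (q : ℤ) ∣ l) : pr 𝒜 l (cut 𝒜 q y) = pr 𝒜 l y := by
  have h := proj_cut 𝒜 q l y
  rw [if_pos hl] at h
  exact h

theorem pr_cut_of_not (y : R) {l : ℤ} (hl : ¬ (q : ℤ) ∣ l) : pr 𝒜 l (cut 𝒜 q y) = 0 := by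
  have h := proj_cut 𝒜 q l y
  rw [if_neg hl] at h
  exact h

theorem pr_phi (D : Data 𝒜 𝒜' φ q) (y : R') {l : ℤ} (hl : ¬ (q : ℤ) ∣ l) : pr 𝒜 l (φ y) = 0 := by
  rw [← D.cut_apply y]
  exact pr_cut_of_not _ hl

theorem retr_eq_zero (D : Data 𝒜 𝒜' φ q) {y : R} (hy : ∀ l, (q : ℤ) ∣ l → pr 𝒜 l y = 0) :
    D.isVer.retr y = 0 := by
  apply D.inj
  have h1 : φ (D.isVer.retr y) = cut 𝒜 q y := D.isVer.map_retr y
  rw [h1, map_zero]
  refine eq_zero_of_pr (ℳ := 𝒜) fun l => ?_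
  by_cases hl : (q : ℤ) ∣ l
  · rw [pr_cut_of _ hl]
    exact hy l hl
  · exact pr_cut_of_not _ hl

theorem pr_of_retr_eq_zero (D : Data 𝒜 𝒜' φ q) {y : R} (hy : D.isVer.retr y = 0) {l : ℤ}
    (hl : (q : ℤ) ∣ l) : pr 𝒜 l y = 0 := by
  have h1 : φ (D.isVer.retr y) = cut 𝒜 q y := D.isVer.map_retr y
  rw [← pr_cut_of y hl, ← h1, hy, map_zero, pr_zero]

/-- Pieces of small degree have trivial annihilator. -/
theorem eq_zero_of_forall
    (hstd : Ideal.span (⋃ n ∈ Set.Ioi (0 : ℤ), (𝒜 n : Set R)) = Ideal.span ((𝒜 1 : AddSubgroup R) : Set R))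
    {t : R} {d : ℤ} (ht : t ∈ 𝒜 d) (htreg : ∀ y : R, t * y = 0 → y = 0) {j : ℤ} (hj : 0 ≤ j) (hjd : j ≤ d)
    {x : R} (hx : ∀ z ∈ 𝒜 j, z * x = 0) : x = 0 := by
  apply htreg
  have h1 := K763.Std.mem_pr 𝒜 hstd (m := j) (n := d - j) hj (by omega)
    (x := t) (by rwa [add_sub_cancel])
  exact pr_induction
    { carrier := {y | y * x = 0}
      zero_mem' := zero_mul _
      add_mem' := fun {a b} ha hb => by
        change (a + b) * x = 0
        rw [add_mul, ha, hb, add_zero]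
      neg_mem' := fun {a} ha => by
        change -a * x = 0
        rw [neg_mul, ha, neg_zero] }
    (fun a ha b _ => by
      change a * b * x = 0
      rw [mul_right_comm, hx a ha, zero_mul]) h1

end Basic

section Lam

variable [Algebra (MvPolynomial (Fin n) K) R] [Algebra (MvPolynomial (Fin n) K) R']

/-- The retraction as an `A`-linear map. -/
noncomputable def retrA (D : Data 𝒜 𝒜' φ q)
    (hφA : ∀ P, φ (algebraMap (MvPolynomial (Fin n) K) R' P) = algebraMap (MvPolynomial (Fin n) K) R P) :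
    R →ₗ[MvPolynomial (Fin n) K] R' where
  toFun := D.isVer.retr
  map_add' := D.isVer.retr_add
  map_smul' P y := by
    rw [Algebra.smul_def, ← hφA, ← smul_eq_mul, D.retr_smul D.isVer, RingHom.id_apply, smul_eq_mul,
      ← Algebra.smul_def]

variable (D : Data 𝒜 𝒜' φ q)
    (hφA : ∀ P, φ (algebraMap (MvPolynomial (Fin n) K) R' P) = algebraMap (MvPolynomial (Fin n) K) R P)
    (Λ' : R' →ₗ[MvPolynomial (Fin n) K] MvPolynomial (Fin n) K)
    (hΛ1 : ∀ f : R' →ₗ[MvPolynomial (Fin n) K] MvPolynomial (Fin n) K, ∃ g, ∀ y, f y = Λ' (y * g))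
    (hΛ2 : ∀ g, (∀ y, Λ' (y * g) = 0) → g = 0)
    (hstd : Ideal.span (⋃ n ∈ Set.Ioi (0 : ℤ), (𝒜 n : Set R)) = Ideal.span ((𝒜 1 : AddSubgroup R) : Set R))

include hΛ1 hΛ2 hstd in
/-- Surjectivity. -/
theorem exists_eq_mul {t₀ t₁ : R} {d : ℤ} (hqd : (q : ℤ) ≤ d) (ht₀ : t₀ ∈ 𝒜 d) (ht₁ : t₁ ∈ 𝒜 d)
    (hreg₀ : ∀ y : R, t₀ * y = 0 → y = 0) (hreg₁ : ∀ y : R, (∃ z, t₁ * y = t₀ * z) → ∃ z, y = t₀ * z)
    (f : R →ₗ[MvPolynomial (Fin n) K] MvPolynomial (Fin n) K) (c : ℤ)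
    (hf : ∀ i, ¬ (q : ℤ) ∣ i - c → ∀ r ∈ 𝒜 i, f r = 0) :
    ∃ x : R, ∀ r, f r = Λ' (retrA D hφA (r * x)) := by
  have hq : (0 : ℤ) < q := by exact_mod_cast D.pos
  -- the maps `g`
  have hga : ∀ a : R, ∃ g : R', ∀ y, f (φ y * a) = Λ' (y * g) := by
    intro a
    let F : R' →ₗ[MvPolynomial (Fin n) K] MvPolynomial (Fin n) K :=
      { toFun := fun y => f (φ y * a)
        map_add' := fun y z => by rw [map_add, add_mul, map_add]
        map_smul' := fun P y => by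
          rw [Algebra.smul_def, map_mul φ, hφA, mul_assoc, ← Algebra.smul_def, map_smul, RingHom.id_apply] }
    exact hΛ1 F
  choose g hg using hga
  have hguniq : ∀ a g', (∀ y, f (φ y * a) = Λ' (y * g')) → g a = g' := by
    intro a g' h1
    rw [← sub_eq_zero]
    apply hΛ2
    intro y
    rw [mul_sub, map_sub, ← hg, ← h1, sub_self]
  have hgmul : ∀ (z : R') (a : R), g (φ z * a) = z * g a := by
    intro z a
    apply hguniq
    intro y
    rw [← mul_assoc, ← map_mul, hg, mul_assoc]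
  -- residues
  obtain ⟨j₀, hj₀, hj₀q, hj₀c⟩ : ∃ j₀ : ℤ, 0 ≤ j₀ ∧ j₀ < q ∧ (q : ℤ) ∣ j₀ - c :=
    ⟨c % q, Int.emod_nonneg _ hq.ne', Int.emod_lt_of_pos _ hq, by
      have := Int.emod_add_mul_ediv c q
      exact ⟨-(c / q), by linarith [this]⟩⟩
  obtain ⟨j₁, hj₁, hj₁q, hj₁c⟩ : ∃ j₁ : ℤ, 0 ≤ j₁ ∧ j₁ < q ∧ (q : ℤ) ∣ j₁ + c :=
    ⟨(-c) % q, Int.emod_nonneg _ hq.ne', Int.emod_lt_of_pos _ hq, by
      have := Int.emod_add_mul_ediv (-c) q
      exact ⟨-(-c / q), by linarith [this]⟩⟩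
  have hT : ∀ {j : ℤ}, 0 ≤ j → j < q → ∀ {x : R}, (∀ z ∈ 𝒜 j, z * x = 0) → x = 0 := fun {j} hj hjq {x} hx =>
    eq_zero_of_forall hstd ht₀ hreg₀ hj (by omega) hx
  -- the relation
  have hrel : ∀ i, (q : ℤ) ∣ i - c → ∀ a ∈ 𝒜 i, ∀ i', (q : ℤ) ∣ i' - c → ∀ b ∈ 𝒜 i',
      a * φ (g b) = b * φ (g a) := by
    intro i hi a ha i' hi' b hb
    rw [← sub_eq_zero]
    refine hT hj₁ hj₁q fun z hz => ?_
    have h1 : (q : ℤ) ∣ j₁ + i := by
      have := dvd_add hj₁c hi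
      rwa [add_add_sub_cancel] at this
    have h2 : (q : ℤ) ∣ j₁ + i' := by
      have := dvd_add hj₁c hi'
      rwa [add_add_sub_cancel] at this
    obtain ⟨e, he⟩ := h1
    obtain ⟨e', he'⟩ := h2
    obtain ⟨u, -, hu⟩ := D.exists_eq (j := e) (y := z * a) (by
      rw [mul_comm e, ← he]; exact SetLike.mul_mem_graded hz ha)
    obtain ⟨v, -, hv⟩ := D.exists_eq (j := e') (y := z * b) (by
      rw [mul_comm e', ← he']; exact SetLike.mul_mem_graded hz hb)
    have h3 : u * g b = v * g a := by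
      rw [← hgmul, ← hgmul, hu, hv]
      congr 1
      ring
    have h4 := congrArg φ h3
    rw [map_mul, map_mul, hu, hv] at h4
    rw [mul_sub, ← mul_assoc, ← mul_assoc, h4, sub_self]
  -- the elements `G`
  have hW : ∀ t ∈ 𝒜 d, ∃ G : R, ∀ i, (q : ℤ) ∣ i - c → ∀ a ∈ 𝒜 i, a * G = t * φ (g a) := by
    intro t ht
    have h1 := K763.Std.mem_pr 𝒜 hstd (m := j₀) (n := d - j₀) hj₀ (by omega)
      (x := t) (by rwa [add_sub_cancel])
    exact pr_induction
      { carrier := {t | ∃ G : R, ∀ i, (q : ℤ) ∣ i - c → ∀ a ∈ 𝒜 i, a * G = t * φ (g a)}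
        zero_mem' := ⟨0, fun i _ a _ => by rw [mul_zero, zero_mul]⟩
        add_mem' := by
          rintro t t' ⟨G, hG⟩ ⟨G', hG'⟩
          exact ⟨G + G', fun i hi a ha => by rw [mul_add, add_mul, hG i hi a ha, hG' i hi a ha]⟩
        neg_mem' := by
          rintro t ⟨G, hG⟩
          exact ⟨-G, fun i hi a ha => by rw [mul_neg, neg_mul, hG i hi a ha]⟩ }
      (fun b hb b' _ => ⟨b' * φ (g b), fun i hi a ha => by
        rw [mul_left_comm, hrel i hi a ha j₀ hj₀c b hb]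
        ring⟩) h1
  obtain ⟨G₀, hG₀⟩ := hW t₀ ht₀
  obtain ⟨G₁, hG₁⟩ := hW t₁ ht₁
  have hGG : t₁ * G₀ = t₀ * G₁ := by
    rw [← sub_eq_zero]
    refine hT hj₀ hj₀q fun z hz => ?_
    have h1 := hG₀ j₀ hj₀c z hz
    have h2 := hG₁ j₀ hj₀c z hz
    have h3 : z * (t₁ * G₀ - t₀ * G₁) = t₁ * (z * G₀) - t₀ * (z * G₁) := by ring
    rw [h3, h1, h2]
    ring
  obtain ⟨x, hx⟩ := hreg₁ G₀ ⟨G₁, hGG⟩
  have hax : ∀ i, (q : ℤ) ∣ i - c → ∀ a ∈ 𝒜 i, a * x = φ (g a) := by
    intro i hi a ha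
    rw [← sub_eq_zero]
    apply hreg₀
    rw [mul_sub, ← hG₀ i hi a ha, hx]
    ring
  have hxl : ∀ l, ¬ (q : ℤ) ∣ l + c → pr 𝒜 l x = 0 := by
    intro l hl
    refine hT hj₀ hj₀q fun z hz => ?_
    have h1 : pr 𝒜 (j₀ + l) (z * x) = z * pr 𝒜 l x := by
      have := pr_smul (𝒜 := 𝒜) (ℳ := 𝒜) hz (j₀ + l) x
      rwa [add_sub_cancel_left] at this
    rw [← h1, hax j₀ hj₀c z hz]
    apply pr_phi D
    intro h2
    apply hl
    have := dvd_sub h2 hj₀c
    have h3 : j₀ + l - (j₀ - c) = l + c := by ring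
    rwa [h3] at this
  refine ⟨x, fun r => ?_⟩
  -- reduction to homogeneous `r`
  suffices H : ∀ i, ∀ r ∈ 𝒜 i, f r = Λ' (retrA D hφA (r * x)) by
    obtain ⟨s, hs⟩ := exists_sum_pr (ℳ := 𝒜) r
    rw [← hs, map_sum, Finset.sum_mul, map_sum, map_sum]
    exact Finset.sum_congr rfl fun i _ => H i _ (pr_mem i r)
  intro i r hr
  by_cases hi : (q : ℤ) ∣ i - c
  · have h1 : retrA D hφA (r * x) = g r := by
      rw [hax i hi r hr]
      exact D.isVer.retr_map (g r)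
    have h2 := hg r 1
    rw [map_one, one_mul, one_mul] at h2
    rw [h1, h2]
  · rw [hf i hi r hr]
    have h1 : retrA D hφA (r * x) = 0 := by
      refine retr_eq_zero D fun l hl => ?_
      have h2 : pr 𝒜 l (r * x) = r * pr 𝒜 (l - i) x := pr_smul (𝒜 := 𝒜) (ℳ := 𝒜) hr l x
      rw [h2, hxl, mul_zero]
      intro h3
      apply hi
      have := dvd_sub hl h3
      have h4 : l - (l - i + c) = i - c := by ring
      rwa [h4] at this
    rw [h1, map_zero]

include hΛ2 hstd in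
/-- Injectivity. -/
theorem eq_zero_of_retr {t₀ : R} {d : ℤ} (hqd : (q : ℤ) ≤ d) (ht₀ : t₀ ∈ 𝒜 d)
    (hreg₀ : ∀ y : R, t₀ * y = 0 → y = 0) {x : R} (hx : ∀ r, Λ' (retrA D hφA (r * x)) = 0) : x = 0 := by
  have hq : (0 : ℤ) < q := by exact_mod_cast D.pos
  refine eq_zero_of_pr (ℳ := 𝒜) fun l => ?_
  obtain ⟨j, hj, hjq, hjl⟩ : ∃ j : ℤ, 0 ≤ j ∧ j < q ∧ (q : ℤ) ∣ j + l :=
    ⟨(-l) % q, Int.emod_nonneg _ hq.ne', Int.emod_lt_of_pos _ hq, by
      have := Int.emod_add_mul_ediv (-l) q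
      exact ⟨-(-l / q), by linarith [this]⟩⟩
  refine eq_zero_of_forall hstd ht₀ hreg₀ hj (by omega) fun z hz => ?_
  have h1 : D.isVer.retr (z * x) = 0 := by
    apply hΛ2
    intro y
    have h2 : D.isVer.retr (φ y • (z * x)) = y • D.isVer.retr (z * x) := D.retr_smul D.isVer y (z * x)
    rw [smul_eq_mul, smul_eq_mul, ← mul_assoc] at h2
    rw [← h2]
    exact hx (φ y * z)
  have h2 := pr_of_retr_eq_zero D h1 hjl
  have h3 : pr 𝒜 (j + l) (z * x) = z * pr 𝒜 l x := by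
    have := pr_smul (𝒜 := 𝒜) (ℳ := 𝒜) hz (j + l) x
    rwa [add_sub_cancel_left] at this
  rw [← h3, h2]

end Lam

section Main

theorem exists_X_decomp (P : MvPolynomial (Fin n) K) (hP : constantCoeff P = 0) :
    ∃ Q : Fin n → MvPolynomial (Fin n) K, P = ∑ i, X i * Q i := by
  have h1 : P ∈ Ideal.span (Set.range (X : Fin n → MvPolynomial (Fin n) K)) := by
    rw [← Set.image_univ, mem_ideal_span_X_image]
    intro e he
    have he0 : e ≠ 0 := by
      rintro rfl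
      rw [mem_support_iff] at he
      exact he hP
    obtain ⟨j, hj⟩ := Finsupp.ne_iff.mp he0
    exact ⟨j, Set.mem_univ j, hj⟩
  have h2 : P ∈ (Ideal.span (Set.range (X : Fin n → MvPolynomial (Fin n) K)) • ⊤ :
      Submodule (MvPolynomial (Fin n) K) (MvPolynomial (Fin n) K)) := by
    rwa [smul_eq_mul, Ideal.mul_top]
  obtain ⟨z, hz⟩ := (mem_span_range_smul_top (M := MvPolynomial (Fin n) K) _).mp h2
  exact ⟨z, hz⟩

/-- The main theorem. -/
theorem canPair_of_ver (D : Data 𝒜 𝒜' φ q) (hφK : ∀ c, φ (algebraMap K R' c) = algebraMap K R c)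
    (h : PosField K 𝒜 m) {m' : Ideal R'} (h' : PosField K 𝒜' m')
    (hstd : Ideal.span (⋃ n ∈ Set.Ioi (0 : ℤ), (𝒜 n : Set R)) = Ideal.span ((𝒜 1 : AddSubgroup R) : Set R))
    (hn2 : 2 ≤ n) (hd' : 0 < d') (hθ' : ∀ i, θ' i ∈ 𝒜' d') (hR : IsParam K 𝒜 (fun i => φ (θ' i)))
    (hR' : IsParam K 𝒜' θ') {s' : ℤ} {lam' : R' →ₗ[K] K}
    (hp' : CanPair K 𝒜' 𝒜' (Ideal.span (Set.range θ')) s' lam') :
    ∃ lam : R →ₗ[K] K, CanPair K 𝒜 𝒜 (Ideal.span (Set.range fun i => φ (θ' i))) (s' * q) lam := by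
  classical
  have hq : (0 : ℤ) < q := by exact_mod_cast D.pos
  have hqd : (q : ℤ) ≤ d' * q := by nlinarith
  have hd : 0 < d' * q := mul_pos hd' hq
  have hθ : ∀ i, φ (θ' i) ∈ 𝒜 (d' * q) := fun i => D.map_mem (hθ' i)
  letI algR : Algebra (MvPolynomial (Fin n) K) R := algA (k := K) (fun i => φ (θ' i))
  letI algR' : Algebra (MvPolynomial (Fin n) K) R' := algA (k := K) θ'
  have hA : ∀ P, algebraMap (MvPolynomial (Fin n) K) R P = aeval (fun i => φ (θ' i)) P := fun _ => rfl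
  have hA' : ∀ P, algebraMap (MvPolynomial (Fin n) K) R' P = aeval θ' P := fun _ => rfl
  have hφA : ∀ P, φ (algebraMap (MvPolynomial (Fin n) K) R' P) =
      algebraMap (MvPolynomial (Fin n) K) R P := by
    intro P
    let φK : R' →ₐ[K] R := { φ with commutes' := hφK }
    rw [hA, hA']
    exact AlgHom.congr_fun (comp_aeval θ' φK) P
  obtain ⟨N', b', e', hbe', hb', hbs'⟩ := hR'.exists_basisR h' hθ' (fun _ => hd') hA'
  have hbij := bijective_rho hA' h'.alg hθ' (fun _ => hd') hp' b' hbe' hb' b' hbe'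
    (by rw [smul_eq_mul, Ideal.mul_top]; exact hbs')
  set Λ' := Lam lam' b' with hΛ'
  have hΛ1 : ∀ f : R' →ₗ[MvPolynomial (Fin n) K] MvPolynomial (Fin n) K, ∃ g, ∀ y, f y = Λ' (y * g) := by
    intro f
    obtain ⟨g, hg⟩ := hbij.2 (Groth.Agent.LoccohB.GorInjDim.Co.ofLin f)
    refine ⟨g, fun y => ?_⟩
    have h1 := congrArg (fun F : Groth.Agent.LoccohB.GorInjDim.Co (MvPolynomial (Fin n) K) R'
      (MvPolynomial (Fin n) K) => F.toLin y) hg
    exact h1.symm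
  have hΛ2 : ∀ g, (∀ y, Λ' (y * g) = 0) → g = 0 := by
    intro g hg
    apply hbij.1
    rw [map_zero]
    exact Groth.Agent.LoccohB.GorInjDim.Co.ext' fun y => hg y
  have hΛ3 : ∀ y, constantCoeff (Λ' y) = lam' y := fun y => constantCoeff_Lam hA' hp' b' y
  let retrK : R →ₗ[K] R' :=
    { toFun := D.isVer.retr
      map_add' := D.isVer.retr_add
      map_smul' := fun c y => by
        rw [Algebra.smul_def, ← hφK, ← smul_eq_mul, D.retr_smul D.isVer, RingHom.id_apply, smul_eq_mul,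
          ← Algebra.smul_def] }
  let lam : R →ₗ[K] K := lam' ∘ₗ retrK
  have hlam : ∀ x, lam x = lam' (D.isVer.retr x) := fun _ => rfl
  have hdeg : ∀ i, i ≠ s' * q → ∀ c ∈ 𝒜 i, lam c = 0 := by
    intro i hi c hc
    by_cases hqi : (q : ℤ) ∣ i
    · obtain ⟨j, rfl⟩ := hqi
      rw [hlam, hp'.deg j (fun hj => hi (by rw [hj, mul_comm])) _ (D.isVer.retr_mem (by rwa [mul_comm]))]
    · rw [hlam, retr_eq_zero D fun l hl => pr_of_mem_ne hc ?_, map_zero]
      rintro rfl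
      exact hqi hl
  have hideal : ∀ x ∈ Ideal.span (Set.range fun i => φ (θ' i)), lam x = 0 := by
    intro x hx
    have h1 : x ∈ (Ideal.span (Set.range fun i => φ (θ' i)) • ⊤ : Submodule R R) := by
      rwa [smul_eq_mul, Ideal.mul_top]
    obtain ⟨z, rfl⟩ := (mem_span_range_smul_top (M := R) _).mp h1
    rw [map_sum]
    refine Finset.sum_eq_zero fun i _ => ?_
    rw [hlam, D.retr_smul D.isVer]
    exact hp'.ideal _ (Ideal.subset_span ⟨i, rfl⟩) _
  -- regularity of the first two parameters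
  have hw := isWeaklyRegular_ofFn_iff.mp hR.reg
  have hreg₀ : ∀ y : R, φ (θ' ⟨0, by omega⟩) * y = 0 → y = 0 := by
    intro y hy
    have h0 : φ (θ' ⟨0, by omega⟩) • y = 0 := hy
    have h1 := hw ⟨0, by omega⟩ y (by rw [h0]; exact Submodule.zero_mem _)
    simp only [pre_zero, Submodule.bot_smul, Submodule.mem_bot] at h1
    exact h1
  have hpre1 : ∀ y : R, y ∈ (pre (fun i => φ (θ' i)) 1 • ⊤ : Submodule R R) ↔
      ∃ z, y = φ (θ' ⟨0, by omega⟩) * z := by
    intro y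
    have h1 : pre (fun i => φ (θ' i)) 1 = Ideal.span {φ (θ' ⟨0, by omega⟩)} := by
      have := pre_succ (fun i => φ (θ' i)) ⟨0, by omega⟩
      rw [pre_zero, bot_sup_eq] at this
      exact this
    rw [h1, smul_eq_mul, Ideal.mul_top, Ideal.mem_span_singleton']
    constructor
    · rintro ⟨a, ha⟩
      exact ⟨a, by rw [mul_comm, ha]⟩
    · rintro ⟨a, ha⟩
      exact ⟨a, by rw [mul_comm, ha]⟩
  have hreg₁ : ∀ y : R, (∃ z, φ (θ' ⟨1, by omega⟩) * y = φ (θ' ⟨0, by omega⟩) * z) →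
      ∃ z, y = φ (θ' ⟨0, by omega⟩) * z := by
    intro y hy
    rw [← hpre1]
    exact hw ⟨1, by omega⟩ y ((hpre1 _).mpr hy)
  have hleft : ∀ i, ∀ x ∈ 𝒜 i, x ∉ Ideal.span (Set.range fun i => φ (θ' i)) →
      ∃ c ∈ 𝒜 (s' * q - i), lam (x * c) ≠ 0 := by
    intro i x hx hxJ
    by_contra hcon
    push Not at hcon
    apply hxJ
    -- all products vanish
    have h1 : ∀ y, lam (y * x) = 0 := by
      intro y
      obtain ⟨u, hu⟩ := exists_sum_pr (ℳ := 𝒜) y
      rw [← hu, Finset.sum_mul, map_sum]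
      refine Finset.sum_eq_zero fun j _ => ?_
      by_cases hj : j = s' * q - i
      · rw [hj, mul_comm]
        exact hcon _ (pr_mem _ _)
      · exact hdeg (j + i) (by omega) _ (SetLike.mul_mem_graded (pr_mem j y) hx)
    obtain ⟨N, b, e, hbe, -, -⟩ := hR.exists_basisR h hθ (fun _ => hd) hA
    -- coordinates
    have h2 : ∀ l, ∃ Q : Fin n → MvPolynomial (Fin n) K, Λ' (retrA D hφA (b l * x)) = ∑ i, X i * Q i := by
      intro l
      apply exists_X_decomp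
      rw [hΛ3]
      exact h1 (b l)
    choose Q hQ using h2
    have h3 : ∀ l, ∃ x' : R, ∀ r, b.coord l r = Λ' (retrA D hφA (r * x')) := by
      intro l
      refine exists_eq_mul D hφA Λ' hΛ1 hΛ2 hstd hqd (hθ ⟨0, by omega⟩) (hθ ⟨1, by omega⟩) hreg₀ hreg₁ _ (e l) ?_
      intro i' hi' r hr
      have h4 := repr_isWeightedHomogeneous (ℳ := 𝒜) h.alg hθ hA b hbe hr l
      rw [Module.Basis.coord_apply]
      by_contra hne
      obtain ⟨g, hg⟩ := MvPolynomial.exists_coeff_ne_zero hne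
      have h5 := h4 hg
      apply hi'
      rw [← h5, Finsupp.weight_apply, Finsupp.sum_fintype _ _ (by simp)]
      refine Finset.dvd_sum fun j _ => ?_
      rw [nsmul_eq_mul]
      exact Dvd.dvd.mul_left (Dvd.intro_left _ rfl) _
    choose x' hx' using h3
    let z : Fin n → R := fun i => ∑ l, Q l i • x' l
    have hz : ∀ i r, Λ' (retrA D hφA (r * z i)) = ∑ l, Q l i * b.coord l r := by
      intro i r
      rw [Finset.mul_sum, map_sum, map_sum]
      refine Finset.sum_congr rfl fun l _ => ?_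
      rw [mul_smul_comm, map_smul, map_smul, ← hx', smul_eq_mul]
    have h4 : x - ∑ i, φ (θ' i) * z i = 0 := by
      refine eq_zero_of_retr D hφA Λ' hΛ2 hstd hqd (hθ ⟨0, by omega⟩) hreg₀ fun r => ?_
      let F₁ : R →ₗ[MvPolynomial (Fin n) K] MvPolynomial (Fin n) K :=
        { toFun := fun r => Λ' (retrA D hφA (r * (x - ∑ i, φ (θ' i) * z i)))
          map_add' := fun r r' => by rw [add_mul, map_add, map_add]
          map_smul' := fun P r => by rw [smul_mul_assoc, map_smul, map_smul]; rfl }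
      have hF : F₁ = 0 := by
        apply b.ext
        intro l
        change Λ' (retrA D hφA (b l * (x - ∑ i, φ (θ' i) * z i))) = 0
        rw [mul_sub, map_sub, map_sub, hQ, Finset.mul_sum, map_sum, map_sum, sub_eq_zero]
        refine Finset.sum_congr rfl fun i _ => ?_
        have h5 : b l * (φ (θ' i) * z i) = (X i : MvPolynomial (Fin n) K) • (b l * z i) := by
          rw [Algebra.smul_def, hA, aeval_X]
          ring
        rw [h5, map_smul, map_smul, hz, smul_eq_mul]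
        congr 1
        rw [Finset.sum_eq_single l]
        · rw [Module.Basis.coord_apply, Module.Basis.repr_self, Finsupp.single_eq_same, mul_one]
        · intro l' _ hl'
          rw [Module.Basis.coord_apply, Module.Basis.repr_self, Finsupp.single_eq_of_ne hl', mul_zero]
        · intro hl
          exact absurd (Finset.mem_univ l) hl
      exact LinearMap.congr_fun hF r
    rw [sub_eq_zero] at h4
    rw [h4]
    exact Ideal.sum_mem _ fun i _ => Ideal.mul_mem_right _ _ (Ideal.subset_span ⟨i, rfl⟩)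
  refine ⟨lam, hdeg, fun x hx c => hideal _ (Ideal.mul_mem_right _ _ hx), hleft, ?_⟩
  intro i c hc hcJ
  rw [smul_eq_mul, Ideal.mul_top] at hcJ
  obtain ⟨x, hx, hne⟩ := hleft i c hc hcJ
  exact ⟨x, hx, by rwa [smul_eq_mul, mul_comm]⟩

end Main

end K762.VerGor
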