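import Groth.Agent.GrLC.K762.Can
import Groth.Agent.GrLC.K763.VerIrr
import Groth.Agent.S0341

/-!
# Veronese subrings: parameters and socles
-/

set_option autoImplicit false
set_option linter.unusedSectionVars false
set_option linter.style.haveILetI false
universe u

open DirectSum GrLC

namespace K762.VerP

open K762.Base K762.Nak K762.Reg K762.Param K762.Soc K762.Ht K762.Ext K762.Fld K762.AInv K762.Tower
  K762.Pair K762.Can K963.Iface K763.Ver RingTheory.Sequence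

theorem cm_of_gorenstein {R : Type u} [CommRing R] (h : LocCoh.IsGorensteinRing R) :
    LocCoh.IsCohenMacaulayRing R where
  isCohenMacaulayLocalRing_localization p _ := by
    have := h.isGorensteinLocalRing_localization p
    exact Groth.Agent.S0341.result _

variable {R : Type u} [CommRing R] {𝒜 : ℤ → AddSubgroup R} [GradedRing 𝒜]
variable {R' : Type u} [CommRing R'] {𝒜' : ℤ → AddSubgroup R'} [GradedRing 𝒜']
variable {φ : R' →+* R} {q : ℕ} {m : Ideal R}

/-- The graded maximal ideal of the Veronese subring. -/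
def mV (𝒜' : ℤ → AddSubgroup R') : Ideal R' := Ideal.span (⋃ n ∈ Set.Ioi (0 : ℤ), (𝒜' n : Set R'))

/-- `R` as an algebra over the degree zero part of the Veronese. -/
@[reducible] noncomputable def algV (φ : R' →+* R) (𝒜' : ℤ → AddSubgroup R') [GradedRing 𝒜'] : Algebra (deg0 𝒜') R :=
  (φ.comp (deg0 𝒜').subtype).toAlgebra

theorem isField_deg0 (D : Data 𝒜 𝒜' φ q) (h0 : IsField (deg0 𝒜)) : IsField (deg0 𝒜') :=
  MulEquiv.isField h0 D.deg0Equiv.toMulEquiv

theorem posField_ver (D : Data 𝒜 𝒜' φ q) (hpos : ∀ n : ℤ, n < 0 → 𝒜 n = ⊥) (h0 : IsField (deg0 𝒜')) :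
    letI : Field (deg0 𝒜') := h0.toField
    PosField (deg0 𝒜') 𝒜' (mV 𝒜') := by
  letI : Field (deg0 𝒜') := h0.toField
  have hq : (0 : ℤ) < q := by exact_mod_cast D.pos
  exact
    { pos := fun n hn x hx => by
        apply D.inj
        rw [map_zero]
        have h1 := D.map_mem hx
        rw [hpos (n * q) (mul_neg_of_neg_of_pos hn hq), AddSubgroup.mem_bot] at h1
        exact h1
      alg := fun c => c.2
      surj := fun x hx => ⟨⟨x, hx⟩, rfl⟩
      span := rfl }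

theorem posField_base (D : Data 𝒜 𝒜' φ q) (hpos : ∀ n : ℤ, n < 0 → 𝒜 n = ⊥) (h0 : IsField (deg0 𝒜'))
    (hmsp : m = Ideal.span (⋃ n ∈ Set.Ioi (0 : ℤ), (𝒜 n : Set R))) :
    letI : Field (deg0 𝒜') := h0.toField
    letI : Algebra (deg0 𝒜') R := algV φ 𝒜'
    PosField (deg0 𝒜') 𝒜 m := by
  letI : Field (deg0 𝒜') := h0.toField
  letI : Algebra (deg0 𝒜') R := algV φ 𝒜'
  exact
    { pos := fun n hn x hx => by
        rw [hpos n hn, AddSubgroup.mem_bot] at hx
        exact hx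
      alg := fun c => by
        have := D.map_mem (j := 0) c.2
        rwa [zero_mul] at this
      surj := fun x hx => by
        obtain ⟨y, hy, hyx⟩ := D.exists_eq (j := 0) (y := x) (by rwa [zero_mul])
        exact ⟨⟨y, hy⟩, hyx⟩
      span := hmsp }

/-- Contraction of ideals. -/
theorem mem_of_map_mem (D : Data 𝒜 𝒜' φ q) {κ : Type*} [Fintype κ] {θ' : κ → R'} {x : R'}
    (hx : φ x ∈ Ideal.span (Set.range fun i => φ (θ' i))) : x ∈ Ideal.span (Set.range θ') := by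
  have h1 : φ x ∈ (Ideal.span (Set.range fun i => φ (θ' i)) • ⊤ : Submodule R R) := by
    rwa [smul_eq_mul, Ideal.mul_top]
  obtain ⟨z, hz⟩ := (mem_span_range_smul_top (M := R) _).mp h1
  have hr := D.isVer
  have hsum : ∀ s : Finset κ, hr.retr (∑ i ∈ s, φ (θ' i) • z i) = ∑ i ∈ s, θ' i * hr.retr (z i) := by
    classical
    intro s
    induction s using Finset.induction_on with
    | empty =>
      rw [Finset.sum_empty, Finset.sum_empty]
      have := hr.retr_map (0 : R')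
      rwa [map_zero] at this
    | insert i s hi ih =>
      rw [Finset.sum_insert hi, Finset.sum_insert hi, hr.retr_add, ih, D.retr_smul hr, smul_eq_mul]
  have h2 : x = ∑ i, θ' i * hr.retr (z i) := by
    rw [← hsum, ← hz]
    exact (hr.retr_map x).symm
  rw [h2]
  exact Ideal.sum_mem _ fun i _ => Ideal.mul_mem_right _ _ (Ideal.subset_span ⟨i, rfl⟩)

theorem map_mem_of_mem {κ : Type*} [Fintype κ] {θ' : κ → R'} {x : R'}
    (hx : x ∈ Ideal.span (Set.range θ')) : φ x ∈ Ideal.span (Set.range fun i => φ (θ' i)) := by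
  have h1 := Ideal.mem_map_of_mem φ hx
  rw [Ideal.map_span, ← Set.range_comp] at h1
  exact h1

theorem isWeaklyRegular_ver (D : Data 𝒜 𝒜' φ q) {n : ℕ} {θ' : Fin n → R'}
    (hreg : IsWeaklyRegular R (List.ofFn fun i => φ (θ' i))) : IsWeaklyRegular R' (List.ofFn θ') := by
  rw [isWeaklyRegular_ofFn_iff] at hreg ⊢
  intro i x hx
  simp only [smul_eq_mul, Ideal.mul_top] at hx hreg ⊢
  refine mem_of_map_mem (κ := {j : Fin n // (j : ℕ) < i}) D (hreg i _ ?_)
  rw [← map_mul]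
  exact map_mem_of_mem (κ := {j : Fin n // (j : ℕ) < i}) hx

theorem map_mV_le (D : Data 𝒜 𝒜' φ q)
    (hmsp : m = Ideal.span (⋃ n ∈ Set.Ioi (0 : ℤ), (𝒜 n : Set R))) : (mV 𝒜').map φ ≤ m := by
  rw [Ideal.map_le_iff_le_comap, mV, Ideal.span_le]
  intro x hx
  simp only [Set.mem_iUnion] at hx
  obtain ⟨n, hn, hx⟩ := hx
  have hn' : (0 : ℤ) < n := hn
  have hq : (0 : ℤ) < q := by exact_mod_cast D.pos
  rw [SetLike.mem_coe, Ideal.mem_comap, hmsp]
  refine Ideal.subset_span ?_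
  simp only [Set.mem_iUnion]
  exact ⟨n * q, mul_pos hn' hq, D.map_mem hx⟩

theorem pow_le_ver (D : Data 𝒜 𝒜' φ q)
    (hmsp : m = Ideal.span (⋃ n ∈ Set.Ioi (0 : ℤ), (𝒜 n : Set R))) {n : ℕ} {θ' : Fin n → R'} {N : ℕ}
    (hN : m ^ N ≤ Ideal.span (Set.range fun i => φ (θ' i))) : mV 𝒜' ^ N ≤ Ideal.span (Set.range θ') := by
  intro x hx
  refine mem_of_map_mem D (hN ?_)
  have h1 := Ideal.mem_map_of_mem φ hx
  rw [Ideal.map_pow] at h1
  exact Ideal.pow_right_mono (map_mV_le D hmsp) N h1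

/-- The socle of the Veronese. -/
theorem socP_ver (D : Data 𝒜 𝒜' φ q) {n : ℕ} {θ' : Fin n → R'} {s t : ℤ} {x : R} {d : ℤ}
    (hθ' : ∀ i, θ' i ∈ 𝒜' d) (hs : SocP 𝒜 (Ideal.span (Set.range fun i => φ (θ' i))) s x) (hst : s = t * q) :
    ∃ x', SocP 𝒜' (Ideal.span (Set.range θ')) t x' := by
  subst hst
  obtain ⟨x', hx', rfl⟩ := D.exists_eq hs.mem
  refine ⟨x', isHomogeneous_span_range (w := fun _ => d) hθ', hx', fun hmem => hs.nmem (map_mem_of_mem hmem), ?_⟩
  intro i z hz hzJ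
  obtain ⟨y, hy, hxy⟩ := hs.dual (i * q) (φ z) (D.map_mem hz) fun hmem => hzJ (mem_of_map_mem D hmem)
  rw [← sub_mul] at hy
  obtain ⟨y', hy', rfl⟩ := D.exists_eq hy
  refine ⟨y', hy', mem_of_map_mem D ?_⟩
  rw [map_sub, map_mul]
  exact hxy

/-- The degree of a homogeneous socle generator in terms of the `a`-invariant. -/
theorem socP_degree {k : Type u} [Field k] {R : Type u} [CommRing R] [Algebra k R]
    {𝒜 : ℤ → AddSubgroup R} [GradedRing 𝒜] {m : HomogeneousIdeal 𝒜} [IsNoetherianRing R]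
    (h : PosField k 𝒜 m.toIdeal) {n : ℕ} {θ : Fin n → R} {w : Fin n → ℤ}
    (hθ : ∀ i, θ i ∈ 𝒜 (w i)) (hw : ∀ i, 0 < w i) (hreg : IsWeaklyRegular R (List.ofFn θ)) {N : ℕ}
    (hN : m.toIdeal ^ N ≤ Ideal.span (Set.range θ)) {s : ℤ} {t : R}
    (hs : SocP 𝒜 (Ideal.span (Set.range θ)) s t) (I : StarInjRes 𝒜 𝒜) {a : ℤ} :
    endDeg (I.Hgr m n) = ((a : WithTop ℤ) : WithBot (WithTop ℤ)) ↔ s = a + ∑ i, w i := by
  have htor : ∀ x : R, ∃ N : ℕ, ∀ r ∈ m.toIdeal ^ N, r • x ∈ (Ideal.span (Set.range θ) • ⊤ : Submodule R R) := by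
    intro x
    refine ⟨N, fun r hr => ?_⟩
    rw [smul_eq_mul, smul_eq_mul, Ideal.mul_top]
    exact Ideal.mul_mem_right _ _ (hN hr)
  rw [endDeg_eq_iff h hθ hw hreg htor I]
  simp only [smul_eq_mul, Ideal.mul_top]
  constructor
  · rintro ⟨⟨x, hx, hxJ⟩, htop⟩
    apply le_antisymm
    · by_contra hlt
      exact hs.nmem (htop s (by omega) t hs.mem)
    · by_contra hlt
      exact hxJ (hs.top h (by omega) hx)
  · rintro rfl
    exact ⟨⟨t, hs.mem, hs.nmem⟩, fun i hi x hx => hs.top h hi hx⟩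

end K762.VerP
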